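import Cfsg.Agent.Lib.MaxSub.SymReal.Centre

/-!
Isometry groups of matrices as forms: transport of coordinates, the block shape of a form kept by two
anticommuting coordinate involutions, and the elements an isometry group contains.
-/

set_option autoImplicit false
set_option linter.unusedSectionVars false
set_option linter.unusedSimpArgs false
set_option linter.style.haveILetI false

namespace CfsgLib.MaxSub.SymReal

open scoped MatrixGroups
open Cfsg.Geo Matrix CfsgLib.MaxSub.DecompMax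
open CfsgLib.MaxSub.SymEight (bd od cA coe_coordGL cA_mulVec cA_ext bd_mul bd_mul_od od_mul_bd od_mul bd_one
  bd_neg bd_smul bd_inj od_inj pairGL coe_pairGL dup coe_dup)

variable {ι κ : Type} [Fintype ι] [DecidableEq ι] [Fintype κ] [DecidableEq κ] {F : Type*} [Field F]

local notation "Mι" => Matrix ι ι F
local notation "Mκ" => Matrix κ κ F
local notation "Mκκ" => Matrix (κ ⊕ κ) (κ ⊕ κ) F

/-- The elements preserving the form with matrix `B`. -/
def isomM (B : Mι) : Subgroup (GL ι F) where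
  carrier := {g | (g : Mι)ᵀ * B * (g : Mι) = B}
  one_mem' := by
    show ((1 : GL ι F) : Mι)ᵀ * B * _ = B
    rw [Units.val_one, Matrix.transpose_one, Matrix.one_mul, Matrix.mul_one]
  mul_mem' {a b} ha hb := by
    show ((a * b : GL ι F) : Mι)ᵀ * B * _ = B
    rw [Units.val_mul, Matrix.transpose_mul,
      show (b : Mι)ᵀ * (a : Mι)ᵀ * B * ((a : Mι) * (b : Mι)) = (b : Mι)ᵀ * ((a : Mι)ᵀ * B * (a : Mι)) * (b : Mι) by
        simp only [Matrix.mul_assoc], ha, hb]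
  inv_mem' {a} ha := by
    show ((a⁻¹ : GL ι F) : Mι)ᵀ * B * _ = B
    conv_lhs => rw [← ha]
    rw [show ((a⁻¹ : GL ι F) : Mι)ᵀ * ((a : Mι)ᵀ * B * (a : Mι)) * ((a⁻¹ : GL ι F) : Mι) =
      ((a : Mι) * ((a⁻¹ : GL ι F) : Mι))ᵀ * B * ((a : Mι) * ((a⁻¹ : GL ι F) : Mι)) by
        rw [Matrix.transpose_mul]; simp only [Matrix.mul_assoc]]
    rw [Units.mul_inv, Matrix.transpose_one, Matrix.one_mul, Matrix.mul_one]

theorem mem_isomM {B : Mι} {g : GL ι F} : g ∈ isomM B ↔ (g : Mι)ᵀ * B * (g : Mι) = B := Iff.rfl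

theorem transpose_mul_of_isom {B : Mι} {g : GL ι F} (hg : g ∈ isomM B) :
    (g : Mι)ᵀ * B = B * ((g⁻¹ : GL ι F) : Mι) := by
  conv_rhs => rw [← mem_isomM.1 hg]
  rw [Matrix.mul_assoc ((g : Mι)ᵀ * B), Units.mul_inv, Matrix.mul_one]

/-- The form with matrix `B`. -/
def form (B : Mι) (u v : ι → F) : F := u ⬝ᵥ (B *ᵥ v)

theorem form_mul (B A : Mι) (u v : ι → F) : form B (A *ᵥ u) (A *ᵥ v) = form (Aᵀ * B * A) u v := by
  rw [form, form, Matrix.mulVec_mulVec, ← Matrix.vecMul_transpose, ← Matrix.dotProduct_mulVec, Matrix.mulVec_mulVec,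
    Matrix.mul_assoc]

theorem form_ext {B B' : Mι} (h : ∀ u v, form B u v = form B' u v) : B = B' := by
  ext i j
  have := h (Pi.single i 1) (Pi.single j 1)
  simpa [form] using this

theorem mem_isomM_form {B : Mι} {g : GL ι F} :
    g ∈ isomM B ↔ ∀ u v, form B ((g : Mι) *ᵥ u) ((g : Mι) *ᵥ v) = form B u v := by
  simp only [form_mul]
  exact ⟨fun h u v => by rw [mem_isomM.1 h], fun h => form_ext h⟩

theorem isomM_map {B : Mι} {B' : Mκ} (Φ : (ι → F) ≃ₗ[F] (κ → F))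
    (h : ∀ u v, form B' (Φ u) (Φ v) = form B u v) : (isomM B).map (coordGL Φ).toMonoidHom = isomM B' := by
  ext g
  obtain ⟨g, rfl⟩ := (coordGL Φ).surjective g
  rw [show coordGL Φ g = (coordGL Φ).toMonoidHom g from rfl,
    Subgroup.mem_map_iff_mem (f := (coordGL Φ).toMonoidHom) (coordGL Φ).injective, MulEquiv.coe_toMonoidHom, mem_isomM_form,
    mem_isomM_form]
  constructor
  · intro hg u v
    obtain ⟨u, rfl⟩ := Φ.surjective u
    obtain ⟨v, rfl⟩ := Φ.surjective v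
    rw [coordGL_mulVec, coordGL_mulVec, h, hg, h]
  · intro hg u v
    have := hg (Φ u) (Φ v)
    rwa [coordGL_mulVec, coordGL_mulVec, h, h] at this

/-- The transported form. -/
theorem exists_form_map (B : Mι) (Φ : (ι → F) ≃ₗ[F] (κ → F)) :
    ∃ B' : Mκ, (∀ u v, form B' (Φ u) (Φ v) = form B u v) ∧ (Bᵀ = B → B'ᵀ = B') ∧ (Bᵀ = -B → B'ᵀ = -B') ∧
      (IsUnit B → IsUnit B') := by
  obtain ⟨P, hP⟩ : ∃ P : Matrix ι κ F, P = LinearMap.toMatrix' (Φ.symm : (κ → F) →ₗ[F] (ι → F)) := ⟨_, rfl⟩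
  obtain ⟨Q, hQ⟩ : ∃ Q : Matrix κ ι F, Q = LinearMap.toMatrix' (Φ : (ι → F) →ₗ[F] (κ → F)) := ⟨_, rfl⟩
  have hPQ : P * Q = 1 := by rw [hP, hQ, ← LinearMap.toMatrix'_comp]; simp
  have hQP : Q * P = 1 := by rw [hP, hQ, ← LinearMap.toMatrix'_comp]; simp
  refine ⟨Pᵀ * B * P, fun u v => ?_, fun hB => ?_, fun hB => ?_, fun hB => ?_⟩
  · have e : ∀ w, P *ᵥ Φ w = w := fun w => by rw [hP, LinearMap.toMatrix'_mulVec]; simp
    rw [form, Matrix.mul_assoc, ← Matrix.mulVec_mulVec, Matrix.dotProduct_mulVec, Matrix.vecMul_transpose,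
      ← Matrix.mulVec_mulVec, e, e, form]
  · rw [Matrix.transpose_mul, Matrix.transpose_mul, Matrix.transpose_transpose, hB, Matrix.mul_assoc]
  · rw [Matrix.transpose_mul, Matrix.transpose_mul, Matrix.transpose_transpose, hB, Matrix.neg_mul, Matrix.mul_neg,
      Matrix.mul_assoc]
  · obtain ⟨U, rfl⟩ := hB
    refine ⟨⟨Pᵀ * (U : Mι) * P, Q * ((U⁻¹ : GL ι F) : Mι) * Qᵀ, ?_, ?_⟩, rfl⟩
    · rw [show Pᵀ * (U : Mι) * P * (Q * ((U⁻¹ : GL ι F) : Mι) * Qᵀ) =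
        Pᵀ * ((U : Mι) * (P * Q) * ((U⁻¹ : GL ι F) : Mι)) * Qᵀ by simp only [Matrix.mul_assoc],
        hPQ, Matrix.mul_one, Units.mul_inv, Matrix.mul_one, ← Matrix.transpose_mul, hQP, Matrix.transpose_one]
    · rw [show Q * ((U⁻¹ : GL ι F) : Mι) * Qᵀ * (Pᵀ * (U : Mι) * P) =
        Q * ((U⁻¹ : GL ι F) : Mι) * (Qᵀ * Pᵀ) * (U : Mι) * P by simp only [Matrix.mul_assoc],
        ← Matrix.transpose_mul, hPQ, Matrix.transpose_one, Matrix.mul_one, Matrix.mul_assoc Q, Units.inv_mul,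
        Matrix.mul_one, hQP]

/-- A form kept by both coordinate involutions consists of two equal blocks. -/
theorem block_form (h2 : (2 : F) ≠ 0) {B : Mκκ} {z x : GL (κ ⊕ κ) F} (hz : z ∈ isomM B) (hx : x ∈ isomM B)
    (hzm : (z : Mκκ) = bd 1 (-1)) (hxm : (x : Mκκ) = od 1 1) : ∃ B' : Mκ, B = bd B' B' := by
  have ez : (bd (1 : Mκ) (-1))ᵀ = bd 1 (-1) := by simp [bd, Matrix.fromBlocks_transpose]
  have ex : (od (1 : Mκ) 1)ᵀ = od 1 1 := by simp [od, Matrix.fromBlocks_transpose]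
  rw [mem_isomM, hzm, ez] at hz
  rw [mem_isomM, hxm, ex] at hx
  rw [← Matrix.fromBlocks_toBlocks B] at hz hx ⊢
  simp only [bd, od, Matrix.fromBlocks_multiply, Matrix.fromBlocks_inj, Matrix.mul_zero, Matrix.zero_mul,
    Matrix.one_mul, Matrix.mul_one, Matrix.neg_mul, Matrix.mul_neg, add_zero, zero_add, neg_neg] at hz hx
  have key : ∀ A : Mκ, -A = A → A = 0 := fun A h => by
    have : (2 : F) • A = 0 := by rw [two_smul]; nth_rewrite 1 [← h]; exact neg_add_cancel _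
    exact (smul_eq_zero.1 this).resolve_left h2
  exact ⟨B.toBlocks₁₁, by rw [bd, Matrix.fromBlocks_inj]; exact ⟨rfl, key _ hz.2.1, key _ hz.2.2.1, hx.1⟩⟩

theorem pairGL_mem_isomM {B : Mκ} {a b : GL κ F} :
    pairGL (a, b) ∈ isomM (bd B B) ↔ a ∈ isomM B ∧ b ∈ isomM B := by
  rw [mem_isomM, coe_pairGL, show (bd (a : Mκ) (b : Mκ))ᵀ = bd (a : Mκ)ᵀ (b : Mκ)ᵀ by
    simp [bd, Matrix.fromBlocks_transpose], bd_mul, bd_mul]
  exact ⟨fun h => ⟨(bd_inj h).1, (bd_inj h).2⟩, fun h => by rw [mem_isomM.1 h.1, mem_isomM.1 h.2]⟩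

theorem dup_mem_isomM {B : Mκ} {a : GL κ F} : dup a ∈ isomM (bd B B) ↔ a ∈ isomM B := by
  show pairGL (a, a) ∈ _ ↔ _
  rw [pairGL_mem_isomM, and_self_iff]

section elements

variable {B : Matrix ι ι F} {x : GL ι F}

theorem transpose_mul_one_add (h2 : (2 : F) ≠ 0) (hxB : x ∈ isomM B) (hx : x * x = 1) : (1 + (x : Mι))ᵀ * B = B * (1 + (x : Mι)) ∧
    (1 - (x : Mι))ᵀ * B = B * (1 - (x : Mι)) := by
  have e := transpose_mul_of_isom hxB
  rw [inv_eq_of_mul_eq_one_left hx] at e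
  constructor <;> simp only [Matrix.transpose_add, Matrix.transpose_sub, Matrix.transpose_one, Matrix.add_mul,
    Matrix.sub_mul, Matrix.mul_add, Matrix.mul_sub, Matrix.one_mul, Matrix.mul_one, e]

theorem ctrl_mem_isomM (h2 : (2 : F) ≠ 0) (hxB : x ∈ isomM B) (hx : x * x = 1) {q : GL ι F} (hq : q ∈ isomM B) (hc : Commute x q) : ctrl x q ∈ isomM B := by
  obtain ⟨e1, e2⟩ := transpose_mul_one_add h2 hxB hx
  rw [mem_isomM, ctrl_val h2 hx hc]
  have hq' : (1 - (x : Mι)) * ((q⁻¹ : GL ι F) : Mι) = ((q⁻¹ : GL ι F) : Mι) * (1 - (x : Mι)) := by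
    rw [sub_mul, mul_sub, Matrix.one_mul, Matrix.mul_one, ← Units.val_mul, hc.inv_right.eq, Units.val_mul]
  have et : (ctrlM (x : Mι) (q : Mι))ᵀ * B = B * ctrlM (x : Mι) ((q⁻¹ : GL ι F) : Mι) := by
    rw [ctrlM, ctrlM, Matrix.transpose_smul, Matrix.smul_mul, Matrix.mul_smul, Matrix.transpose_add,
      Matrix.transpose_mul, Matrix.add_mul, e1, Matrix.mul_assoc, e2, ← Matrix.mul_assoc,
      transpose_mul_of_isom hq, Matrix.mul_assoc B, ← hq', ← Matrix.mul_add]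
  rw [et, Matrix.mul_assoc, ctrlM_mul h2 (by rw [← Units.val_mul, hx, Units.val_one])
    (congrArg Units.val hc.inv_right.eq), Units.inv_mul, ctrlM_one h2, Matrix.mul_one]

theorem scal_of_isomM (h2 : (2 : F) ≠ 0) (hxB : x ∈ isomM B) (hx : x * x = 1) {q h : GL ι F} (hne : x ≠ 1) (hq : q ∈ isomM B) (hc : Commute x q) (hh : h ∈ isomM B)
    (hu : IsUnit B) {l : F} (he : (h : Mι) = ctrlM (x : Mι) (l • (q : Mι))) : l = 1 ∨ l = -1 := by
  obtain ⟨e1, e2⟩ := transpose_mul_one_add h2 hxB hx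
  have hq' : (1 - (x : Mι)) * ((q⁻¹ : GL ι F) : Mι) = ((q⁻¹ : GL ι F) : Mι) * (1 - (x : Mι)) := by
    rw [sub_mul, mul_sub, Matrix.one_mul, Matrix.mul_one, ← Units.val_mul, hc.inv_right.eq, Units.val_mul]
  have et : (ctrlM (x : Mι) (l • (q : Mι)))ᵀ * B = B * ctrlM (x : Mι) (l • ((q⁻¹ : GL ι F) : Mι)) := by
    rw [ctrlM, ctrlM]
    generalize (1 : Mι) + (x : Mι) = P at e1 ⊢
    generalize (1 : Mι) - (x : Mι) = Q at e2 hq' ⊢
    simp only [Matrix.transpose_smul, Matrix.smul_mul, Matrix.mul_smul, Matrix.transpose_add,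
      Matrix.transpose_mul, Matrix.add_mul, Matrix.mul_add B, e1]
    rw [Matrix.mul_assoc, e2, ← Matrix.mul_assoc, transpose_mul_of_isom hq, Matrix.mul_assoc B, ← hq']
  have hxx : (x : Mι) * (x : Mι) = 1 := by rw [← Units.val_mul, hx, Units.val_one]
  rw [mem_isomM, he, et, Matrix.mul_assoc, ctrlM_mul h2 hxx (by
    rw [Matrix.mul_smul, Matrix.smul_mul, ← Units.val_mul, hc.inv_right.eq, Units.val_mul])] at hh
  have h1 : ctrlM (x : Mι) (l • ((q⁻¹ : GL ι F) : Mι) * (l • (q : Mι))) = 1 := by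
    obtain ⟨U, rfl⟩ := hu
    calc _ = ((U⁻¹ : GL ι F) : Mι) * ((U : Mι) * ctrlM (x : Mι) (l • ((q⁻¹ : GL ι F) : Mι) * (l • (q : Mι)))) := by
          rw [Units.inv_mul_cancel_left]
      _ = 1 := by rw [hh, Units.inv_mul]
  rw [Matrix.smul_mul, Matrix.mul_smul, smul_smul, Units.inv_mul] at h1
  have h3 : (l * l - 1) • (1 - (x : Mι)) = 0 := by
    have h4 := congrArg (fun X : Mι => (2 : F) • X) h1
    simp only [ctrlM, smul_smul, mul_inv_cancel₀ h2, one_smul, Matrix.mul_smul, Matrix.mul_one] at h4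
    rw [← sub_eq_zero] at h4
    rw [← h4]
    module
  rcases smul_eq_zero.1 h3 with h4 | h4
  · exact mul_self_eq_one_iff.1 (sub_eq_zero.1 h4)
  · exact absurd (Units.ext (by rw [Units.val_one]; exact (sub_eq_zero.1 h4).symm) : x = 1) hne

theorem dup_mem_isomM' (h2 : (2 : F) ≠ 0) (hxB : x ∈ isomM B) (hx : x * x = 1) {X g h : GL ι F} (hX : X ∈ isomM B) (hXX : X * X = 1) (hxX : Anti x X) (hg : g ∈ isomM B)
    (hgx : Commute g x)
    (he : (h : Mι) = (2 : F)⁻¹ • ((g : Mι) * (1 + (x : Mι)) + (X : Mι) * (g : Mι) * (X : Mι) * (1 - (x : Mι)))) :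
    h ∈ isomM B := by
  obtain ⟨e1, e2⟩ := transpose_mul_one_add h2 hxB hx
  obtain ⟨y, hy⟩ : ∃ y, y = X * g * X := ⟨_, rfl⟩
  have hyB : y ∈ isomM B := hy ▸ mul_mem (mul_mem hX hg) hX
  have hyx : Commute y x := by
    rw [hy]; exact (Anti.mul_comm_left hxX.symm hgx).mul_anti_left hxX.symm
  have cg : ∀ {u : GL ι F}, Commute u x → (1 + (x : Mι)) * (u : Mι) = (u : Mι) * (1 + (x : Mι)) ∧
      (1 - (x : Mι)) * (u : Mι) = (u : Mι) * (1 - (x : Mι)) := fun {u} hu => by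
    have e : (x : Mι) * (u : Mι) = (u : Mι) * (x : Mι) := (congrArg Units.val hu.eq).symm
    constructor <;> simp only [add_mul, sub_mul, mul_add, mul_sub, Matrix.one_mul, Matrix.mul_one, e]
  have hxx : (x : Mι) * (x : Mι) = 1 := by rw [← Units.val_mul, hx, Units.val_one]
  rw [← Units.val_mul X g, ← Units.val_mul _ X, ← hy] at he
  have et : (h : Mι)ᵀ * B = B * ((2 : F)⁻¹ • ((1 + (x : Mι)) * ((g⁻¹ : GL ι F) : Mι) +
      (1 - (x : Mι)) * ((y⁻¹ : GL ι F) : Mι))) := by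
    rw [he]
    generalize (1 : Mι) + (x : Mι) = P at e1 ⊢
    generalize (1 : Mι) - (x : Mι) = Q at e2 ⊢
    simp only [Matrix.transpose_smul, Matrix.smul_mul, Matrix.mul_smul, Matrix.transpose_add,
      Matrix.transpose_mul, Matrix.add_mul, Matrix.mul_add B]
    rw [Matrix.mul_assoc Pᵀ, transpose_mul_of_isom hg, Matrix.mul_assoc Qᵀ, transpose_mul_of_isom hyB]
    simp only [← Matrix.mul_assoc, e1, e2]
  have pp : (1 + (x : Mι)) * (1 + (x : Mι)) = (2 : F) • (1 + (x : Mι)) := by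
    simp only [mul_add, add_mul, Matrix.one_mul, Matrix.mul_one, hxx, two_smul]; abel
  have mm : (1 - (x : Mι)) * (1 - (x : Mι)) = (2 : F) • (1 - (x : Mι)) := by
    simp only [mul_sub, sub_mul, Matrix.one_mul, Matrix.mul_one, hxx, two_smul]; abel
  have pm : (1 + (x : Mι)) * (1 - (x : Mι)) = 0 := by
    simp only [mul_sub, add_mul, Matrix.one_mul, Matrix.mul_one, hxx]; abel
  have mp : (1 - (x : Mι)) * (1 + (x : Mι)) = 0 := by
    simp only [mul_add, sub_mul, Matrix.one_mul, Matrix.mul_one, hxx]; abel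
  have hprod : ((1 + (x : Mι)) * ((g⁻¹ : GL ι F) : Mι) + (1 - (x : Mι)) * ((y⁻¹ : GL ι F) : Mι)) *
      ((g : Mι) * (1 + (x : Mι)) + (y : Mι) * (1 - (x : Mι))) =
      (2 : F) • ((1 + (x : Mι)) + (1 - (x : Mι))) := by
    have k1 : (1 + (x : Mι)) * ((g⁻¹ : GL ι F) : Mι) * ((g : Mι) * (1 + (x : Mι))) = (2 : F) • (1 + (x : Mι)) := by
      rw [Matrix.mul_assoc, Units.inv_mul_cancel_left, pp]
    have k2 : (1 - (x : Mι)) * ((y⁻¹ : GL ι F) : Mι) * ((y : Mι) * (1 - (x : Mι))) = (2 : F) • (1 - (x : Mι)) := by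
      rw [Matrix.mul_assoc, Units.inv_mul_cancel_left, mm]
    have k3 : (1 + (x : Mι)) * ((g⁻¹ : GL ι F) : Mι) * ((y : Mι) * (1 - (x : Mι))) = 0 := by
      rw [(cg hgx.inv_left).1, Matrix.mul_assoc, ← Matrix.mul_assoc (1 + (x : Mι)), (cg hyx).1, Matrix.mul_assoc,
        pm, Matrix.mul_zero, Matrix.mul_zero]
    have k4 : (1 - (x : Mι)) * ((y⁻¹ : GL ι F) : Mι) * ((g : Mι) * (1 + (x : Mι))) = 0 := by
      rw [(cg hyx.inv_left).2, Matrix.mul_assoc, ← Matrix.mul_assoc (1 - (x : Mι)), (cg hgx).2, Matrix.mul_assoc,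
        mp, Matrix.mul_zero, Matrix.mul_zero]
    rw [Matrix.add_mul, Matrix.mul_add (_ * _), Matrix.mul_add (_ * _), k1, k2, k3, k4, add_zero, zero_add,
      smul_add]
    module
  rw [mem_isomM, et, he, Matrix.mul_assoc]
  simp only [Matrix.smul_mul, Matrix.mul_smul, hprod, smul_smul,
    show (1 : Mι) + (x : Mι) + (1 - (x : Mι)) = (2 : F) • 1 by rw [two_smul]; abel, Matrix.mul_one]
  rw [show (2 : F)⁻¹ * ((2 : F)⁻¹ * (2 * 2)) = 1 by field_simp, one_smul]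

end elements

end CfsgLib.MaxSub.SymReal
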