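import Mathlib

/-!
A fusion lemma: a subgroup controlling a distinguished odd invariant class of elements of an elementary
abelian normal subgroup `R` of `N` contains the centraliser of a set of commuting involutions as soon as it
contains the centraliser of that set together with a further involution.
-/

set_option autoImplicit false
set_option linter.unusedSectionVars false

namespace CfsgLib.MaxSub.SymReal

variable {Γ : Type*} [Group Γ]

/-- `R` is elementary abelian, normalised by `N`, and `N` controls the class `Good` inside `M`. -/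
structure Setup (M N R : Subgroup Γ) (Good : Γ → Prop) : Prop where
  finM : Finite M
  le_N : R ≤ N
  le_M : R ≤ M
  norm : ∀ n ∈ N, ∀ r ∈ R, n * r * n⁻¹ ∈ R
  invol : ∀ r ∈ R, r * r = 1
  good_mem : ∀ r, Good r → r ∈ R
  good_ne : ∀ r, Good r → r ≠ 1
  good_norm : ∀ n ∈ N, ∀ r, Good r → Good (n * r * n⁻¹)
  odd : Odd {r | Good r}.ncard
  cent : ∀ r, Good r → ∀ g ∈ M, g * r = r * g → g ∈ N
  weak : ∀ r, Good r → ∀ g ∈ M, g * r * g⁻¹ ∈ N → g ∈ N

/-- An involution preserving a finite set of odd size fixes an element; a commuting family does as well. -/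
theorem exists_fixed_of_odd {Z : Set Γ} (hZf : Z.Finite) (hodd : Odd Z.ncard) {S : Set Γ} (hSf : S.Finite)
    (hS : ∀ x ∈ S, x * x = 1 ∧ ∀ r ∈ Z, x * r * x⁻¹ ∈ Z) (hcomm : ∀ x ∈ S, ∀ y ∈ S, x * y = y * x) :
    ∃ r ∈ Z, ∀ x ∈ S, x * r = r * x := by
  classical
  suffices H : ∀ (T : Set Γ), T.Finite → T ⊆ S → Odd {r ∈ Z | ∀ x ∈ T, x * r = r * x}.ncard by
    obtain ⟨r, hr⟩ := (Set.ncard_pos (hZf.subset fun r hr => hr.1)).1 (H S hSf subset_rfl).pos
    exact ⟨r, hr.1, hr.2⟩
  intro T hTf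
  induction T, hTf using Set.Finite.induction_on with
  | empty =>
    intro _
    simpa using hodd
  | @insert a U _ _ ih =>
    intro hsub
    have haS := hsub (Set.mem_insert _ _)
    have hodd' := ih fun x hx => hsub (Set.mem_insert_of_mem _ hx)
    obtain ⟨haa, hamap⟩ := hS a haS
    have ha' : a⁻¹ = a := inv_eq_of_mul_eq_one_left haa
    have hfin : {r ∈ Z | ∀ x ∈ U, x * r = r * x}.Finite := hZf.subset fun r hr => hr.1
    let P := hfin.toFinset
    have hmap : ∀ r ∈ P, a * r * a⁻¹ ∈ P := by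
      intro r hr
      simp only [P, Set.Finite.mem_toFinset, Set.mem_setOf_eq] at hr ⊢
      refine ⟨hamap r hr.1, fun x hx => ?_⟩
      have h1 : Commute x a := hcomm x (hsub (Set.mem_insert_of_mem _ hx)) a haS
      exact ((h1.mul_right (show Commute x r from hr.2 x hx)).mul_right h1.inv_right).eq
    have hset : {r ∈ Z | ∀ x ∈ insert a U, x * r = r * x} =
        ↑(P.filter fun r => a * r * a⁻¹ = r) := by
      ext r
      simp only [P, Finset.coe_filter, Set.Finite.mem_toFinset, Set.mem_setOf_eq, Set.mem_insert_iff,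
        forall_eq_or_imp, mul_inv_eq_iff_eq_mul]
      tauto
    rw [hset, Set.ncard_coe_finset]
    rw [Set.ncard_eq_toFinset_card _ hfin] at hodd'
    have hdec := Finset.card_filter_add_card_filter_not (s := P) (p := fun r => a * r * a⁻¹ = r)
    obtain ⟨j, hj⟩ : Even (P.filter fun r => ¬ a * r * a⁻¹ = r).card := by
      obtain ⟨Q, hQ⟩ : ∃ Q, Q = P.filter fun r => ¬ a * r * a⁻¹ = r := ⟨_, rfl⟩
      rw [← hQ]
      have hinv : ∀ r, a * (a * r * a⁻¹) * a⁻¹ = r := fun r => by
        rw [show a * (a * r * a⁻¹) * a⁻¹ = (a * a) * r * (a⁻¹ * a⁻¹) by group, haa, ha', haa, one_mul, mul_one]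
      have hmemQ : ∀ r ∈ Q, a * r * a⁻¹ ∈ Q := by
        intro r hr
        rw [hQ, Finset.mem_filter] at hr ⊢
        exact ⟨hmap r hr.1, fun e => hr.2 (by rw [hinv] at e; exact e.symm)⟩
      have h0 : (Q.card : ZMod 2) = 0 := by
        rw [Finset.card_eq_sum_ones, Nat.cast_sum]
        refine Finset.sum_involution (fun r _ => a * r * a⁻¹) (fun r _ => ?_) (fun r hr _ => ?_) hmemQ
          fun r _ => hinv r
        · simp only [Nat.cast_one]; decide
        · rw [hQ, Finset.mem_filter] at hr; exact hr.2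
      exact even_iff_two_dvd.2 ((ZMod.natCast_eq_zero_iff_even.1 h0).two_dvd)
    rw [Nat.odd_iff] at hodd' ⊢
    change P.card % 2 = 1 at hodd'
    omega

namespace Setup

variable {M N R : Subgroup Γ} {Good : Γ → Prop} (h : Setup M N R Good)
include h

theorem inv_eq {r : Γ} (hr : r ∈ R) : r⁻¹ = r := inv_eq_of_mul_eq_one_left (h.invol r hr)

theorem comm {r s : Γ} (hr : r ∈ R) (hs : s ∈ R) : r * s = s * r := by
  have := h.inv_eq (R.mul_mem hr hs)
  rw [mul_inv_rev, h.inv_eq hr, h.inv_eq hs] at this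
  exact this.symm

/-- Commuting involutions normalising `R` fix an element of the distinguished class. -/
theorem exists_fixed {S : Set Γ} (hS : ∀ x ∈ S, x ∈ M ∧ x ∈ N ∧ x * x = 1)
    (hcomm : ∀ x ∈ S, ∀ y ∈ S, x * y = y * x) : ∃ r, Good r ∧ ∀ x ∈ S, x * r = r * x := by
  have := h.finM
  exact exists_fixed_of_odd ((Set.toFinite (M : Set Γ)).subset fun r hr => h.le_M (h.good_mem r hr)) h.odd
    ((Set.toFinite (M : Set Γ)).subset fun x hx => (hS x hx).1)
    (fun x hx => ⟨(hS x hx).2.2, fun r hr => h.good_norm x (hS x hx).2.1 r hr⟩) hcomm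

omit h in
/-- Powers of a product of two involutions are inverted by the first. -/
theorem flip_pow {z y : Γ} (hz : z * z = 1) (hy : y * y = 1) (i : ℕ) :
    z * (z * y) ^ i = ((z * y) ^ i)⁻¹ * z := by
  induction i with
  | zero => simp
  | succ i ih =>
    have h1 : z * (z * y) = (z * y)⁻¹ * z := by
      rw [mul_inv_rev, inv_eq_of_mul_eq_one_left hz, inv_eq_of_mul_eq_one_left hy, ← mul_assoc z z,
        hz, one_mul, mul_assoc, hz, mul_one]
    rw [pow_succ, ← mul_assoc, ih, mul_assoc, h1, ← mul_assoc, ← mul_inv_rev, ← pow_succ',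
      ← pow_succ]

/-- The main lemma. -/
theorem centralizer_le {E₀ : Set Γ} {t : Γ} {Z : Set Γ}
    (hE₀ : ∀ x ∈ E₀, x ∈ M ∧ x ∈ N ∧ x * x = 1 ∧ x * t = t * x)
    (hc₀ : ∀ x ∈ E₀, ∀ y ∈ E₀, x * y = y * x)
    (htM : t ∈ M) (htN : t ∈ N) (htt : t * t = 1) (htR : t ∉ R)
    (hZ : ∀ r, r ∈ Z ↔ Good r ∧ (∃ u ∈ R, u * t * u⁻¹ * t⁻¹ = r) ∧ ∀ e ∈ E₀, ∃ u ∈ R, u * e * u⁻¹ * e⁻¹ = r)
    (hodd : Odd Z.ncard)
    (hZq : ∀ r ∈ Z, ∃ q ∈ R, (∀ x ∈ E₀, x * q = q * x) ∧ q * t * q⁻¹ * t⁻¹ = r)
    (hgood : ∀ r ∈ Z, ∀ w ∈ R, w * t = t * w → w ≠ 1 → Good (r * w) → Good w)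
    (hbase : ∀ g ∈ M, (∀ x ∈ E₀, g * x = x * g) → g * t = t * g → g ∈ N) :
    ∀ g ∈ M, (∀ x ∈ E₀, g * x = x * g) → g ∈ N := by
  classical
  have := h.finM
  have ht' : t⁻¹ = t := inv_eq_of_mul_eq_one_left htt
  have hR1 : ∀ u ∈ R, u * t * u⁻¹ * t⁻¹ ∈ R := fun u hu => by
    rw [mul_assoc u, mul_assoc u]
    exact R.mul_mem hu (h.norm t htN _ (R.inv_mem hu))
  -- elements fixing a translate of `t` preserve `Z`
  have hinv : ∀ d ∈ N, (∀ e ∈ E₀, d * e = e * d) → ∀ r ∈ R, d * (r * t) = r * t * d → ∀ a ∈ Z, d * a * d⁻¹ ∈ Z := by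
    intro d hd hdE r hr hdw a ha
    rw [hZ] at ha ⊢
    obtain ⟨hG, ⟨u, hu, hut⟩, hE⟩ := ha
    have hcw : ∀ u ∈ R, u * (r * t) * u⁻¹ * (r * t)⁻¹ = u * t * u⁻¹ * t⁻¹ := by
      intro u hu
      calc u * (r * t) * u⁻¹ * (r * t)⁻¹ = (u * r) * t * u⁻¹ * (t⁻¹ * r⁻¹) := by group
        _ = r * (u * t * u⁻¹ * t⁻¹) * r⁻¹ := by rw [h.comm hu hr]; group
        _ = u * t * u⁻¹ * t⁻¹ := by rw [h.comm hr (hR1 u hu), mul_assoc, mul_inv_cancel, mul_one]
    have hdw' : d * (r * t) * d⁻¹ = r * t := by rw [hdw, mul_assoc, mul_inv_cancel, mul_one]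
    refine ⟨h.good_norm d hd a hG, ⟨d * u * d⁻¹, h.norm d hd u hu, ?_⟩, fun e he => ?_⟩
    · rw [← hcw _ (h.norm d hd u hu), ← hut, ← hcw u hu]
      nth_rewrite 1 [← hdw']
      nth_rewrite 2 [← hdw']
      group
    · obtain ⟨u, hu, hue⟩ := hE e he
      refine ⟨d * u * d⁻¹, h.norm d hd u hu, ?_⟩
      have he' : d * e * d⁻¹ = e := by rw [hdE e he, mul_assoc, mul_inv_cancel, mul_one]
      rw [← hue]
      nth_rewrite 1 [← he']
      nth_rewrite 2 [← he']
      group
  by_contra hcon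
  push Not at hcon
  let P : Set Γ → Prop := fun S => E₀ ⊆ S ∧ (∀ x ∈ S, x ∈ M ∧ x ∈ N ∧ x * x = 1 ∧ x * t = t * x) ∧
    (∀ x ∈ S, ∀ y ∈ S, x * y = y * x) ∧ ∃ g ∈ M, (∀ x ∈ S, g * x = x * g) ∧ g ∉ N
  have hP0 : P E₀ := by
    obtain ⟨g, hg, hgc, hgN⟩ := hcon
    exact ⟨subset_rfl, hE₀, hc₀, g, hg, hgc, hgN⟩
  have hfin : {S : Set Γ | P S}.Finite :=
    (Set.toFinite (M : Set Γ)).finite_subsets.subset fun S hS x hx => (hS.2.1 x hx).1
  obtain ⟨E, hE, hmax⟩ := hfin.exists_maximal ⟨E₀, hP0⟩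
  obtain ⟨hsub, hmem, hEc, g, hgM, hgE, hgN⟩ := hE
  obtain ⟨z, hzZ, hzE⟩ := exists_fixed_of_odd ((Set.toFinite (M : Set Γ)).subset fun r hr =>
      h.le_M (h.good_mem r ((hZ r).1 hr).1)) hodd ((Set.toFinite (M : Set Γ)).subset fun x hx => (hmem x hx).1)
    (fun x hx => ⟨(hmem x hx).2.2.1, hinv x (hmem x hx).2.1 (fun e he => hEc x hx e (hsub he)) 1 R.one_mem
      (by rw [one_mul]; exact (hmem x hx).2.2.2)⟩) hEc
  have hzG : Good z := ((hZ z).1 hzZ).1
  have hzR : z ∈ R := h.good_mem z hzG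
  have hzz : z * z = 1 := h.invol z hzR
  have hzM : z ∈ M := h.le_M hzR
  -- conjugates of `t` inside `N`
  have hfix : ∀ d ∈ M, (∀ x ∈ E, d * x = x * d) → d * t * d⁻¹ ∈ N → d ∈ N := by
    intro d hd hdE hy
    set y := d * t * d⁻¹ with hydef
    have hyy : y * y = 1 := by
      rw [hydef, show d * t * d⁻¹ * (d * t * d⁻¹) = d * (t * t) * d⁻¹ by group, htt, mul_one,
        mul_inv_cancel]
    have hyE : ∀ x ∈ E, y * x = x * y := fun x hx => by
      have h1 : d * x = x * d := hdE x hx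
      have h3 : d⁻¹ * x = x * d⁻¹ := (show Commute d x from h1).inv_left.eq
      have h2 : t * x = x * t := ((hmem x hx).2.2.2).symm
      rw [hydef, mul_assoc, h3, ← mul_assoc, mul_assoc d, h2, ← mul_assoc, h1]
      simp only [mul_assoc]
    obtain ⟨r, hrG, hrS⟩ := h.exists_fixed (S := insert y E)
      (by
        rintro x (rfl | hx)
        · exact ⟨M.mul_mem (M.mul_mem hd htM) (M.inv_mem hd), hy, hyy⟩
        · exact ⟨(hmem x hx).1, (hmem x hx).2.1, (hmem x hx).2.2.1⟩)
      (by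
        rintro x (rfl | hx) x' (rfl | hx')
        · rfl
        · exact hyE x' hx'
        · exact (hyE x hx).symm
        · exact hEc x hx x' hx')
    have hry : y * r = r * y := hrS y (Set.mem_insert _ _)
    have hrt : (d⁻¹ * r * d) * t = t * (d⁻¹ * r * d) := by
      have hy' : y * r * d = r * y * d := by rw [hry]
      rw [hydef] at hy'
      calc d⁻¹ * r * d * t = d⁻¹ * (r * (d * t * d⁻¹) * d) := by group
        _ = d⁻¹ * ((d * t * d⁻¹) * r * d) := by rw [hy']
        _ = t * (d⁻¹ * r * d) := by group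
    have hin := hbase (d⁻¹ * r * d) (M.mul_mem (M.mul_mem (M.inv_mem hd) (h.le_M (h.good_mem r hrG))) hd)
      (fun x hx => by
        have h1 : d * x = x * d := hdE x (hsub hx)
        have h2 : x * r = r * x := hrS x (Set.mem_insert_of_mem _ (hsub hx))
        exact ((((show Commute d x from h1).inv_left).mul_left
          (show Commute x r from h2).symm).mul_left h1).eq) hrt
    exact N.inv_mem_iff.1 (h.weak r hrG d⁻¹ (M.inv_mem hd) (by rwa [inv_inv]))
  have htE : t ∉ E := fun hx => hgN (hbase g hgM (fun x hx' => hgE x (hsub hx')) (hgE t hx))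
  set y := g * t * g⁻¹ with hydef
  have hyM : y ∈ M := M.mul_mem (M.mul_mem hgM htM) (M.inv_mem hgM)
  have hyy : y * y = 1 := by
    rw [hydef, show g * t * g⁻¹ * (g * t * g⁻¹) = g * (t * t) * g⁻¹ by group, htt, mul_one,
      mul_inv_cancel]
  have hyN : y ∉ N := fun hy => hgN (hfix g hgM hgE hy)
  have hyE : ∀ x ∈ E, y * x = x * y := fun x hx => by
    exact (((show Commute g x from hgE x hx).mul_left
      (show Commute x t from (hmem x hx).2.2.2).symm).mul_left
      (show Commute g x from hgE x hx).inv_left).eq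
  obtain ⟨X, hXdef⟩ : ∃ X, X = z * y := ⟨_, rfl⟩
  have hXM : X ∈ M := hXdef ▸ M.mul_mem hzM hyM
  have hXE : ∀ (i : ℕ), ∀ x ∈ E, X ^ i * x = x * X ^ i := fun i x hx => hXdef ▸
    (((show Commute x z from hzE x hx).symm.mul_left (show Commute y x from hyE x hx)).pow_left i).eq
  have hflip : ∀ i : ℕ, z * X ^ i = (X ^ i)⁻¹ * z := fun i => hXdef ▸ flip_pow hzz hyy i
  have hfinX : IsOfFinOrder X := isOfFinOrder_iff_pow_eq_one.2 (by
    obtain ⟨n, hn, hpow⟩ := isOfFinOrder_iff_pow_eq_one.1 (isOfFinOrder_of_finite (⟨X, hXM⟩ : M))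
    exact ⟨n, hn, by simpa using congrArg Subtype.val hpow⟩)
  rcases Nat.even_or_odd (orderOf X) with ⟨k, hk⟩ | ⟨j, hj⟩
  · -- even order
    have hpos := hfinX.orderOf_pos
    have hw2 : X ^ k * X ^ k = 1 := by rw [← pow_add, ← hk, pow_orderOf_eq_one]
    have hw1 : X ^ k ≠ 1 := fun hw => by
      have := Nat.le_of_dvd (by omega) (orderOf_dvd_of_pow_eq_one hw); omega
    obtain ⟨w, hwdef⟩ : ∃ w, w = X ^ k := ⟨_, rfl⟩
    rw [← hwdef] at hw2 hw1
    have hwinv : w⁻¹ = w := inv_eq_of_mul_eq_one_left hw2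
    have hwz : w * z = z * w := by rw [hwdef, hflip k, ← hwdef, hwinv]
    have hwX : Commute w X := hwdef ▸ (Commute.refl X).pow_left k
    have hwy : w * y = y * w := by
      have he : y = z * X := by rw [hXdef, ← mul_assoc, hzz, one_mul]
      rw [he, ← mul_assoc, hwz, mul_assoc, hwX.eq, ← mul_assoc]
    have hwM : w ∈ M := hwdef ▸ pow_mem hXM k
    have hwN : w ∈ N := h.cent z hzG w hwM hwz
    set v := g⁻¹ * w * g with hvdef
    have hvM : v ∈ M := M.mul_mem (M.mul_mem (M.inv_mem hgM) hwM) hgM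
    have hvv : v * v = 1 := by
      rw [hvdef, show g⁻¹ * w * g * (g⁻¹ * w * g) = g⁻¹ * (w * w) * g by group, hw2, mul_one,
        inv_mul_cancel]
    have hvt : v * t = t * v := by
      have e : w * y * g = y * w * g := by rw [hwy]
      rw [hydef] at e
      calc g⁻¹ * w * g * t = g⁻¹ * (w * (g * t * g⁻¹) * g) := by group
        _ = g⁻¹ * ((g * t * g⁻¹) * w * g) := by rw [e]
        _ = t * (g⁻¹ * w * g) := by group
    have hvE : ∀ x ∈ E, v * x = x * v := fun x hx =>
      ((((show Commute g x from hgE x hx).inv_left).mul_left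
        (show Commute w x from hwdef ▸ hXE k x hx)).mul_left (hgE x hx)).eq
    have hvN : v ∈ N := hbase v hvM (fun x hx => hvE x (hsub hx)) hvt
    by_cases hvmem : v ∈ E
    · have hwv : w = v := by
        have h1 : g * v = v * g := hgE v hvmem
        calc w = g * v * g⁻¹ := by rw [hvdef]; group
          _ = v := by rw [h1, mul_assoc, mul_inv_cancel, mul_one]
      have hwmem : w ∈ E := by rw [hwv]; exact hvmem
      rcases Nat.even_or_odd k with ⟨a, ha⟩ | ⟨a, ha⟩
      · have hconj : z * w = (X ^ a)⁻¹ * z * ((X ^ a)⁻¹)⁻¹ := by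
          calc z * w = z * (X ^ a * X ^ a) := by rw [← pow_add, ← ha, ← hwdef]
            _ = (z * X ^ a) * X ^ a := (mul_assoc _ _ _).symm
            _ = _ := by rw [hflip a, inv_inv]
        have hd : (X ^ a)⁻¹ ∈ M := M.inv_mem (pow_mem hXM a)
        have hzwN : z * w ∈ N := N.mul_mem (h.le_N hzR) hwN
        have hdN := h.weak z hzG _ hd (hconj ▸ hzwN)
        have hGw : Good (z * w) := hconj ▸ h.good_norm _ hdN z hzG
        have hwR : w ∈ R := (Subgroup.mul_mem_cancel_left R hzR).1 (h.good_mem _ hGw)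
        exact hgN (h.cent w (hgood z hzZ w hwR (hmem w hwmem).2.2.2 hw1 hGw) g hgM (hgE w hwmem))
      · set d := (X ^ a)⁻¹ * g with hddef
        have hdM : d ∈ M := M.mul_mem (M.inv_mem (pow_mem hXM a)) hgM
        have hdE : ∀ x ∈ E, d * x = x * d := fun x hx =>
          (((show Commute (X ^ a) x from hXE a x hx).inv_left).mul_left (hgE x hx)).eq
        have hconj : z * w = d * t * d⁻¹ := by
          have hzX : z * X ^ a = (X ^ a)⁻¹ * z := hflip a
          calc z * w = z * (X ^ a * X * X ^ a) := by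
                rw [hwdef, ← pow_succ, ← pow_add]; congr 2; omega
            _ = (z * X ^ a) * X * X ^ a := by simp only [mul_assoc]
            _ = (X ^ a)⁻¹ * (z * (z * y)) * X ^ a := by rw [hzX, hXdef]; simp only [mul_assoc]
            _ = (X ^ a)⁻¹ * y * X ^ a := by rw [← mul_assoc z z y, hzz, one_mul]
            _ = d * t * d⁻¹ := by rw [hydef, hddef]; group
        have hzwN : z * w ∈ N := N.mul_mem (h.le_N hzR) hwN
        have hdN : d ∈ N := hfix d hdM hdE (hconj ▸ hzwN)
        set r := d⁻¹ * z * d with hrdef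
        have hrR : r ∈ R := by simpa only [inv_inv] using h.norm d⁻¹ (N.inv_mem hdN) z hzR
        have hwd : d * w * d⁻¹ = w := by rw [hdE w hwmem, mul_assoc, mul_inv_cancel, mul_one]
        have hwrt : w = r * t := by
          calc w = d⁻¹ * (d * w * d⁻¹) * d := by group
            _ = d⁻¹ * (z * (z * w)) * d := by rw [hwd, ← mul_assoc z z w, hzz, one_mul]
            _ = r * t := by rw [hconj, hrdef]; group
        have hrt : r * t = t * r := by
          have e := (hmem w hwmem).2.2.2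
          rw [hwrt, mul_assoc, htt, mul_one] at e
          calc r * t = t * (r * t) * t := by rw [← e]
            _ = t * r := by rw [mul_assoc, mul_assoc r, htt, mul_one]
        have hrZ : r ∈ Z := by
          have hc : ∀ e ∈ E₀, d⁻¹ * e = e * d⁻¹ := fun e he =>
            ((show Commute d e from hdE e (hsub he)).inv_left).eq
          have := hinv d⁻¹ (N.inv_mem hdN) hc r hrR (by
            rw [← hwrt]; exact ((show Commute d w from hdE w hwmem).inv_left).eq) z hzZ
          rwa [inv_inv] at this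
        obtain ⟨q, hq, hqE, hqr⟩ := hZq r hrZ
        have hwq : w = q * t * q⁻¹ := by
          rw [hwrt, ← hqr]; group
        have hqM := h.le_M hq
        have hqN := h.le_N hq
        have hin : q⁻¹ * g * q ∈ N := by
          refine hbase _ (M.mul_mem (M.mul_mem (M.inv_mem hqM) hgM) hqM) (fun x hx => ?_) ?_
          · have h1 : Commute q x := (show Commute x q from hqE x hx).symm
            exact ((h1.inv_left.mul_left (hgE x (hsub hx))).mul_left h1).eq
          · have e : g * w * q = w * g * q := by rw [hgE w hwmem]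
            rw [hwq] at e
            calc q⁻¹ * g * q * t = q⁻¹ * (g * (q * t * q⁻¹) * q) := by group
              _ = q⁻¹ * ((q * t * q⁻¹) * g * q) := by rw [e]
              _ = t * (q⁻¹ * g * q) := by group
        apply hgN
        have := N.mul_mem (N.mul_mem hqN hin) (N.inv_mem hqN)
        simpa only [show q * (q⁻¹ * g * q) * q⁻¹ = g by group] using this
    · -- a larger bad set
      have hP : P (insert v E) := by
        refine ⟨hsub.trans (Set.subset_insert _ _), ?_, ?_, g⁻¹ * z * g, ?_, ?_, ?_⟩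
        · rintro x (rfl | hx)
          · exact ⟨hvM, hvN, hvv, hvt⟩
          · exact hmem x hx
        · rintro x (rfl | hx) x' (rfl | hx')
          · rfl
          · exact hvE x' hx'
          · exact (hvE x hx).symm
          · exact hEc x hx x' hx'
        · exact M.mul_mem (M.mul_mem (M.inv_mem hgM) hzM) hgM
        · rintro x (rfl | hx)
          · have e : g⁻¹ * (z * w) * g = g⁻¹ * (w * z) * g := by rw [hwz]
            calc g⁻¹ * z * g * (g⁻¹ * w * g) = g⁻¹ * (z * w) * g := by group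
              _ = g⁻¹ * (w * z) * g := e
              _ = g⁻¹ * w * g * (g⁻¹ * z * g) := by group
          · exact ((((show Commute g x from hgE x hx).inv_left).mul_left
              (show Commute x z from hzE x hx).symm).mul_left (hgE x hx)).eq
        · intro hin
          exact hgN (N.inv_mem_iff.1 (h.weak z hzG g⁻¹ (M.inv_mem hgM) (by rwa [inv_inv])))
      exact hvmem (hmax hP (Set.subset_insert _ _) (Set.mem_insert _ _))
  · -- odd order
    have hconj : y = X ^ j * z * (X ^ j)⁻¹ := by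
      rw [mul_assoc, show z * (X ^ j)⁻¹ = X ^ j * z from ?_, ← mul_assoc, ← pow_add]
      · have e : X ^ (j + j) = X⁻¹ := by
          rw [eq_inv_iff_mul_eq_one, ← pow_succ, show j + j + 1 = orderOf X by omega,
            pow_orderOf_eq_one]
        rw [e, hXdef, mul_inv_rev, inv_eq_of_mul_eq_one_left hyy, inv_eq_of_mul_eq_one_left hzz,
          mul_assoc, hzz, mul_one]
      · calc z * (X ^ j)⁻¹ = z * ((X ^ j)⁻¹ * z) * z := by rw [mul_assoc, mul_assoc, hzz, mul_one]
          _ = z * (z * X ^ j) * z := by rw [hflip j]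
          _ = X ^ j * z := by rw [← mul_assoc z z, hzz, one_mul]
    set d := g⁻¹ * X ^ j with hddef
    have hdt : t = d * z * d⁻¹ := by
      calc t = g⁻¹ * y * g := by rw [hydef]; group
        _ = d * z * d⁻¹ := by rw [hconj, hddef]; group
    have hdN := h.weak z hzG d (M.mul_mem (M.inv_mem hgM) (pow_mem hXM j)) (hdt ▸ htN)
    exact htR (hdt ▸ h.norm d hdN z hzR)

end Setup

end CfsgLib.MaxSub.SymReal
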