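import Cfsg.Agent.Lib.MaxSub.SymReal.Weak
import Cfsg.Agent.Lib.MaxSub.SymReal.Fusion

/-!
An overgroup of the normaliser of a real frame of degree at least sixteen satisfying the axioms is contained in
that normaliser.
-/

set_option autoImplicit false
set_option linter.unusedSectionVars false
set_option linter.unusedSimpArgs false
set_option linter.style.haveILetI false

namespace CfsgLib.MaxSub.SymReal

open scoped MatrixGroups
open Cfsg.Geo Matrix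
open CfsgLib.MaxSub.SymEight (mem_normalizer_of_conj conj_mem)

variable {ι : Type} [Fintype ι] [DecidableEq ι] {F : Type*} [Field F]

local notation "Mι" => Matrix ι ι F
local notation "π" => QuotientGroup.mk' (scalars ι F)

theorem scalars_normal : (scalars ι F).Normal :=
  ⟨fun z hz g => by rw [← CfsgLib.Aschbacher.scalars_commute hz g, mul_assoc, mul_inv_cancel, mul_one]; exact hz⟩

theorem scalars_le_normalizer (R : Subgroup (GL ι F)) : scalars ι F ≤ subgroupNormalizer R := fun z hz => by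
  rw [subgroupNormalizer, Subgroup.mem_normalizer_iff]
  intro y
  rw [CfsgLib.Aschbacher.scalars_commute hz y, mul_assoc, mul_inv_cancel, mul_one]

attribute [local instance] scalars_normal

theorem proj_eq_iff {a b : GL ι F} : π a = π b ↔ ∃ c : F, c ≠ 0 ∧ (a : Mι) = c • (b : Mι) := by
  rw [QuotientGroup.mk'_eq_mk']
  constructor
  · rintro ⟨z, hz, rfl⟩
    obtain ⟨c, hc⟩ := (mem_scalars_iff _).1 hz
    refine ⟨(c⁻¹ : Fˣ), Units.ne_zero _, ?_⟩
    rw [Units.val_mul, hc, Matrix.mul_smul, Matrix.mul_one, smul_smul, Units.inv_mul, one_smul]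
  · rintro ⟨c, hc, e⟩
    refine ⟨a⁻¹ * b, (mem_scalars_iff _).2 ⟨(Units.mk0 c hc)⁻¹, ?_⟩, mul_inv_cancel_left a b⟩
    have hb : (b : Mι) = c⁻¹ • (a : Mι) := by rw [e, smul_smul, inv_mul_cancel₀ hc, one_smul]
    rw [Units.val_mul, hb, Matrix.mul_smul, Units.inv_mul, Units.val_inv_eq_inv_val, Units.val_mk0]

theorem proj_of_sgn {a b : GL ι F} (h : Sgn a b) : π a = π b := by
  refine proj_eq_iff.2 ?_
  rcases h with rfl | rfl
  · exact ⟨1, one_ne_zero, (one_smul F _).symm⟩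
  · exact ⟨-1, neg_ne_zero.2 one_ne_zero, by rw [Units.val_neg, neg_one_smul]⟩

theorem RFrame.sgn_of_proj {R : Subgroup (GL ι F)} (hR : RFrame R) {a b : GL ι F} (ha : a ∈ R) (hb : b ∈ R)
    (h : π a = π b) : Sgn a b := by
  obtain ⟨c, -, e⟩ := proj_eq_iff.1 h
  rcases hR.scal (b⁻¹ * a) (R.mul_mem (R.inv_mem hb) ha) c (by
    rw [Units.val_mul, e, Matrix.mul_smul, Units.inv_mul]) with h' | h'
  · exact Or.inl (inv_mul_eq_one.1 h').symm
  · exact Or.inr (by rw [inv_mul_eq_iff_eq_mul.1 h', mul_neg, mul_one])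

theorem RFrame.sgn_of_scaled_invol {R : Subgroup (GL ι F)} (hR : RFrame R) {t : GL ι F} (ht : t * t = 1)
    {u : GL ι F} (h : π u * π t = π t * π u) : Sgn (u * t * u⁻¹) t := by
  haveI := hR.nonempty
  have h' : π (u * t * u⁻¹) = π t := by
    rw [map_mul, map_mul, map_inv, h, mul_assoc, mul_inv_cancel, mul_one]
  obtain ⟨c, -, e⟩ := proj_eq_iff.1 h'
  have e2 : ((u * t * u⁻¹ : GL ι F) : Mι) * ((u * t * u⁻¹ : GL ι F) : Mι) = 1 := by
    rw [← Units.val_mul, show u * t * u⁻¹ * (u * t * u⁻¹) = u * (t * t) * u⁻¹ by group, ht, mul_one, mul_inv_cancel,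
      Units.val_one]
  rw [e, Matrix.smul_mul, Matrix.mul_smul, smul_smul, ← Units.val_mul, ht, Units.val_one] at e2
  rcases mul_self_eq_one_iff.1 (smul_left_injective F (one_ne_zero (α := Mι)) (e2.trans (one_smul F _).symm)) with
    rfl | rfl
  · exact Or.inl (Units.ext (by rw [e, one_smul]))
  · exact Or.inr (Units.ext (by rw [e, neg_one_smul, Units.val_neg]))

theorem mem_of_proj_mem [Finite F] {R : Subgroup (GL ι F)} {g : GL ι F}
    (h : π g ∈ (subgroupNormalizer R).map π) : g ∈ subgroupNormalizer R := by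
  obtain ⟨n, hn, hng⟩ := h
  obtain ⟨z, hz, hzg⟩ := QuotientGroup.mk'_eq_mk' _ |>.1 hng
  exact hzg ▸ Subgroup.mul_mem _ hn (scalars_le_normalizer R hz)

/-- The non-central involutions of a frame form an odd number of classes. -/
theorem RFrame.odd_sing [Finite F] {R : Subgroup (GL ι F)} (hR : RFrame R) {A C : GL ι F} (hA : Sing R A)
    (hC : C ∈ R) (hCC : C * C = -1) (hAC : Commute A C) :
    Odd {r | ∃ x, Sing R x ∧ π x = r}.ncard := by
  classical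
  haveI : Finite (GL ι F) := Finite.of_injective (fun g => (g : Mι)) fun _ _ => Units.ext
  haveI : Fintype (GL ι F) := Fintype.ofFinite _
  obtain ⟨T, hT⟩ : ∃ T : Finset (GL ι F ⧸ scalars ι F), T = (Finset.univ.filter fun x => x ∈ R ∧ x * x = 1).image π :=
    ⟨_, rfl⟩
  have hmemT : ∀ {g}, g ∈ T ↔ ∃ x, (x ∈ R ∧ x * x = 1) ∧ π x = g := by
    intro g
    simp only [hT, Finset.mem_image, Finset.mem_filter, Finset.mem_univ, true_and]
  let f : GL ι F → GL ι F := fun x => if Commute x A then x * A else if Commute x C then x * C * A else x * C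
  have hrel : ∀ {x y : GL ι F}, Sgn x y → ∀ z, (Commute x z ↔ Commute y z) := by
    rintro x y (rfl | rfl) z
    · rfl
    · exact Commute.neg_left_iff
  have hsgn : ∀ {x y : GL ι F}, Sgn x y → Sgn (f x) (f y) := by
    intro x y h
    simp only [f, hrel h]
    split_ifs
    · exact h.mul (Sgn.refl A)
    · exact (h.mul (Sgn.refl C)).mul (Sgn.refl A)
    · exact h.mul (Sgn.refl C)
  have hmap : ∀ {x}, x ∈ R → x * x = 1 →
      f x ∈ R ∧ f x * f x = 1 ∧ Sgn (f (f x)) x ∧ ¬ Sgn (f x) x := by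
    intro x hx hxx
    simp only [f]
    have hne : ∀ {d}, d ≠ 1 → d ≠ -1 → ¬ Sgn (x * d) x := fun h1 h2 => hR.not_sgn_mul h1 h2
    have hCne := hR.sq_neg_ne hCC
    have hCA : C * A * (C * A) = -1 := by rw [sq_mul_comm hAC.symm, hCC, hA.sq, mul_one]
    by_cases h1 : Commute x A
    · rw [if_pos h1, if_pos (h1.mul_left (Commute.refl A))]
      refine ⟨R.mul_mem hx hA.mem, by rw [sq_mul_comm h1, hxx, hA.sq, one_mul], Or.inl ?_, hne hA.ne_one hA.ne_neg⟩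
      rw [mul_assoc, hA.sq, mul_one]
    · have h1' : Anti x A := (hR.comm x hx A hA.mem).resolve_left h1
      rw [if_neg h1]
      have h2 : ¬ Commute (x * C) A := fun h => hR.not_anti h (h1'.mul_comm_left hAC.symm)
      by_cases h3 : Commute x C
      · have h2' : ¬ Commute (x * C * A) A := fun h => hR.not_anti h
          ((h1'.mul_comm_left hAC.symm).mul_comm_left (Commute.refl A))
        have h4 : Commute (x * C * A) C := (h3.mul_left (Commute.refl C)).mul_left hAC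
        rw [if_pos h3, if_neg h2', if_pos h4]
        refine ⟨R.mul_mem (R.mul_mem hx hC) hA.mem, ?_, Or.inr ?_, ?_⟩
        · rw [sq_mul_anti (h1'.mul_comm_left hAC.symm), sq_mul_comm h3, hxx, hCC, hA.sq, one_mul, mul_one, neg_neg]
        · rw [show x * C * A * C * A = x * (C * A * (C * A)) by simp only [mul_assoc], hCA, mul_neg, mul_one]
        · rw [mul_assoc]; exact hne (hR.sq_neg_ne hCA).1 (hR.sq_neg_ne hCA).2
      · have h3' : Anti x C := (hR.comm x hx C hC).resolve_left h3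
        rw [if_neg h3, if_neg h2, if_neg (fun h => hR.not_anti h (h3'.mul_comm_left (Commute.refl C)))]
        refine ⟨R.mul_mem hx hC, by rw [sq_mul_anti h3', hxx, hCC, one_mul, neg_neg], Or.inr ?_, hne hCne.1 hCne.2⟩
        rw [mul_assoc, hCC, mul_neg, mul_one]
  have heven : Even T.card := by
    have h0 : (T.card : ZMod 2) = 0 := by
      rw [Finset.card_eq_sum_ones, Nat.cast_sum]
      refine Finset.sum_involution (fun g hg => π (f (hmemT.1 hg).choose)) (fun g _ => ?_) (fun g hg _ => ?_)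
        (fun g hg => ?_) fun g hg => ?_
      · simp only [Nat.cast_one]; decide
      · obtain ⟨⟨hx, hxx⟩, hπ⟩ := (hmemT.1 hg).choose_spec
        intro e
        exact (hmap hx hxx).2.2.2 (hR.sgn_of_proj (hmap hx hxx).1 hx (e.trans hπ.symm))
      · obtain ⟨⟨hx, hxx⟩, -⟩ := (hmemT.1 hg).choose_spec
        exact hmemT.2 ⟨_, ⟨(hmap hx hxx).1, (hmap hx hxx).2.1⟩, rfl⟩
      · obtain ⟨⟨hx, hxx⟩, hπ⟩ := (hmemT.1 hg).choose_spec
        have hg' : π (f (hmemT.1 hg).choose) ∈ T := hmemT.2 ⟨_, ⟨(hmap hx hxx).1, (hmap hx hxx).2.1⟩, rfl⟩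
        obtain ⟨⟨hy, -⟩, hπ'⟩ := (hmemT.1 hg').choose_spec
        refine Eq.trans (proj_of_sgn (hsgn (hR.sgn_of_proj hy (hmap hx hxx).1 hπ'))) ?_
        exact (proj_of_sgn (hmap hx hxx).2.2.1).trans hπ
    exact even_iff_two_dvd.2 ((ZMod.natCast_eq_zero_iff_even.1 h0).two_dvd)
  have h1T : (1 : GL ι F ⧸ scalars ι F) ∈ T := hmemT.2 ⟨1, ⟨R.one_mem, mul_one 1⟩, map_one π⟩
  have hset : {r | ∃ x, Sing R x ∧ π x = r} = ↑(T.erase 1) := by
    ext g
    simp only [Finset.coe_erase, Set.mem_diff, Finset.mem_coe, Set.mem_singleton_iff, hmemT, Set.mem_setOf_eq]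
    constructor
    · rintro ⟨x, hx, rfl⟩
      exact ⟨⟨x, ⟨hx.mem, hx.sq⟩, rfl⟩, fun e =>
        (hR.sgn_of_proj hx.mem R.one_mem (e.trans (map_one π).symm)).elim hx.ne_one hx.ne_neg⟩
    · rintro ⟨⟨x, ⟨hx, hxx⟩, rfl⟩, hne⟩
      exact ⟨x, ⟨hx, hxx, fun e => hne (by rw [e, map_one]),
        fun e => hne (by rw [e, proj_of_sgn (Or.inr rfl : Sgn (-1 : GL ι F) 1), map_one])⟩, rfl⟩
  rw [hset, Set.ncard_coe_finset, Finset.card_erase_of_mem h1T]
  exact Nat.Even.sub_odd (Finset.card_pos.2 ⟨1, h1T⟩) heven odd_one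

theorem RFrame.bracket_ctrl [Finite F] {R : Subgroup (GL ι F)} (hR : RFrame R) {A B : GL ι F} (hA : Sing R A)
    (hB : Sing R B) (hAB : Commute A B) {u : GL ι F} (hu : u ∈ R) :
    (u * ctrl A B * u⁻¹ * (ctrl A B)⁻¹ = 1) ∨ Sgn (u * ctrl A B * u⁻¹ * (ctrl A B)⁻¹) A ∨
      Sgn (u * ctrl A B * u⁻¹ * (ctrl A B)⁻¹) B ∨ Sgn (u * ctrl A B * u⁻¹ * (ctrl A B)⁻¹) (A * B) := by
  have hui : u⁻¹ ∈ R := R.inv_mem hu
  have e : u * ctrl A B * u⁻¹ * (ctrl A B)⁻¹ = u * (ctrl A B * u⁻¹ * (ctrl A B)⁻¹) := by group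
  rw [e]
  rcases hR.comm _ hui A hA.mem with h1 | h1 <;> rcases hR.comm _ hui B hB.mem with h2 | h2
  · exact Or.inl (by rw [ctrl_conj_fix hR.two hA.sq hAB h1 h2, mul_inv_cancel])
  · exact Or.inr (Or.inl (Or.inl (by rw [ctrl_conj_B hR.two hA.sq hAB h1 h2, mul_inv_cancel_left])))
  · exact Or.inr (Or.inr (Or.inl (Or.inl (by
      rw [(ctrl_conj_C hR.two hA.sq hAB h1 h2).1 hB.sq, mul_inv_cancel_left]))))
  · exact Or.inr (Or.inr (Or.inr (Or.inr (by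
      rw [(ctrl_conj_D hR.two hA.sq hAB h1 h2).1 hB.sq, mul_neg, mul_assoc u⁻¹, mul_inv_cancel_left, hAB.eq]))))

variable [Finite F] {R M : Subgroup (GL ι F)}

/-- Three commuting pairs of anticommuting involutions. -/
theorem RFrame.exists_three (hR : RFrame R) (hι : 16 ≤ Fintype.card ι) :
    ∃ A₁ A₂ A₃ X₁ X₂ X₃ : GL ι F, Sing R A₁ ∧ Sing R A₂ ∧ Sing R A₃ ∧ Sing R X₁ ∧ Sing R X₂ ∧ Sing R X₃ ∧
      (Anti A₁ X₁ ∧ Anti A₂ X₂ ∧ Anti A₃ X₃) ∧ (Commute A₁ A₂ ∧ Commute A₁ A₃ ∧ Commute A₂ A₃) ∧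
      (Commute X₁ A₂ ∧ Commute X₁ A₃ ∧ Commute X₂ A₁ ∧ Commute X₂ A₃ ∧ Commute X₃ A₁ ∧ Commute X₃ A₂) ∧
      (Commute X₁ X₂ ∧ Commute X₁ X₃ ∧ Commute X₂ X₃) := by
  obtain ⟨A₁, hA₁⟩ := hR.exists_sing (by omega)
  obtain ⟨X₁, hX₁, h11⟩ := hR.exists_pair hA₁
  obtain ⟨d, R1, ψ, hd, hR1, hψ, hψn, hmem, -⟩ := hR.exists_sub hA₁.mem hX₁.mem hA₁.sq hX₁.sq h11
  obtain ⟨a, ha⟩ := hR1.exists_sing (by rw [Fintype.card_fin]; omega)
  obtain ⟨x, hx, hax⟩ := hR1.exists_pair ha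
  obtain ⟨d2, R2, ψ2, hd2, hR2, hψ2, hψ2n, hmem2, -⟩ := hR1.exists_sub ha.mem hx.mem ha.sq hx.sq hax
  obtain ⟨b, hb⟩ := hR2.exists_sing (by rw [Fintype.card_fin] at hd2 ⊢; omega)
  obtain ⟨y, hy, hby⟩ := hR2.exists_pair hb
  have l1 : ∀ {v}, Sing R1 v → Sing R (ψ v) := fun {v} hv => ⟨(hmem v hv.mem).1, by rw [← map_mul, hv.sq, map_one],
    fun e => hv.ne_one (hψ (by rw [e, map_one])), fun e => hv.ne_neg (hψ (by rw [e, hψn, map_one]))⟩
  have l2 : ∀ {v}, Sing R2 v → Sing R1 (ψ2 v) := fun {v} hv => ⟨(hmem2 v hv.mem).1,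
    by rw [← map_mul, hv.sq, map_one], fun e => hv.ne_one (hψ2 (by rw [e, map_one])),
    fun e => hv.ne_neg (hψ2 (by rw [e, hψ2n, map_one]))⟩
  have a1 : ∀ {u v}, Anti u v → Anti (ψ u) (ψ v) := fun {u v} h => by
    unfold Anti at h ⊢; rw [← map_mul, h, hψn, map_mul]
  have a2 : Anti (ψ2 b) (ψ2 y) := by
    unfold Anti at hby ⊢; rw [← map_mul, hby, hψ2n, map_mul]
  exact ⟨A₁, ψ a, ψ (ψ2 b), X₁, ψ x, ψ (ψ2 y), hA₁, l1 ha, l1 (l2 hb), hX₁, l1 hx, l1 (l2 hy),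
    ⟨h11, a1 hax, a1 a2⟩,
    ⟨(hmem a ha.mem).2.1.symm, (hmem _ (l2 hb).mem).2.1.symm, ((hmem2 b hb.mem).2.1.map ψ).symm⟩,
    ⟨(hmem a ha.mem).2.2.symm, (hmem _ (l2 hb).mem).2.2.symm, (hmem x hx.mem).2.1,
      ((hmem2 b hb.mem).2.2.map ψ).symm, (hmem _ (l2 hy).mem).2.1, (hmem2 y hy.mem).2.1.map ψ⟩,
    ⟨(hmem x hx.mem).2.2.symm, (hmem _ (l2 hy).mem).2.2.symm, ((hmem2 y hy.mem).2.2.map ψ).symm⟩⟩

theorem Over.setup (h : Over R M) {A C : GL ι F} (hA : Sing R A) (hC : C ∈ R) (hCC : C * C = -1)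
    (hAC : Commute A C) :
    Setup (M.map π) ((subgroupNormalizer R).map π) (R.map π) (fun r => ∃ x, Sing R x ∧ π x = r) := by
  haveI : Finite (GL ι F) := Finite.of_injective (fun g => (g : Mι)) fun _ _ => Units.ext
  have hR := h.frame
  refine ⟨inferInstance, Subgroup.map_mono fun r hr => hR.le_normalizer hr, Subgroup.map_mono h.R_le, ?_, ?_, ?_,
    ?_, ?_, hR.odd_sing hA hC hCC hAC, ?_, ?_⟩
  · rintro _ ⟨n, hn, rfl⟩ _ ⟨r, hr, rfl⟩
    exact ⟨_, conj_mem hn hr, by rw [map_mul, map_mul, map_inv]⟩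
  · rintro _ ⟨r, hr, rfl⟩
    rw [← map_mul, ← map_one π]
    exact proj_of_sgn (hR.sq r hr)
  · rintro _ ⟨x, hx, rfl⟩
    exact Subgroup.mem_map_of_mem _ hx.mem
  · rintro _ ⟨x, hx, rfl⟩ e
    exact (hR.sgn_of_proj hx.mem R.one_mem (e.trans (map_one π).symm)).elim hx.ne_one hx.ne_neg
  · rintro _ ⟨n, hn, rfl⟩ _ ⟨x, hx, rfl⟩
    exact ⟨_, sing_conj hR hx (conj_mem hn hx.mem), by rw [map_mul, map_mul, map_inv]⟩
  · rintro _ ⟨x, hx, rfl⟩ _ ⟨g, hg, rfl⟩ e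
    exact Subgroup.mem_map_of_mem _ (h.centre hx hg (hR.sgn_of_scaled_invol hx.sq e))
  · rintro _ ⟨x, hx, rfl⟩ _ ⟨g, hg, rfl⟩ e
    rw [← map_inv, ← map_mul, ← map_mul] at e
    exact Subgroup.mem_map_of_mem _ (h.weak hx hg (mem_of_proj_mem e))

/-- The overgroup lies in the normaliser. -/
theorem Over.le_normalizer (h : Over R M) : M ≤ subgroupNormalizer R := by
  classical
  haveI : Finite (GL ι F) := Finite.of_injective (fun g => (g : Mι)) fun _ _ => Units.ext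
  have hR := h.frame
  haveI := hR.nonempty
  have h2 := hR.two
  have h16 := h.card16
  obtain ⟨A₁, A₂, A₃, X₁, X₂, X₃, hA₁, hA₂, hA₃, hX₁, hX₂, hX₃, ⟨a11, a22, a33⟩, ⟨c12, c13, c23⟩,
    ⟨x12, x13, x21, x23, x31, x32⟩, ⟨xx12, xx13, xx23⟩⟩ := hR.exists_three h16
  obtain ⟨d, R', ψ, hd, hR', hψ, hψn, hmem, -⟩ := hR.exists_sub hA₁.mem hX₁.mem hA₁.sq hX₁.sq a11
  obtain ⟨C', hC', hCC'⟩ := hR'.exists_sq_neg (by rw [Fintype.card_fin]; omega)
  have hS := h.setup hA₁ (hmem C' hC').1 (by rw [← map_mul, hCC', hψn, map_one]) (hmem C' hC').2.1.symm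
  -- the two involutions
  obtain ⟨T, hT⟩ : ∃ T, T = ctrl A₁ A₂ := ⟨_, rfl⟩
  obtain ⟨t₁, ht₁⟩ : ∃ t, t = T * A₃ := ⟨_, rfl⟩
  obtain ⟨t₂, ht₂⟩ : ∃ t, t = ctrl A₁ A₃ := ⟨_, rfl⟩
  have hTA₃ : Commute T A₃ := hT ▸ (commute_ctrl h2 hA₁.sq c12 c13.symm c23.symm).symm
  have hTT : T * T = 1 := by
    rw [hT, ctrl_mul h2 hA₁.sq c12 c12, hA₂.sq]
    exact Units.ext (by rw [ctrl_val h2 hA₁.sq (Commute.one_right _), Units.val_one, ctrlM_one h2])
  have ht₁₁ : t₁ * t₁ = 1 := by rw [ht₁, sq_mul_comm hTA₃, hTT, hA₃.sq, one_mul]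
  have ht₂₂ : t₂ * t₂ = 1 := by
    rw [ht₂, ctrl_mul h2 hA₁.sq c13 c13, hA₃.sq]
    exact Units.ext (by rw [ctrl_val h2 hA₁.sq (Commute.one_right _), Units.val_one, ctrlM_one h2])
  have hA₁t₁ : Commute A₁ t₁ := by rw [ht₁, hT]; exact (ctrl_self_commute h2 hA₁.sq c12).mul_right c13
  have hA₃t₁ : Commute A₃ t₁ := by rw [ht₁]; exact hTA₃.symm.mul_right (Commute.refl A₃)
  have htt : Commute t₁ t₂ := ht₂ ▸ commute_ctrl h2 hA₁.sq c13 hA₁t₁.symm hA₃t₁.symm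
  have ht₁M : t₁ ∈ M := by rw [ht₁, hT]; exact M.mul_mem (h.ctrl_mem hA₁ hA₂.mem c12) (h.R_le hA₃.mem)
  have ht₂M : t₂ ∈ M := ht₂ ▸ h.ctrl_mem hA₁ hA₃.mem c13
  have ht₁N : t₁ ∈ subgroupNormalizer R := by
    rw [ht₁, hT]; exact mul_mem (hR.ctrl_mem_normalizer hA₁.mem hA₂.mem hA₁.sq c12) (hR.le_normalizer hA₃.mem)
  have ht₂N : t₂ ∈ subgroupNormalizer R := ht₂ ▸ hR.ctrl_mem_normalizer hA₁.mem hA₃.mem hA₁.sq c13
  have hui : ∀ {X : GL ι F}, Sing R X → X⁻¹ = X := fun hX => inv_eq_of_mul_eq_one_left hX.sq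
  -- brackets
  have hb1 : ∀ u ∈ R, Sgn (u * t₁ * u⁻¹ * t₁⁻¹) (u * T * u⁻¹ * T⁻¹) := by
    intro u hu
    have h3 : Sgn (u * A₃ * u⁻¹ * A₃⁻¹) 1 := by
      have := (hR.conj_sgn hu hA₃.mem).mul (Sgn.refl A₃⁻¹)
      rwa [mul_inv_cancel] at this
    have e : u * t₁ * u⁻¹ * t₁⁻¹ = u * T * u⁻¹ * (u * A₃ * u⁻¹ * A₃⁻¹) * T⁻¹ := by rw [ht₁]; group
    rw [e]
    simpa using ((Sgn.refl (u * T * u⁻¹)).mul h3).mul (Sgn.refl T⁻¹)
  have hX3t₂ : X₃ * t₂ * X₃⁻¹ * t₂⁻¹ = A₁ := by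
    rw [ht₂, mul_assoc X₃, mul_assoc X₃, hui hX₃, ctrl_conj_B h2 hA₁.sq c13 x31 a33.symm, ← mul_assoc, hX₃.sq,
      one_mul]
  have hX2T : X₂ * T * X₂⁻¹ * T⁻¹ = A₁ := by
    rw [hT, mul_assoc X₂, mul_assoc X₂, hui hX₂, ctrl_conj_B h2 hA₁.sq c12 x21 a22.symm, ← mul_assoc, hX₂.sq,
      one_mul]
  have hX1T : X₁ * T * X₁⁻¹ * T⁻¹ = A₂ := by
    rw [hT, mul_assoc X₁, mul_assoc X₁, hui hX₁, (ctrl_conj_C h2 hA₁.sq c12 a11.symm x12).1 hA₂.sq, ← mul_assoc,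
      hX₁.sq, one_mul]
  have hX12T : Sgn (X₁ * X₂ * T * (X₁ * X₂)⁻¹ * T⁻¹) (A₂ * A₁) := by
    have hm1 : Anti (X₁ * X₂)⁻¹ A₁ := (a11.symm.mul_comm_left x21).inv_left
    have hm2 : Anti (X₁ * X₂)⁻¹ A₂ := (Anti.comm_mul_left x12 a22.symm).inv_left
    rw [hT, mul_assoc (X₁ * X₂), mul_assoc (X₁ * X₂),
      (ctrl_conj_D h2 hA₁.sq c12 hm1 hm2).1 hA₂.sq, mul_neg, mul_assoc (X₁ * X₂)⁻¹, mul_inv_cancel_left]
    exact Or.inr rfl
  have hA12 : Sing R (A₁ * A₂) := ⟨R.mul_mem hA₁.mem hA₂.mem,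
    by rw [sq_mul_comm c12, hA₁.sq, hA₂.sq, one_mul],
    fun e => hR.not_anti x12 (by rw [← inv_eq_of_mul_eq_one_right e, hui hA₁]; exact a11.symm),
    fun e => hR.not_anti x12 (by
      rw [show A₂ = -A₁ by rw [← one_mul A₂, ← hA₁.sq, mul_assoc, e, mul_neg, mul_one]]; exact a11.symm.neg_right)⟩
  have hA13 : Sing R (A₁ * A₃) := ⟨R.mul_mem hA₁.mem hA₃.mem,
    by rw [sq_mul_comm c13, hA₁.sq, hA₃.sq, one_mul],
    fun e => hR.not_anti x13 (by rw [← inv_eq_of_mul_eq_one_right e, hui hA₁]; exact a11.symm),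
    fun e => hR.not_anti x13 (by
      rw [show A₃ = -A₁ by rw [← one_mul A₃, ← hA₁.sq, mul_assoc, e, mul_neg, mul_one]]; exact a11.symm.neg_right)⟩
  have hdist : ∀ {a b X : GL ι F}, Sgn a b → Anti X a → Commute X b → False := fun {a b X} hs ha hb =>
    hR.not_anti ((by rcases hs with rfl | rfl
                     · exact hb
                     · exact hb.neg_right) : Commute X a) ha
  have hne₁ : π t₁ ∉ R.map π := by
    rintro ⟨r, hr, e⟩
    obtain ⟨c, -, e'⟩ := proj_eq_iff.1 e.symm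
    have hs : Sgn (t₁ * X₁ * t₁⁻¹) (r * X₁ * r⁻¹) := hR.sgn_of_proj (conj_mem ht₁N hX₁.mem)
      (R.mul_mem (R.mul_mem hr hX₁.mem) (R.inv_mem hr)) (by rw [map_mul, map_mul, map_inv, ← e]; simp)
    have e1 : t₁ * X₁ * t₁⁻¹ = X₁ * A₂ := by
      rw [ht₁, conj_conj, x13.symm.eq, mul_inv_cancel_right, hT,
        (ctrl_conj_C h2 hA₁.sq c12 a11.symm x12).1 hA₂.sq]
    rw [e1] at hs
    exact hR.not_sgn_mul hA₂.ne_one hA₂.ne_neg (hs.trans (hR.conj_sgn hr hX₁.mem))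
  have hne₂ : π t₂ ∉ R.map π := by
    rintro ⟨r, hr, e⟩
    have hs : Sgn (t₂ * X₁ * t₂⁻¹) (r * X₁ * r⁻¹) := hR.sgn_of_proj (conj_mem ht₂N hX₁.mem)
      (R.mul_mem (R.mul_mem hr hX₁.mem) (R.inv_mem hr)) (by rw [map_mul, map_mul, map_inv, ← e]; simp)
    rw [ht₂, (ctrl_conj_C h2 hA₁.sq c13 a11.symm x13).1 hA₃.sq] at hs
    exact hR.not_sgn_mul hA₃.ne_one hA₃.ne_neg (hs.trans (hR.conj_sgn hr hX₁.mem))
  have hπb : ∀ u t : GL ι F, π u * π t * (π u)⁻¹ * (π t)⁻¹ = π (u * t * u⁻¹ * t⁻¹) := fun u t => by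
    simp only [map_mul, map_inv]
  have hgood : ∀ (t : GL ι F), t ∈ subgroupNormalizer R → ∀ (r : GL ι F ⧸ scalars ι F),
      (∃ x, Sing R x ∧ π x = r) → (∃ u ∈ R.map π, u * π t * u⁻¹ * (π t)⁻¹ = r) → ∀ w ∈ R.map π,
      w * π t = π t * w → w ≠ 1 → (∃ x, Sing R x ∧ π x = r * w) → ∃ x, Sing R x ∧ π x = w := by
    rintro t ht _ ⟨x, hx, rfl⟩ ⟨_, ⟨u, hu, rfl⟩, e⟩ _ ⟨y, hy, rfl⟩ hyt hy1 ⟨xy, hxy, e'⟩
    rw [hπb] at e
    have hsx : Sgn x (u * t * u⁻¹ * t⁻¹) := hR.sgn_of_proj hx.mem (hR.bracket_mem ht hu) e.symm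
    have hty : Sgn (t * y * t⁻¹) y := hR.sgn_of_proj (conj_mem ht hy) hy (by
      rw [map_mul, map_mul, map_inv, ← hyt, mul_assoc, mul_inv_cancel, mul_one])
    have hc : Commute y (u * t * u⁻¹ * t⁻¹) := by
      rw [mul_assoc u, mul_assoc u]
      have key : ∀ {a : GL ι F}, (Commute y a → Commute y (t * a * t⁻¹)) ∧ (Anti y a → Anti y (t * a * t⁻¹)) :=
        fun {a} => by
          rcases hty with e0 | e0
          · exact ⟨fun h => e0 ▸ commute_conj h t, fun h => e0 ▸ h.conj t⟩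
          · constructor
            · intro h
              have := commute_conj h t
              rw [e0] at this
              exact Commute.neg_left_iff.1 this
            · intro h
              have := h.conj t
              rw [e0] at this
              simpa using this.neg_left
      rcases hR.comm y hy u hu with h' | h'
      · exact h'.mul_right (key.1 h'.inv_right)
      · exact h'.mul_anti_right (key.2 h'.inv_right)
    have hcx : Commute y x := by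
      rcases hsx with rfl | e0
      · exact hc
      · rw [e0]; exact hc.neg_right
    have hs : Sgn xy (x * y) := hR.sgn_of_proj hxy.mem (R.mul_mem hx.mem hy) (by rw [e', map_mul])
    refine ⟨y, ⟨hy, ?_, fun e0 => hy1 (by rw [e0, map_one]), fun e0 => hy1 (by
      rw [e0, proj_of_sgn (Or.inr rfl : Sgn (-1 : GL ι F) 1), map_one])⟩, rfl⟩
    have := hR.sq_of_sgn hs
    rw [hxy.sq, sq_mul_comm hcx.symm, hx.sq, one_mul] at this
    exact this.symm
  -- the base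
  have hbase : ∀ g ∈ M.map π, (∀ x ∈ ({π t₁} : Set (GL ι F ⧸ scalars ι F)), g * x = x * g) →
      g * π t₂ = π t₂ * g → g ∈ (subgroupNormalizer R).map π := by
    rintro _ ⟨u, hu, rfl⟩ hgE hg2
    refine Subgroup.mem_map_of_mem _ ?_
    have hs1 := hR.sgn_of_scaled_invol ht₁₁ (hgE _ rfl)
    have hs2 := hR.sgn_of_scaled_invol ht₂₂ hg2
    have hc2 : Commute u t₂ := by
      refine commute_of_conj_eq (hs2.resolve_right fun e => ?_)
      have e0 := congrArg (fun g : GL ι F => (g : Mι).trace) e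
      simp only [Units.val_mul, Units.val_neg, Matrix.trace_units_conj, Matrix.trace_neg] at e0
      have h0 : (t₂ : Mι).trace = 0 :=
        (mul_eq_zero.1 (show (2 : F) * (t₂ : Mι).trace = 0 by linear_combination e0)).resolve_left h2
      rw [ht₂, ctrl_val h2 hA₁.sq c13, ctrlM, Matrix.trace_smul, Matrix.trace_add, Matrix.trace_add, sub_mul,
        Matrix.one_mul, Matrix.trace_sub, hR.trace_zero hA₁.mem hA₁.ne_one hA₁.ne_neg,
        hR.trace_zero hA₃.mem hA₃.ne_one hA₃.ne_neg, ← Units.val_mul,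
        hR.trace_zero hA13.mem hA13.ne_one hA13.ne_neg] at h0
      simp at h0
      rcases h0 with h0 | h0
      · exact h2 h0
      · exact hR.dim_ne h0
    -- a correcting element
    suffices H : ∀ u ∈ M, Commute u t₁ → Commute u t₂ → u ∈ subgroupNormalizer R by
      rcases hs1 with e | e
      · exact H u hu (commute_of_conj_eq e) hc2
      obtain ⟨Y, hY⟩ : ∃ Y, Y = ctrl A₁ X₃ := ⟨_, rfl⟩
      obtain ⟨n, hn⟩ : ∃ n, n = X₂ * (X₃ * Y) := ⟨_, rfl⟩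
      have hYM : Y ∈ M := hY ▸ h.ctrl_mem hA₁ hX₃.mem x31.symm
      have hYN : Y ∈ subgroupNormalizer R := hY ▸ hR.ctrl_mem_normalizer hA₁.mem hX₃.mem hA₁.sq x31.symm
      have hnM : n ∈ M := hn ▸ M.mul_mem (h.R_le hX₂.mem) (M.mul_mem (h.R_le hX₃.mem) hYM)
      have hnN : n ∈ subgroupNormalizer R :=
        hn ▸ mul_mem (hR.le_normalizer hX₂.mem) (mul_mem (hR.le_normalizer hX₃.mem) hYN)
      have hYT : Y * T * Y⁻¹ = T := by
        have hc : Commute T Y := hY ▸ commute_ctrl h2 hA₁.sq x31.symm (hT ▸ (ctrl_self_commute h2 hA₁.sq c12).symm)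
          (hT ▸ (commute_ctrl h2 hA₁.sq c12 x31 x32).symm)
        rw [← hc.eq, mul_inv_cancel_right]
      have hYA₃ : Y * A₃ * Y⁻¹ = A₃ * A₁ := hY ▸ ctrl_conj_B h2 hA₁.sq x31.symm c13.symm a33
      have hYt₂ : Y * t₂ * Y⁻¹ = t₂ * A₁ := by
        rw [ht₂, ctrl_conj h2 hA₁.sq c13, hYA₃, hY,
          show ctrl A₁ X₃ * A₁ * (ctrl A₁ X₃)⁻¹ = A₁ from
            ctrl_conj_fix h2 hA₁.sq x31.symm (Commute.refl A₁) x31.symm,
          ← ctrl_mul h2 hA₁.sq c13 (Commute.refl A₁)]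
        congr 1
        refine Units.ext ?_
        rw [ctrl_val h2 hA₁.sq (Commute.refl A₁), ctrlM, sub_mul, Matrix.one_mul, ← Units.val_mul, hA₁.sq,
          Units.val_one]
        match_scalars <;> field_simp <;> ring
      have h3T : X₃ * T * X₃⁻¹ = T := by
        rw [hT, ctrl_conj h2 hA₁.sq c12, x31.eq, mul_inv_cancel_right, x32.eq, mul_inv_cancel_right]
      have h3A₃ : X₃ * A₃ * X₃⁻¹ = -A₃ := a33.symm.conj_eq
      have h3A₁ : X₃ * A₁ * X₃⁻¹ = A₁ := by rw [x31.eq, mul_inv_cancel_right]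
      have hm : ∀ {q : GL ι F}, Commute A₁ q → ctrl A₁ (-q) = A₁ * ctrl A₁ q := fun {q} hq => by
        conv_rhs => enter [1]; rw [← ctrl_neg_one h2 hA₁.sq]
        rw [ctrl_mul h2 hA₁.sq (Commute.neg_one_right A₁) hq, neg_one_mul]
      have h2T : X₂ * T * X₂⁻¹ = A₁ * T := by
        rw [hT, ctrl_conj h2 hA₁.sq c12, x21.eq, mul_inv_cancel_right, a22.symm.conj_eq, hm c12]
      have h3t₂ : X₃ * t₂ * X₃⁻¹ = A₁ * t₂ := by
        rw [ht₂, ctrl_conj h2 hA₁.sq c13, h3A₁, h3A₃, hm c13]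
      have h2A : X₂ * (A₃ * A₁) * X₂⁻¹ = A₃ * A₁ := by
        rw [(x23.mul_right x21).eq, mul_inv_cancel_right]
      have hn1 : n * t₁ * n⁻¹ = -t₁ := by
        rw [hn, conj_conj, conj_conj, ht₁, conj_mul Y, hYT, hYA₃, conj_mul X₃, h3T, conj_mul X₃, h3A₃, h3A₁,
          neg_mul, mul_neg, mul_neg, neg_mul, conj_mul X₂, h2T, h2A,
          show A₁ * T * (A₃ * A₁) = A₁ * (T * A₃) * A₁ by simp only [mul_assoc],
          show A₁ * (T * A₃) = T * A₃ * A₁ from ht₁ ▸ hA₁t₁.eq, mul_assoc (T * A₃), hA₁.sq, mul_one]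
      have hA₁t₂ : Commute A₁ t₂ := ht₂ ▸ ctrl_self_commute h2 hA₁.sq c13
      have hn2 : n * t₂ * n⁻¹ = t₂ := by
        rw [hn, conj_conj, conj_conj, hYt₂, conj_mul X₃, h3t₂, h3A₁, hA₁t₂.eq, mul_assoc t₂, hA₁.sq, mul_one,
          ht₂, ctrl_conj h2 hA₁.sq c13, x21.eq, mul_inv_cancel_right, x23.eq, mul_inv_cancel_right]
      have := H (n * u) (M.mul_mem hnM hu) ?_ ?_
      · exact (Subgroup.mul_mem_cancel_left _ hnN).1 this
      · refine commute_of_conj_eq ?_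
        rw [conj_conj, e, mul_neg, neg_mul, hn1, neg_neg]
      · refine commute_of_conj_eq ?_
        rw [conj_conj, show u * t₂ * u⁻¹ = t₂ by rw [hc2.eq, mul_inv_cancel_right], hn2]
    intro u hu hc1 hc2
    have w1 : ((1 : Mι) * (A₂ : Mι)) = A₂ := Matrix.one_mul _
    have mc : ∀ {a b : GL ι F}, Commute a b → ∀ X : Mι, (a : Mι) * ((b : Mι) * X) = (b : Mι) * ((a : Mι) * X) :=
      fun {a b} hab X => by rw [← mul_assoc, ← Units.val_mul, hab.eq, Units.val_mul, mul_assoc]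
    have mm : ∀ {a b : GL ι F}, Commute a b → (a : Mι) * (b : Mι) = (b : Mι) * (a : Mι) := fun {a b} hab => by
      rw [← Units.val_mul, hab.eq, Units.val_mul]
    have sq : ∀ {a : GL ι F}, a * a = 1 → (a : Mι) * (a : Mι) = 1 ∧ ∀ X : Mι, (a : Mι) * ((a : Mι) * X) = X :=
      fun {a} ha => by
        have e : (a : Mι) * (a : Mι) = 1 := by rw [← Units.val_mul, ha, Units.val_one]
        exact ⟨e, fun X => by rw [← mul_assoc, e, Matrix.one_mul]⟩
    obtain ⟨Q, hQ⟩ : ∃ Q : Mι, Q = (1 - (t₁ : Mι)) * (1 + (t₂ : Mι)) := ⟨_, rfl⟩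
    have hT₁ : (t₁ : Mι) = ctrlM (A₁ : Mι) (A₂ : Mι) * (A₃ : Mι) := by
      rw [ht₁, hT, Units.val_mul, ctrl_val h2 hA₁.sq c12]
    have hT₂ : (t₂ : Mι) = ctrlM (A₁ : Mι) (A₃ : Mι) := by rw [ht₂, ctrl_val h2 hA₁.sq c13]
    have hDQ : ((A₁ * A₃ : GL ι F) : Mι) * Q = -Q := by
      rw [hQ, hT₁, hT₂, Units.val_mul, ctrlM, ctrlM]
      simp only [Matrix.smul_mul, Matrix.mul_smul, mul_add, add_mul, mul_sub, sub_mul, smul_add, smul_sub,
        Matrix.one_mul, Matrix.mul_one, mul_assoc, mm c12.symm, mm c13.symm, mm c23.symm, mc c12.symm, mc c13.symm,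
        mc c23.symm, (sq hA₁.sq).1, (sq hA₁.sq).2, (sq hA₂.sq).1, (sq hA₂.sq).2, (sq hA₃.sq).1, (sq hA₃.sq).2]
      match_scalars <;> field_simp <;> ring
    have hA3Q : (A₃ : Mι) * ((4 : F) • 1 - Q) = (t₂ : Mι) * ((4 : F) • 1 - Q) := by
      rw [hQ, hT₁, hT₂, ctrlM, ctrlM]
      simp only [Matrix.smul_mul, Matrix.mul_smul, mul_add, add_mul, mul_sub, sub_mul, smul_add, smul_sub,
        Matrix.one_mul, Matrix.mul_one, mul_assoc, mm c12.symm, mm c13.symm, mm c23.symm, mc c12.symm, mc c13.symm,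
        mc c23.symm, (sq hA₁.sq).1, (sq hA₁.sq).2, (sq hA₂.sq).1, (sq hA₂.sq).2, (sq hA₃.sq).1, (sq hA₃.sq).2]
      match_scalars <;> field_simp <;> ring
    have hA₃t₂ : Commute A₃ t₂ := ht₂ ▸ commute_ctrl h2 hA₁.sq c13 c13.symm (Commute.refl A₃)
    have hQc : ∀ {a : GL ι F}, Commute a t₁ → Commute a t₂ → (a : Mι) * Q = Q * (a : Mι) := fun {a} h1 h2' => by
      rw [hQ]
      exact (((Commute.one_right (a : Mι)).sub_right (mm h1)).mul_right
        ((Commute.one_right (a : Mι)).add_right (mm h2'))).eq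
    obtain ⟨V, hV⟩ : ∃ V, V = u * A₃ * u⁻¹ := ⟨_, rfl⟩
    have hVt : ∀ {t}, Commute u t → Commute A₃ t → Commute V t := fun {t} a b =>
      hV ▸ (a.mul_left b).mul_left a.inv_left
    have hD : ∀ {t}, Commute A₁ t → Commute A₃ t → Commute (A₁ * A₃) t := fun {t} a b => a.mul_left b
    have hD1 : Commute (A₁ * A₃) t₁ := hD hA₁t₁ hA₃t₁
    have hD2 : Commute (A₁ * A₃) t₂ := hD (ht₂ ▸ ctrl_self_commute h2 hA₁.sq c13) hA₃t₂
    have hVD : Commute V (A₁ * A₃) := by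
      have h4 : (4 : F) • (V : Mι) = (t₂ : Mι) * ((4 : F) • 1 - Q) + (V : Mι) * Q := by
        have e0 : (4 : F) • (A₃ : Mι) = (t₂ : Mι) * ((4 : F) • 1 - Q) + (A₃ : Mι) * Q := by
          rw [← hA3Q, mul_sub, Matrix.mul_smul, Matrix.mul_one, sub_add_cancel]
        have e1 := congrArg (fun X : Mι => (u : Mι) * X * ((u⁻¹ : GL ι F) : Mι)) e0
        simp only [Matrix.mul_smul, Matrix.smul_mul, mul_add, add_mul, ← Units.val_mul] at e1
        rw [← hV] at e1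
        rw [e1]
        have e2 : (u : Mι) * ((t₂ : Mι) * ((4 : F) • 1 - Q)) * ((u⁻¹ : GL ι F) : Mι) =
            (t₂ : Mι) * ((4 : F) • 1 - Q) := by
          have hc : Commute (u : Mι) ((t₂ : Mι) * ((4 : F) • 1 - Q)) :=
            Commute.mul_right (mm hc2) ((((Commute.one_right (u : Mι)).smul_right (4 : F))).sub_right (hQc hc1 hc2))
          rw [hc.eq, mul_assoc, Units.mul_inv, Matrix.mul_one]
        rw [e2]
        congr 1
        rw [hV, Units.val_mul, Units.val_mul, ← mul_assoc, mul_assoc ((u : Mι) * (A₃ : Mι)),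
          ← hQc hc1.inv_left hc2.inv_left, ← mul_assoc]
      refine Units.ext (smul_right_injective Mι (show (4 : F) ≠ 0 by
        rw [show (4 : F) = 2 * 2 by norm_num]; exact mul_ne_zero h2 h2) ?_)
      simp only
      rw [Units.val_mul V, Units.val_mul _ V, ← Matrix.smul_mul, ← Matrix.mul_smul, h4, add_mul, mul_add]
      congr 1
      · exact (Commute.mul_right (mm hD2) ((((Commute.one_right _).smul_right (4 : F))).sub_right
          (hQc hD1 hD2))).eq.symm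
      · rw [mul_assoc, ← hQc hD1 hD2, hDQ, hQc (hVt hc1 hA₃t₁) (hVt hc2 hA₃t₂), ← mul_assoc, hDQ, neg_mul,
          mul_neg, hQc (hVt hc1 hA₃t₁) (hVt hc2 hA₃t₂)]
    have hVM : V ∈ M := hV ▸ M.mul_mem (M.mul_mem hu (h.R_le hA₃.mem)) (M.inv_mem hu)
    have hVN : V ∈ subgroupNormalizer R :=
      h.centre hA13 hVM (Or.inl (by rw [hVD.eq, mul_inv_cancel_right]))
    exact h.weak hA₃ hu (hV ▸ hVN)
  -- first step
  have step1 : ∀ g ∈ M.map π, (∀ x ∈ ({π t₁} : Set (GL ι F ⧸ scalars ι F)), g * x = x * g) →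
      g ∈ (subgroupNormalizer R).map π := by
    refine hS.centralizer_le (t := π t₂) (Z := {π A₁}) ?_ ?_ (Subgroup.mem_map_of_mem _ ht₂M)
      (Subgroup.mem_map_of_mem _ ht₂N) (by rw [← map_mul, ht₂₂, map_one]) hne₂ ?_ (by simp) ?_ ?_ hbase
    · rintro _ rfl
      exact ⟨Subgroup.mem_map_of_mem _ ht₁M, Subgroup.mem_map_of_mem _ ht₁N, by rw [← map_mul, ht₁₁, map_one],
        by rw [← map_mul, htt.eq, map_mul]⟩
    · rintro _ rfl _ rfl; rfl
    · intro r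
      simp only [Set.mem_singleton_iff, forall_eq]
      constructor
      · rintro rfl
        refine ⟨⟨A₁, hA₁, rfl⟩, ⟨π X₃, Subgroup.mem_map_of_mem _ hX₃.mem, by rw [hπb, hX3t₂]⟩,
          ⟨π X₂, Subgroup.mem_map_of_mem _ hX₂.mem, ?_⟩⟩
        rw [hπb, proj_of_sgn (hb1 _ hX₂.mem), hX2T]
      · rintro ⟨⟨x, hx, rfl⟩, ⟨_, ⟨u, hu, rfl⟩, e⟩, ⟨_, ⟨u', hu', rfl⟩, e'⟩⟩
        rw [hπb] at e
        rw [hπb, proj_of_sgn (hb1 u' hu')] at e'
        have hTN : T ∈ subgroupNormalizer R := hT ▸ hR.ctrl_mem_normalizer hA₁.mem hA₂.mem hA₁.sq c12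
        have s1 : Sgn x (u * t₂ * u⁻¹ * t₂⁻¹) := hR.sgn_of_proj hx.mem (hR.bracket_mem ht₂N hu) e.symm
        have s2 : Sgn x (u' * T * u'⁻¹ * T⁻¹) := hR.sgn_of_proj hx.mem (hR.bracket_mem hTN hu') e'.symm
        rw [ht₂] at s1
        rw [hT] at s2
        rcases hR.bracket_ctrl hA₁ hA₃ c13 hu with b | b | b | b
        · rw [b] at s1; exact (s1.elim hx.ne_one hx.ne_neg).elim
        · exact proj_of_sgn (s1.trans b)
        all_goals
          exfalso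
          have hX : Anti X₃ x := by
            have hz : Sgn x _ := s1.trans b
            rcases hz with e0 | e0 <;> rw [e0]
            all_goals first
              | exact a33.symm
              | exact a33.symm.neg_right
              | exact Anti.comm_mul_right x31 a33.symm
              | exact (Anti.comm_mul_right x31 a33.symm).neg_right
          rcases hR.bracket_ctrl hA₁ hA₂ c12 hu' with b' | b' | b' | b'
          · rw [b'] at s2; exact (s2.elim hx.ne_one hx.ne_neg)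
          · exact hdist (s2.trans b') hX x31
          · exact hdist (s2.trans b') hX x32
          · exact hdist (s2.trans b') hX (x31.mul_right x32)
    · rintro _ rfl
      refine ⟨π X₃, Subgroup.mem_map_of_mem _ hX₃.mem, ?_, by rw [hπb, hX3t₂]⟩
      rintro _ rfl
      have h3T : X₃ * T * X₃⁻¹ = T := by
        rw [hT, ctrl_conj h2 hA₁.sq c12, x31.eq, mul_inv_cancel_right, x32.eq, mul_inv_cancel_right]
      have e : π (X₃ * t₁ * X₃⁻¹ * t₁⁻¹) = 1 := by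
        rw [proj_of_sgn (hb1 X₃ hX₃.mem), h3T, mul_inv_cancel, map_one]
      rw [map_mul, map_mul, map_mul, map_inv, map_inv, mul_inv_eq_one, mul_inv_eq_iff_eq_mul] at e
      exact e.symm
    · rintro _ rfl w hw hwt hw1 hxy
      exact hgood t₂ ht₂N _ ⟨A₁, hA₁, rfl⟩ ⟨π X₃, Subgroup.mem_map_of_mem _ hX₃.mem, by rw [hπb, hX3t₂]⟩ w hw
        hwt hw1 hxy
  -- second step
  have step2 : ∀ g ∈ M.map π, (∀ x ∈ (∅ : Set (GL ι F ⧸ scalars ι F)), g * x = x * g) →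
      g ∈ (subgroupNormalizer R).map π := by
    have hq1 : π X₂ * π t₁ * (π X₂)⁻¹ * (π t₁)⁻¹ = π A₁ := by
      rw [hπb, proj_of_sgn (hb1 X₂ hX₂.mem), hX2T]
    have hq2 : π X₁ * π t₁ * (π X₁)⁻¹ * (π t₁)⁻¹ = π A₂ := by
      rw [hπb, proj_of_sgn (hb1 X₁ hX₁.mem), hX1T]
    have hq3 : π (X₁ * X₂) * π t₁ * (π (X₁ * X₂))⁻¹ * (π t₁)⁻¹ = π (A₁ * A₂) := by
      rw [hπb, proj_of_sgn (hb1 _ (R.mul_mem hX₁.mem hX₂.mem)), proj_of_sgn hX12T, c12.eq]
    have hne : ∀ {a b : GL ι F}, a ∈ R → b ∈ R → ∀ X, Anti X a → Commute X b → π a ≠ π b :=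
      fun ha hb X h1 h2' e => hdist (hR.sgn_of_proj ha hb e) h1 h2'
    have d12 : π A₁ ≠ π A₂ := hne hA₁.mem hA₂.mem X₁ a11.symm x12
    have d13 : π A₁ ≠ π (A₁ * A₂) := fun e =>
      hne hA12.mem hA₁.mem X₂ (Anti.comm_mul_right x21 a22.symm) x21 e.symm
    have d23 : π A₂ ≠ π (A₁ * A₂) := fun e =>
      hne hA12.mem hA₂.mem X₁ (a11.symm.mul_comm_right x12) x12 e.symm
    refine hS.centralizer_le (t := π t₁) (Z := {π A₁, π A₂, π (A₁ * A₂)}) (by simp) (by simp)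
      (Subgroup.mem_map_of_mem _ ht₁M) (Subgroup.mem_map_of_mem _ ht₁N) (by rw [← map_mul, ht₁₁, map_one]) hne₁
      ?_ ?_ ?_ ?_ fun g hg _ h' => step1 g hg (by rintro _ rfl; exact h')
    · intro r
      simp only [Set.mem_insert_iff, Set.mem_singleton_iff, Set.mem_empty_iff_false, false_implies, implies_true,
        and_true]
      constructor
      · rintro (rfl | rfl | rfl)
        · exact ⟨⟨A₁, hA₁, rfl⟩, π X₂, Subgroup.mem_map_of_mem _ hX₂.mem, hq1⟩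
        · exact ⟨⟨A₂, hA₂, rfl⟩, π X₁, Subgroup.mem_map_of_mem _ hX₁.mem, hq2⟩
        · exact ⟨⟨A₁ * A₂, hA12, rfl⟩, π (X₁ * X₂), Subgroup.mem_map_of_mem _ (R.mul_mem hX₁.mem hX₂.mem), hq3⟩
      · rintro ⟨⟨x, hx, rfl⟩, _, ⟨u, hu, rfl⟩, e⟩
        rw [hπb, proj_of_sgn (hb1 u hu), hT] at e
        rcases hR.bracket_ctrl hA₁ hA₂ c12 hu with b | b | b | b
        · rw [b, map_one] at e
          exact absurd e.symm (hS.good_ne _ ⟨x, hx, rfl⟩)
        · exact Or.inl (e.symm.trans (proj_of_sgn b))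
        · exact Or.inr (Or.inl (e.symm.trans (proj_of_sgn b)))
        · exact Or.inr (Or.inr (e.symm.trans (proj_of_sgn b)))
    · rw [Set.ncard_insert_of_notMem (by simp only [Set.mem_insert_iff, Set.mem_singleton_iff, not_or]; exact ⟨d12, d13⟩), Set.ncard_pair d23]
      decide
    · rintro _ (rfl | rfl | rfl)
      · exact ⟨π X₂, Subgroup.mem_map_of_mem _ hX₂.mem, by simp, hq1⟩
      · exact ⟨π X₁, Subgroup.mem_map_of_mem _ hX₁.mem, by simp, hq2⟩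
      · exact ⟨π (X₁ * X₂), Subgroup.mem_map_of_mem _ (R.mul_mem hX₁.mem hX₂.mem), by simp, hq3⟩
    · rintro _ (rfl | rfl | rfl) w hw hwt hw1 hxy
      · exact hgood t₁ ht₁N _ ⟨A₁, hA₁, rfl⟩ ⟨π X₂, Subgroup.mem_map_of_mem _ hX₂.mem, hq1⟩ w hw hwt hw1 hxy
      · exact hgood t₁ ht₁N _ ⟨A₂, hA₂, rfl⟩ ⟨π X₁, Subgroup.mem_map_of_mem _ hX₁.mem, hq2⟩ w hw hwt hw1 hxy
      · exact hgood t₁ ht₁N _ ⟨A₁ * A₂, hA12, rfl⟩
          ⟨π (X₁ * X₂), Subgroup.mem_map_of_mem _ (R.mul_mem hX₁.mem hX₂.mem), hq3⟩ w hw hwt hw1 hxy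
  exact fun g hg => mem_of_proj_mem (step2 _ (Subgroup.mem_map_of_mem _ hg) (by simp))

end CfsgLib.MaxSub.SymReal
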