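import Mathlib

/-!
Anticommuting elements of a group with a distributive negation.
-/

set_option autoImplicit false
set_option linter.unusedSectionVars false

namespace CfsgLib.MaxSub.SymReal

variable {Γ : Type*} [Group Γ] [HasDistribNeg Γ]

/-- The elements anticommute. -/
def Anti (a b : Γ) : Prop := a * b = -(b * a)

variable {a b c g : Γ}

theorem Anti.symm (h : Anti a b) : Anti b a := by
  unfold Anti at h ⊢; rw [h, neg_neg]

theorem Anti.mul_comm_right (h : Anti a b) (h' : Commute a c) : Anti a (b * c) := by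
  unfold Anti at h ⊢; rw [← mul_assoc, h, neg_mul, mul_assoc, h'.eq, mul_assoc]

theorem Anti.comm_mul_right (h : Commute a b) (h' : Anti a c) : Anti a (b * c) := by
  unfold Anti at h' ⊢; rw [← mul_assoc, h.eq, mul_assoc, h', mul_neg, mul_assoc]

theorem Anti.mul_anti_right (h : Anti a b) (h' : Anti a c) : Commute a (b * c) := by
  unfold Anti at h h'; unfold Commute SemiconjBy
  rw [← mul_assoc, h, neg_mul, mul_assoc, h', mul_neg, neg_neg, mul_assoc]

theorem Anti.mul_comm_left (h : Anti a c) (h' : Commute b c) : Anti (a * b) c :=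
  (Anti.mul_comm_right h.symm h'.symm).symm

theorem Anti.comm_mul_left (h : Commute a c) (h' : Anti b c) : Anti (a * b) c :=
  (Anti.comm_mul_right h.symm h'.symm).symm

theorem Anti.mul_anti_left (h : Anti a c) (h' : Anti b c) : Commute (a * b) c :=
  (Anti.mul_anti_right h.symm h'.symm).symm

theorem Anti.neg_left (h : Anti a b) : Anti (-a) b := by
  unfold Anti at h ⊢; rw [neg_mul, mul_neg, h]

theorem Anti.neg_right (h : Anti a b) : Anti a (-b) := h.symm.neg_left.symm

theorem Anti.inv_right (h : Anti a b) : Anti a b⁻¹ := by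
  unfold Anti at h ⊢
  calc a * b⁻¹ = b⁻¹ * (b * a) * b⁻¹ := by group
    _ = b⁻¹ * (-(a * b)) * b⁻¹ := by rw [h, neg_neg]
    _ = -(b⁻¹ * a) := by rw [mul_neg, neg_mul, ← mul_assoc, mul_inv_cancel_right]

theorem Anti.inv_left (h : Anti a b) : Anti a⁻¹ b := h.symm.inv_right.symm

theorem Anti.conj (h : Anti a b) (g : Γ) : Anti (g * a * g⁻¹) (g * b * g⁻¹) := by
  unfold Anti at h ⊢
  rw [show g * a * g⁻¹ * (g * b * g⁻¹) = g * (a * b) * g⁻¹ by group,
    show g * b * g⁻¹ * (g * a * g⁻¹) = g * (b * a) * g⁻¹ by group, h, mul_neg, neg_mul]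

theorem commute_conj (h : Commute a b) (g : Γ) : Commute (g * a * g⁻¹) (g * b * g⁻¹) :=
  h.map (MulAut.conj g).toMonoidHom

theorem Anti.conj_eq (h : Anti g a) : g * a * g⁻¹ = -a := by
  rw [h, neg_mul, mul_assoc, mul_inv_cancel, mul_one]

theorem anti_of_conj_eq (h : g * a * g⁻¹ = -a) : Anti g a := by
  unfold Anti; rw [← neg_mul, ← h, inv_mul_cancel_right]

theorem commute_of_conj_eq (h : g * a * g⁻¹ = a) : Commute g a := by
  unfold Commute SemiconjBy; rw [← mul_inv_eq_iff_eq_mul, h]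

/-- Equal up to sign. -/
def Sgn (a b : Γ) : Prop := a = b ∨ a = -b

theorem Sgn.refl (a : Γ) : Sgn a a := Or.inl rfl

theorem Sgn.symm (h : Sgn a b) : Sgn b a := by
  rcases h with rfl | rfl
  · exact Or.inl rfl
  · exact Or.inr (neg_neg b).symm

theorem Sgn.trans (h : Sgn a b) (h' : Sgn b c) : Sgn a c := by
  rcases h with rfl | rfl <;> rcases h' with rfl | rfl
  · exact Or.inl rfl
  · exact Or.inr rfl
  · exact Or.inr rfl
  · exact Or.inl (neg_neg c)

theorem Sgn.mul {a' b' : Γ} (h : Sgn a a') (h' : Sgn b b') : Sgn (a * b) (a' * b') := by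
  rcases h with rfl | rfl <;> rcases h' with rfl | rfl
  · exact Or.inl rfl
  · exact Or.inr (mul_neg _ _)
  · exact Or.inr (neg_mul _ _)
  · exact Or.inl (neg_mul_neg _ _)

theorem Sgn.inv (h : Sgn a b) : Sgn a⁻¹ b⁻¹ := by
  rcases h with rfl | rfl
  · exact Or.inl rfl
  · refine Or.inr (inv_eq_of_mul_eq_one_left ?_)
    rw [neg_mul_neg, inv_mul_cancel]

theorem Sgn.conj (h : Sgn a b) (g : Γ) : Sgn (g * a * g⁻¹) (g * b * g⁻¹) :=
  Sgn.mul (Sgn.mul (Or.inl rfl) h) (Or.inl rfl)

theorem Sgn.commute_or_anti (h : Sgn a b) (h' : Commute b c ∨ Anti b c) : Commute a c ∨ Anti a c := by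
  rcases h with rfl | rfl
  · exact h'
  · rcases h' with h' | h'
    · exact Or.inl (by unfold Commute SemiconjBy; rw [neg_mul, mul_neg, h'.eq])
    · exact Or.inr h'.neg_left

end CfsgLib.MaxSub.SymReal
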