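import Cfsg.Agent.Lib.Aschbacher.SympType
import Cfsg.Agent.Lib.MaxSub.SympTypeFourGroup
import Cfsg.Agent.Lib.MaxSub.SymEight.Frame
import Cfsg.Agent.Lib.MaxSub.SymReal.Anti

/-!
Real frames: finite groups of matrices with squares and commutators `±1`, scalars `±1`, spanning the whole
matrix algebra. Traces, signs and cardinalities.
-/

set_option autoImplicit false
set_option linter.unusedSectionVars false
set_option linter.style.haveILetI false

namespace CfsgLib.MaxSub.SymReal

open scoped MatrixGroups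
open Cfsg.Geo Matrix
open CfsgLib.MaxSub.SymEight (Ns)

variable {ι : Type} [Fintype ι] [DecidableEq ι] {F : Type*} [Field F]

local notation "Mι" => Matrix ι ι F

/-- A group containing `-1` and no other scalar, with squares and commutators equal to signs, spanning
the matrix algebra. -/
structure RFrame (R : Subgroup (GL ι F)) : Prop where
  two : (2 : F) ≠ 0
  dim_ne : (Fintype.card ι : F) ≠ 0
  neg_one : (-1 : GL ι F) ∈ R
  scal : ∀ y ∈ R, ∀ c : F, (y : Mι) = c • (1 : Mι) → y = 1 ∨ y = -1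
  sq : ∀ y ∈ R, y * y = 1 ∨ y * y = -1
  comm : ∀ x ∈ R, ∀ y ∈ R, Commute x y ∨ Anti x y
  alg : CfsgLib.Aschbacher.alg R = ⊤

/-- A non-central involution of `R`. -/
structure Sing (R : Subgroup (GL ι F)) (x : GL ι F) : Prop where
  mem : x ∈ R
  sq : x * x = 1
  ne_one : x ≠ 1
  ne_neg : x ≠ -1

/-- A subgroup with at most two cosets in a bigger one. -/
theorem card_le_two_mul {Γ : Type*} [Group Γ] {S T : Subgroup Γ} [Finite S] (hle : T ≤ S)
    (h : ∀ a ∈ S, ∀ b ∈ S, a ∉ T → b ∉ T → a * b ∈ T) : Nat.card S ≤ 2 * Nat.card T := by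
  classical
  haveI : Finite T := Finite.of_injective (Subgroup.inclusion hle) (Subgroup.inclusion_injective hle)
  by_cases hST : S ≤ T
  · rw [le_antisymm hST hle]; omega
  obtain ⟨s, hsS, hsT⟩ := SetLike.not_le_iff_exists.1 hST
  let f : S → T × Bool := fun a =>
    if ha : (a : Γ) ∈ T then (⟨a, ha⟩, true) else (⟨s * a, h s hsS a a.2 hsT ha⟩, false)
  have hf : Function.Injective f := by
    intro a b e
    simp only [f] at e
    split at e <;> split at e <;> simp only [Prod.mk.injEq, Subtype.mk.injEq] at e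
    · exact Subtype.ext e.1
    · exact absurd e.2 (by decide)
    · exact absurd e.2 (by decide)
    · exact Subtype.ext (mul_left_cancel e.1)
  calc Nat.card S ≤ Nat.card (T × Bool) := Nat.card_le_card_of_injective f hf
    _ = 2 * Nat.card T := by rw [Nat.card_prod, Nat.card_eq_fintype_card (α := Bool), Fintype.card_bool, mul_comm]

/-- A subgroup with more than `|s|` elements has one outside the finite set `s`. -/
theorem exists_not_mem {Γ : Type*} [Group Γ] [DecidableEq Γ] {S : Subgroup Γ} [Finite S] (s : Finset Γ)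
    (h : s.card < Nat.card S) : ∃ a ∈ S, a ∉ s := by
  by_contra hcon
  push Not at hcon
  have := Nat.card_le_card_of_injective (fun a : S => (⟨a, hcon a a.2⟩ : s))
    fun a b e => Subtype.ext (by simpa using e)
  rw [Nat.card_eq_fintype_card (α := s), Fintype.card_coe] at this
  omega

namespace RFrame

variable {R : Subgroup (GL ι F)} (hR : RFrame R)
include hR

theorem nonempty : Nonempty ι := Fintype.card_pos_iff.1 (Nat.pos_of_ne_zero fun h => hR.dim_ne (by simp [h]))

theorem neg_mem {y : GL ι F} (hy : y ∈ R) : -y ∈ R := by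
  rw [← neg_one_mul]; exact R.mul_mem hR.neg_one hy

theorem mem_of_sgn {a b : GL ι F} (hb : b ∈ R) (h : Sgn a b) : a ∈ R := by
  rcases h with rfl | rfl
  · exact hb
  · exact hR.neg_mem hb

theorem ne_neg (a : GL ι F) : a ≠ -a := by
  haveI := hR.nonempty
  intro h
  have e := congrArg Units.val h
  rw [Units.val_neg] at e
  have h' : (2 : F) • (a : Mι) = 0 := by rw [two_smul]; nth_rewrite 1 [e]; exact neg_add_cancel _
  exact a.ne_zero ((smul_eq_zero.1 h').resolve_left hR.two)

theorem one_ne_neg_one : (1 : GL ι F) ≠ -1 := hR.ne_neg 1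

theorem not_anti {a b : GL ι F} (h : Commute a b) : ¬ Anti a b := fun h' =>
  hR.ne_neg (b * a) (h.eq.symm.trans h')

theorem irr {A : Mι} (h : ∀ y ∈ R, A * (y : Mι) = (y : Mι) * A) : ∃ c : F, A = c • (1 : Mι) :=
  CfsgLib.Aschbacher.scalar_of_commute hR.alg fun y hy => (h y hy).symm

theorem eq_one_of_comm {y : GL ι F} (hy : y ∈ R) (h : ∀ w ∈ R, Commute w y) : y = 1 ∨ y = -1 := by
  obtain ⟨c, hc⟩ := hR.irr (A := (y : Mι)) fun w hw => (congrArg Units.val (h w hw).eq).symm
  exact hR.scal y hy c hc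

theorem exists_anti {y : GL ι F} (hy : y ∈ R) (h1 : y ≠ 1) (h2 : y ≠ -1) : ∃ w ∈ R, Anti w y := by
  by_contra hcon
  push Not at hcon
  exact (hR.eq_one_of_comm hy fun w hw => (hR.comm w hw y hy).resolve_right (hcon w hw)).elim h1 h2

theorem trace_of_anti {a w : GL ι F} (h : Anti w a) : (a : Mι).trace = 0 := by
  have h1 : ((w : Mι) * (a : Mι) * ((w⁻¹ : GL ι F) : Mι)).trace = (a : Mι).trace :=
    Matrix.trace_units_conj w _
  rw [← Units.val_mul, ← Units.val_mul, h.conj_eq, Units.val_neg, Matrix.trace_neg] at h1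
  exact (mul_eq_zero.1 (show (2 : F) * (a : Mι).trace = 0 by linear_combination -h1)).resolve_left hR.two

theorem trace_zero {y : GL ι F} (hy : y ∈ R) (h1 : y ≠ 1) (h2 : y ≠ -1) : (y : Mι).trace = 0 := by
  obtain ⟨w, -, hw⟩ := hR.exists_anti hy h1 h2
  exact hR.trace_of_anti hw

theorem trace_one : ((1 : Mι)).trace ≠ 0 := by rw [Matrix.trace_one]; exact hR.dim_ne

theorem eq_one_of_trace {y : GL ι F} (hy : y ∈ R) (h : (y : Mι).trace ≠ 0) : y = 1 ∨ y = -1 := by
  by_contra hcon
  push Not at hcon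
  exact h (hR.trace_zero hy hcon.1 hcon.2)

/-- Only the zero matrix has trace zero against the whole group. -/
theorem nondeg {A : Mι} (h : ∀ y ∈ R, ((y : Mι) * A).trace = 0) : A = 0 := by
  haveI := hR.nonempty
  have hall : ∀ B : Mι, (B * A).trace = 0 := fun B => by
    obtain ⟨L, hL⟩ : ∃ L : Mι →ₗ[F] F, L = (Matrix.traceLinearMap ι F F).comp (LinearMap.mulRight F A) :=
      ⟨_, rfl⟩
    have hker : Submodule.span F (Set.range fun Q : R ⧸ Subgroup.center R => (((Q.out : R) : GL ι F) : Mι)) ≤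
        LinearMap.ker L := Submodule.span_le.2 fun X hX => by
      obtain ⟨Q, rfl⟩ := hX
      rw [SetLike.mem_coe, LinearMap.mem_ker, hL]
      exact h _ (Q.out).2
    have := hker (CfsgLib.Aschbacher.span_reps hR.alg (Submodule.mem_top (x := B)))
    rw [LinearMap.mem_ker, hL] at this
    exact this
  ext i j
  simpa [Matrix.trace_single_mul] using hall (Matrix.single j i 1)

/-- An element commuting or anticommuting with each element is a multiple of an element. -/
theorem eq_smul_of_sign {A : GL ι F} (h : ∀ y ∈ R, Commute A y ∨ Anti A y) :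
    ∃ p ∈ R, ∃ l : F, l ≠ 0 ∧ (A : Mι) = l • (p : Mι) := by
  haveI := hR.nonempty
  obtain ⟨y, hy, hty⟩ : ∃ y ∈ R, ((y : Mι) * (A : Mι)).trace ≠ 0 := by
    by_contra hcon; push Not at hcon; exact A.ne_zero (hR.nondeg hcon)
  obtain ⟨c, hc⟩ := hR.irr (A := ((y * A : GL ι F) : Mι)) fun w hw => by
    have hs : Commute (y * A) w ∨ Anti (y * A) w := by
      rcases hR.comm y hy w hw with h1 | h1 <;> rcases h w hw with h2 | h2
      · exact Or.inl (h1.mul_left h2)
      · exact Or.inr (Anti.comm_mul_left h1 h2)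
      · exact Or.inr (h1.mul_comm_left h2)
      · exact Or.inl (h1.mul_anti_left h2)
    refine congrArg Units.val (hs.resolve_right fun hne => hty ?_).eq
    rw [← Units.val_mul]
    exact hR.trace_of_anti hne.symm
  have hc0 : c ≠ 0 := fun h0 => (y * A).ne_zero (by rw [hc, h0, zero_smul])
  refine ⟨y⁻¹, R.inv_mem hy, c, hc0, ?_⟩
  calc (A : Mι) = ((y⁻¹ : GL ι F) : Mι) * ((y * A : GL ι F) : Mι) := by
        rw [← Units.val_mul, inv_mul_cancel_left]
    _ = c • ((y⁻¹ : GL ι F) : Mι) := by rw [hc, Matrix.mul_smul, Matrix.mul_one]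

theorem inv_sgn {y : GL ι F} (hy : y ∈ R) : Sgn y⁻¹ y := by
  rcases hR.sq y hy with h | h
  · exact Or.inl (inv_eq_of_mul_eq_one_left h)
  · exact Or.inr (inv_eq_of_mul_eq_one_left (by rw [neg_mul, h, neg_neg]))

theorem conj_sgn {a y : GL ι F} (ha : a ∈ R) (hy : y ∈ R) : Sgn (a * y * a⁻¹) y := by
  rcases hR.comm a ha y hy with h | h
  · exact Or.inl (by rw [h.eq, mul_inv_cancel_right])
  · exact Or.inr h.conj_eq

theorem sq_of_sgn {a b : GL ι F} (h : Sgn a b) : a * a = b * b := by
  rcases h with rfl | rfl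
  · rfl
  · rw [neg_mul_neg]

theorem anti_ne {w y : GL ι F} (h : Anti w y) : y ≠ 1 ∧ y ≠ -1 := by
  refine ⟨fun e => hR.not_anti (e ▸ Commute.one_right w) h, fun e => ?_⟩
  subst e
  exact hR.not_anti (show Commute w (-1) by unfold Commute SemiconjBy; rw [mul_neg, neg_mul, mul_one, one_mul]) h

/-- An element commuting with the first and anticommuting with the second. -/
theorem exists_sign {a b : GL ι F} (ha : a ∈ R) (hb : b ∈ R) (h1 : b ≠ 1) (h2 : b ≠ -1)
    (h3 : a * b ≠ 1) (h4 : a * b ≠ -1) : ∃ w ∈ R, Commute w a ∧ Anti w b := by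
  by_contra hcon
  push Not at hcon
  obtain ⟨w₁, hw₁, hw₁b⟩ := hR.exists_anti hb h1 h2
  have hw₁a : Anti w₁ a := (hR.comm w₁ hw₁ a ha).resolve_left fun h => hcon w₁ hw₁ h hw₁b
  refine ((hR.eq_one_of_comm (R.mul_mem ha hb)) fun w hw => ?_).elim h3 h4
  rcases hR.comm w hw b hb with h | h
  · rcases hR.comm w hw a ha with h' | h'
    · exact h'.mul_right h
    · exfalso
      exact hcon (w₁ * w) (R.mul_mem hw₁ hw) (hw₁a.mul_anti_left h') (hw₁b.mul_comm_left h)
  · exact ((hR.comm w hw a ha).resolve_left fun h' => hcon w hw h' h).mul_anti_right h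

/-- An element commuting with two and anticommuting with a third. -/
theorem exists_sign₃ {a b c : GL ι F} (ha : a ∈ R) (hb : b ∈ R) (hc : c ∈ R)
    (hc1 : c ≠ 1) (hc2 : c ≠ -1) (hac1 : a * c ≠ 1) (hac2 : a * c ≠ -1) (hbc1 : b * c ≠ 1)
    (hbc2 : b * c ≠ -1) (habc1 : a * (b * c) ≠ 1) (habc2 : a * (b * c) ≠ -1) :
    ∃ q ∈ R, Commute q a ∧ Commute q b ∧ Anti q c := by
  obtain ⟨q₁, hq₁, hq₁a, hq₁c⟩ := hR.exists_sign ha hc hc1 hc2 hac1 hac2
  rcases hR.comm q₁ hq₁ b hb with h | h
  · exact ⟨q₁, hq₁, hq₁a, h, hq₁c⟩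
  obtain ⟨q₂, hq₂, hq₂a, hq₂bc⟩ := hR.exists_sign ha (R.mul_mem hb hc) hbc1 hbc2 habc1 habc2
  rcases hR.comm q₂ hq₂ b hb with h' | h'
  · refine ⟨q₂, hq₂, hq₂a, h', ?_⟩
    simpa using Anti.comm_mul_right h'.inv_right hq₂bc
  · refine ⟨q₁ * q₂, R.mul_mem hq₁ hq₂, hq₁a.mul_left hq₂a, h.mul_anti_left h', hq₁c.mul_comm_left ?_⟩
    simpa using h'.inv_right.mul_anti_right hq₂bc

theorem le_normalizer [Finite F] {y : GL ι F} (hy : y ∈ R) : y ∈ subgroupNormalizer R := by
  rw [subgroupNormalizer, Subgroup.mem_normalizer_iff]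
  exact fun z => ⟨fun hz => R.mul_mem (R.mul_mem hy hz) (R.inv_mem hy), fun hz => by
    simpa [mul_assoc] using R.mul_mem (R.mul_mem (R.inv_mem hy) hz) hy⟩

theorem card_eq [Finite F] : Nat.card R = 2 * (Fintype.card ι * Fintype.card ι) := by
  classical
  haveI := hR.nonempty
  haveI : Finite (GL ι F) := Finite.of_injective (fun g => (g : Mι)) fun _ _ => Units.ext
  have hcs : ∀ x ∈ R, ∀ y ∈ R, x * y * x⁻¹ * y⁻¹ ∈ scalars ι F := by
    intro x hx y hy
    rcases hR.comm x hx y hy with e | e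
    · rw [e.eq, show y * x * x⁻¹ * y⁻¹ = 1 by group]; exact one_mem _
    · rw [e, neg_mul, neg_mul, show y * x * x⁻¹ * y⁻¹ = 1 by group, mem_scalars_iff]
      exact ⟨-1, by simp⟩
  haveI : Fintype (R ⧸ Subgroup.center R) := Fintype.ofFinite _
  let B : Module.Basis (R ⧸ Subgroup.center R) F Mι :=
    Module.Basis.mk (CfsgLib.Aschbacher.linearIndependent_reps hcs) (CfsgLib.Aschbacher.span_reps hR.alg)
  have hquot : Nat.card (R ⧸ Subgroup.center R) = Fintype.card ι * Fintype.card ι := by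
    rw [Nat.card_eq_fintype_card, ← Module.finrank_eq_card_basis B, Module.finrank_matrix,
      Module.finrank_self, mul_one]
  have hm1 : (⟨-1, hR.neg_one⟩ : R) ∈ Subgroup.center R := Subgroup.mem_center_iff.2 fun w =>
    Subtype.ext (show (w : GL ι F) * (-1) = -1 * w by rw [mul_neg, neg_mul, mul_one, one_mul])
  have hZ : Nat.card (Subgroup.center R) = 2 := by
    let f : Bool → Subgroup.center R := fun b => if b then ⟨⟨-1, hR.neg_one⟩, hm1⟩ else 1
    have hf : Function.Bijective f := by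
      constructor
      · intro a b e
        cases a <;> cases b <;> simp [f, Subtype.ext_iff] at e ⊢
        · exact hR.one_ne_neg_one e
        · exact hR.one_ne_neg_one e.symm
      · intro z
        rcases hR.eq_one_of_comm (z : R).2
            (fun w hw => congrArg Subtype.val (Subgroup.mem_center_iff.1 z.2 ⟨w, hw⟩)) with e | e
        · exact ⟨false, Subtype.ext (Subtype.ext e.symm)⟩
        · exact ⟨true, Subtype.ext (Subtype.ext e.symm)⟩
    rw [← Nat.card_eq_of_bijective f hf, Nat.card_eq_fintype_card, Fintype.card_bool]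
  rw [Subgroup.card_eq_card_quotient_mul_card_subgroup (Subgroup.center R), hquot, hZ, mul_comm]

/-- A non-scalar involution in a large subgroup. -/
theorem exists_sing_of_card [Finite F] {S : Subgroup (GL ι F)} (hS : S ≤ R) (h : 8 < Nat.card S) :
    ∃ x ∈ S, Sing R x := by
  classical
  haveI : Finite (GL ι F) := Finite.of_injective (fun g => (g : Mι)) fun _ _ => Units.ext
  obtain ⟨e, he, hne⟩ := exists_not_mem (S := S) ({1, -1} : Finset (GL ι F))
    ((Finset.card_le_two).trans_lt (by omega))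
  simp only [Finset.mem_insert, Finset.mem_singleton, not_or] at hne
  rcases hR.sq e (hS he) with hee | hee
  · exact ⟨e, he, hS he, hee, hne.1, hne.2⟩
  have hT : Nat.card S ≤ 2 * Nat.card (S ⊓ Subgroup.centralizer {e} : Subgroup (GL ι F)) := by
    refine card_le_two_mul inf_le_left fun a ha b hb ha' hb' => ⟨S.mul_mem ha hb, ?_⟩
    have hanti : ∀ c ∈ S, c ∉ S ⊓ Subgroup.centralizer {e} → Anti c e := fun c hc hc' =>
      (hR.comm c (hS hc) e (hS he)).resolve_left fun hce => hc' ⟨hc, Subgroup.mem_centralizer_iff.2 fun y hy => by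
        rw [Set.mem_singleton_iff.1 hy]; exact hce.eq.symm⟩
    exact Subgroup.mem_centralizer_iff.2 fun y hy => by
      rw [Set.mem_singleton_iff.1 hy]
      exact ((hanti a ha ha').mul_anti_left (hanti b hb hb')).eq.symm
  obtain ⟨f, hf, hfne⟩ := exists_not_mem (S := S ⊓ Subgroup.centralizer {e}) ({1, -1, e, -e} : Finset (GL ι F))
    (Finset.card_le_four.trans_lt (by omega))
  simp only [Finset.mem_insert, Finset.mem_singleton, not_or] at hfne
  obtain ⟨h1, h2, h3, h4⟩ := hfne
  rcases hR.sq f (hS hf.1) with hff | hff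
  · exact ⟨f, hf.1, hS hf.1, hff, h1, h2⟩
  have hce : Commute e f := Subgroup.mem_centralizer_iff.1 hf.2 e rfl
  have hfi : f⁻¹ = -f := inv_eq_of_mul_eq_one_left (by rw [neg_mul, hff, neg_neg])
  refine ⟨e * f, S.mul_mem he hf.1, hS (S.mul_mem he hf.1), ?_, fun h5 => ?_, fun h5 => ?_⟩
  · rw [mul_assoc, ← mul_assoc f e f, ← hce.eq, mul_assoc e f f, ← mul_assoc, hee, hff, neg_mul_neg, one_mul]
  · exact h4 (by rw [eq_inv_of_mul_eq_one_left h5, hfi, neg_neg])
  · exact h3 (by
      have h6 : -e * f = 1 := by rw [neg_mul, h5, neg_neg]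
      have := eq_inv_of_mul_eq_one_left h6
      rw [hfi] at this
      exact (neg_inj.1 this).symm)

/-- A non-scalar involution. -/
theorem exists_sing [Finite F] (hι : 4 ≤ Fintype.card ι) : ∃ x, Sing R x := by
  obtain ⟨x, -, hx⟩ := hR.exists_sing_of_card le_rfl (by
    rw [hR.card_eq]; have := Nat.mul_le_mul hι hι; omega)
  exact ⟨x, hx⟩

/-- An element of square `-1`. -/
theorem exists_sq_neg [Finite F] (hι : 2 ≤ Fintype.card ι) : ∃ y ∈ R, y * y = -1 := by
  classical
  haveI : Finite (GL ι F) := Finite.of_injective (fun g => (g : Mι)) fun _ _ => Units.ext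
  obtain ⟨e, he, hne⟩ := exists_not_mem (S := R) ({1, -1} : Finset (GL ι F))
    (Finset.card_le_two.trans_lt (by rw [hR.card_eq]; have := Nat.mul_le_mul hι hι; omega))
  simp only [Finset.mem_insert, Finset.mem_singleton, not_or] at hne
  obtain ⟨w, hw, hwe⟩ := hR.exists_anti he hne.1 hne.2
  rcases hR.sq e he with h1 | h1
  · rcases hR.sq w hw with h2 | h2
    · refine ⟨w * e, R.mul_mem hw he, ?_⟩
      rw [mul_assoc, ← mul_assoc e w e, hwe.symm, neg_mul, mul_assoc w e e, h1, mul_one, mul_neg, h2]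
    · exact ⟨w, hw, h2⟩
  · exact ⟨e, he, h1⟩

/-- An involution anticommuting with a given non-central involution. -/
theorem exists_pair {x : GL ι F} (hx : Sing R x) : ∃ y, Sing R y ∧ Anti x y := by
  obtain ⟨w, hw, hwx⟩ := hR.exists_anti hx.mem hx.ne_one hx.ne_neg
  rcases hR.sq w hw with h | h
  · exact ⟨w, ⟨hw, h, (hR.anti_ne hwx.symm).1, (hR.anti_ne hwx.symm).2⟩, hwx.symm⟩
  · have ha : Anti x (w * x) := hwx.symm.mul_comm_right (Commute.refl x)
    refine ⟨w * x, ⟨R.mul_mem hw hx.mem, ?_, (hR.anti_ne ha).1, (hR.anti_ne ha).2⟩, ha⟩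
    rw [mul_assoc, ← mul_assoc x w x, hwx.symm, neg_mul, mul_assoc w x x, hx.sq, mul_one, mul_neg, h, neg_neg]

/-- An element of trace zero normalising the group is inverted to its negative by an element. -/
theorem exists_anti_of_trace [Finite F] {m : ℕ} (hm : Fintype.card ι = 2 ^ m) {y : GL ι F}
    (hy : y ∈ subgroupNormalizer R) (ht : (y : Mι).trace = 0) : ∃ d ∈ R, Anti d y := by
  classical
  haveI := hR.nonempty
  haveI : Finite (GL ι F) := Finite.of_injective (fun g => (g : Mι)) fun _ _ => Units.ext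
  haveI : Fintype R := Fintype.ofFinite _
  by_contra hcon
  push Not at hcon
  obtain ⟨S, hS⟩ : ∃ S : Mι, S = ∑ r : R, (((r : GL ι F) * y * (r : GL ι F)⁻¹ : GL ι F) : Mι) := ⟨_, rfl⟩
  obtain ⟨c, hc⟩ := hR.irr (A := S) fun s hs => by
    rw [hS, Finset.sum_mul, Finset.mul_sum]
    refine (Fintype.sum_equiv (Equiv.mulLeft (⟨s, hs⟩ : R)) _ _ fun r => ?_).symm
    simp only [Equiv.coe_mulLeft, Subgroup.coe_mul, ← Units.val_mul]
    congr 1
    group
  have hc0 : c = 0 := by
    have := congrArg Matrix.trace hc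
    rw [hS, Matrix.trace_sum, Matrix.trace_smul] at this
    simp only [Units.val_mul, Matrix.trace_units_conj, ht, Finset.sum_const_zero, smul_eq_mul] at this
    exact (mul_eq_zero.1 this.symm).resolve_right hR.trace_one
  have hsum : ∑ r : R, (((r : GL ι F) * y * (r : GL ι F)⁻¹ * y⁻¹ : GL ι F) : Mι).trace = 0 := by
    rw [← Matrix.trace_sum]
    simp only [Units.val_mul _ y⁻¹]
    rw [← Finset.sum_mul, ← hS, hc, hc0, zero_smul, Matrix.zero_mul, Matrix.trace_zero]
  have hterm : ∀ r : R, (((r : GL ι F) * y * (r : GL ι F)⁻¹ * y⁻¹ : GL ι F) : Mι).trace =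
      if Commute (r : GL ι F) y then (Fintype.card ι : F) else 0 := by
    intro r
    by_cases h : Commute (r : GL ι F) y
    · rw [if_pos h, h.eq, mul_inv_cancel_right, mul_inv_cancel, Units.val_one, Matrix.trace_one]
    · rw [if_neg h]
      refine hR.trace_zero ?_ (fun e => h ?_) fun e => hcon _ r.2 ?_
      · rw [mul_assoc (r : GL ι F), mul_assoc (r : GL ι F)]
        refine R.mul_mem r.2 ?_
        exact (Subgroup.mem_normalizer_iff.1 hy _).1 (R.inv_mem r.2)
      · rw [mul_inv_eq_one, mul_inv_eq_iff_eq_mul] at e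
        exact e
      · unfold Anti
        rw [mul_inv_eq_iff_eq_mul, mul_inv_eq_iff_eq_mul, neg_one_mul, neg_mul] at e
        exact e
  simp only [hterm] at hsum
  rw [Finset.sum_ite, Finset.sum_const_zero, add_zero, Finset.sum_const, nsmul_eq_mul] at hsum
  let C : Subgroup R := (Subgroup.centralizer {y}).comap R.subtype
  have hC : (Finset.univ.filter fun r : R => Commute (r : GL ι F) y).card = Nat.card C := by
    rw [Nat.card_eq_fintype_card]
    symm
    refine Fintype.card_of_subtype _ fun r => ?_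
    rw [Finset.mem_filter, Subgroup.mem_comap, Subgroup.mem_centralizer_iff]
    exact ⟨fun h z hz => by rw [Set.mem_singleton_iff.1 hz]; exact h.2.eq.symm,
      fun h => ⟨Finset.mem_univ _, (h y rfl).symm⟩⟩
  obtain ⟨j, -, hj⟩ := (Nat.dvd_prime_pow Nat.prime_two (m := 2 * m + 1) (i := Nat.card C)).1 (by
    have := Subgroup.card_subgroup_dvd_card C
    rwa [hR.card_eq, hm, ← pow_add, ← two_mul, ← pow_succ'] at this)
  rw [hC, hj, Nat.cast_pow, Nat.cast_ofNat] at hsum
  rcases mul_eq_zero.1 hsum with h | h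
  · 
    exact hR.two (pow_eq_zero_iff'.1 h).1
  · exact hR.dim_ne h

end RFrame

end CfsgLib.MaxSub.SymReal
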