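import Cfsg.Agent.Lib.MaxSub.SymEight.Gate
import Cfsg.Agent.Lib.MaxSub.SymReal.Frame

/-!
Coordinates adapted to two anticommuting involutions of a real frame.
-/

set_option autoImplicit false
set_option linter.unusedSectionVars false
set_option linter.style.haveILetI false

namespace CfsgLib.MaxSub.SymReal

open scoped MatrixGroups
open Cfsg.Geo Matrix CfsgLib.MaxSub.DecompMax
open CfsgLib.MaxSub.SymEight (Ns bd od cA coe_coordGL cA_mulVec cA_ext bd_mul bd_mul_od od_mul_bd od_mul bd_one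
  bd_neg bd_smul od_smul bd_inj od_inj pairGL coe_pairGL dup coe_dup dup_injective half exists_coord eq_bd_of_comm
  eq_dup_of_comm exists_pairGL_of_comm mem_normalizer_of_conj conj_mem)

variable {ι κ : Type} [Fintype ι] [DecidableEq ι] [Fintype κ] [DecidableEq κ] {F : Type*} [Field F]

local notation "Mι" => Matrix ι ι F
local notation "Mκ" => Matrix κ κ F

theorem coordGL_neg (Φ : (ι → F) ≃ₗ[F] (κ → F)) (g : GL ι F) : coordGL Φ (-g) = -coordGL Φ g :=
  Units.ext (by rw [coe_coordGL, Units.val_neg, Units.val_neg, coe_coordGL, map_neg])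

theorem coordGL_anti (Φ : (ι → F) ≃ₗ[F] (κ → F)) {a b : GL ι F} (h : Anti a b) :
    Anti (coordGL Φ a) (coordGL Φ b) := by
  unfold Anti at h ⊢; rw [← map_mul, h, coordGL_neg, map_mul]

theorem coordGL_anti_iff (Φ : (ι → F) ≃ₗ[F] (κ → F)) {a b : GL ι F} :
    Anti (coordGL Φ a) (coordGL Φ b) ↔ Anti a b := by
  refine ⟨fun h => ?_, coordGL_anti Φ⟩
  unfold Anti at h ⊢
  exact (coordGL Φ).injective (by rw [map_mul, h, coordGL_neg, map_mul])

theorem dup_neg (a : GL κ F) : dup (-a) = -dup a :=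
  Units.ext (by rw [coe_dup, Units.val_neg, Units.val_neg, coe_dup, bd_neg])

theorem dup_anti {a b : GL κ F} (h : Anti a b) : Anti (dup a) (dup b) := by
  unfold Anti at h ⊢; rw [← map_mul, h, dup_neg, map_mul]

theorem RFrame.mat_comm {R : Subgroup (GL ι F)} (hR : RFrame R) {x y : GL ι F} (hx : x ∈ R) (hy : y ∈ R) :
    (x : Mι) * (y : Mι) = (y : Mι) * (x : Mι) ∨ (x : Mι) * (y : Mι) = -((y : Mι) * (x : Mι)) := by
  rcases hR.comm x hx y hy with h | h
  · exact Or.inl (congrArg Units.val h.eq)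
  · exact Or.inr ((congrArg Units.val h).trans (by rw [Units.val_neg, Units.val_mul]))

theorem card_of_equiv (Φ : (ι → F) ≃ₗ[F] (κ → F)) : Fintype.card κ = Fintype.card ι := by
  have := Φ.finrank_eq
  rw [Module.finrank_fintype_fun_eq_card, Module.finrank_fintype_fun_eq_card] at this
  exact this.symm

theorem RFrame.map {R : Subgroup (GL ι F)} (hR : RFrame R) (Φ : (ι → F) ≃ₗ[F] (κ → F)) :
    RFrame (R.map (coordGL Φ).toMonoidHom) := by
  refine ⟨hR.two, card_of_equiv Φ ▸ hR.dim_ne, ⟨-1, hR.neg_one, ?_⟩, ?_, ?_, ?_, ?_⟩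
  · rw [MulEquiv.coe_toMonoidHom, coordGL_neg, map_one]
  · rintro _ ⟨y, hy, rfl⟩ c hc
    rcases hR.scal y hy c ((cA Φ).injective (by
      rw [← coe_coordGL, map_smul, map_one]; exact hc)) with rfl | rfl
    · exact Or.inl (map_one _)
    · exact Or.inr (by rw [MulEquiv.coe_toMonoidHom, coordGL_neg, map_one])
  · rintro _ ⟨y, hy, rfl⟩
    rcases hR.sq y hy with h | h
    · left; rw [MulEquiv.coe_toMonoidHom, ← map_mul, h, map_one]
    · right; rw [MulEquiv.coe_toMonoidHom, ← map_mul, h, coordGL_neg, map_one]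
  · rintro _ ⟨x, hx, rfl⟩ _ ⟨y, hy, rfl⟩
    rcases hR.comm x hx y hy with h | h
    · exact Or.inl (h.map (coordGL Φ).toMonoidHom)
    · exact Or.inr (coordGL_anti Φ h)
  · have hs : matrixSet (R.map (coordGL Φ).toMonoidHom) = (cA Φ : Mι → Mκ) '' matrixSet R := by
      ext X
      constructor
      · rintro ⟨_, ⟨y, hy, rfl⟩, rfl⟩
        exact ⟨(y : Mι), ⟨y, hy, rfl⟩, (coe_coordGL Φ y).symm⟩
      · rintro ⟨_, ⟨y, hy, rfl⟩, rfl⟩
        exact ⟨coordGL Φ y, ⟨y, hy, rfl⟩, coe_coordGL Φ y⟩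
    rw [CfsgLib.Aschbacher.alg, hs]
    show Algebra.adjoin F (((cA Φ).toAlgHom : Mι →ₐ[F] Mκ) '' matrixSet R) = ⊤
    rw [← AlgHom.map_adjoin, show Algebra.adjoin F (matrixSet R) = ⊤ from hR.alg, Algebra.map_top,
      AlgHom.range_eq_top]
    exact (cA Φ).surjective

/-- A real frame in adapted coordinates. -/
structure BlockR (R : Subgroup (GL (κ ⊕ κ) F)) : Prop where
  frame : RFrame R
  memZ : ∃ z ∈ R, (z : Matrix (κ ⊕ κ) (κ ⊕ κ) F) = bd 1 (-1)
  memX : ∃ x ∈ R, (x : Matrix (κ ⊕ κ) (κ ⊕ κ) F) = od 1 1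

namespace BlockR

variable {R : Subgroup (GL (κ ⊕ κ) F)} (hR : BlockR R)
include hR

/-- Every element is a coordinate monomial times an element with equal blocks. -/
theorem decomp {y : GL (κ ⊕ κ) F} (hy : y ∈ R) : ∃ a ∈ half R,
    (y : Matrix (κ ⊕ κ) (κ ⊕ κ) F) = bd (a : Mκ) a ∨ (y : Matrix (κ ⊕ κ) (κ ⊕ κ) F) = bd (a : Mκ) (-a) ∨
      (y : Matrix (κ ⊕ κ) (κ ⊕ κ) F) = od (a : Mκ) a ∨ (y : Matrix (κ ⊕ κ) (κ ⊕ κ) F) = od (a : Mκ) (-a) := by
  obtain ⟨z, hz, hzm⟩ := hR.memZ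
  obtain ⟨x, hx, hxm⟩ := hR.memX
  have h2 := hR.frame.two
  have hzz : (z : Matrix (κ ⊕ κ) (κ ⊕ κ) F) * z = 1 := by
    rw [hzm, bd_mul, neg_mul_neg, Matrix.one_mul, bd_one]
  have hxx : (x : Matrix (κ ⊕ κ) (κ ⊕ κ) F) * x = 1 := by
    rw [hxm, od_mul, Matrix.one_mul, bd_one]
  have hzx : (z : Matrix (κ ⊕ κ) (κ ⊕ κ) F) * x = -((x : Matrix (κ ⊕ κ) (κ ⊕ κ) F) * z) := by
    rw [hzm, hxm, bd_mul_od, od_mul_bd]
    simp [od, Matrix.fromBlocks_neg]
  have key : ∀ w : GL (κ ⊕ κ) F, w ∈ R → (w : Matrix (κ ⊕ κ) (κ ⊕ κ) F) * z = z * w →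
      (w : Matrix (κ ⊕ κ) (κ ⊕ κ) F) * x = x * w →
      ∃ a ∈ half R, (w : Matrix (κ ⊕ κ) (κ ⊕ κ) F) = bd (a : Mκ) a := by
    intro w hw h1 h1'
    rw [hzm] at h1; rw [hxm] at h1'
    obtain ⟨A, hA⟩ := eq_dup_of_comm h2 h1 h1'
    have h3 : ((w⁻¹ : GL (κ ⊕ κ) F) : Matrix (κ ⊕ κ) (κ ⊕ κ) F) * bd 1 (-1) =
        bd 1 (-1) * ((w⁻¹ : GL (κ ⊕ κ) F) : Matrix (κ ⊕ κ) (κ ⊕ κ) F) := by
      have e : Commute (w : Matrix (κ ⊕ κ) (κ ⊕ κ) F) (bd 1 (-1)) := h1
      exact (e.units_inv_left).eq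
    have h4 : ((w⁻¹ : GL (κ ⊕ κ) F) : Matrix (κ ⊕ κ) (κ ⊕ κ) F) * od 1 1 =
        od 1 1 * ((w⁻¹ : GL (κ ⊕ κ) F) : Matrix (κ ⊕ κ) (κ ⊕ κ) F) := by
      have e : Commute (w : Matrix (κ ⊕ κ) (κ ⊕ κ) F) (od 1 1) := h1'
      exact (e.units_inv_left).eq
    obtain ⟨B, hB⟩ := eq_dup_of_comm h2 h3 h4
    have e1 : A * B = 1 := by
      have := w.mul_inv
      rw [hA, hB, bd_mul, ← bd_one] at this
      exact (bd_inj this).1
    have e2 : B * A = 1 := by
      have := w.inv_mul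
      rw [hA, hB, bd_mul, ← bd_one] at this
      exact (bd_inj this).1
    refine ⟨⟨A, B, e1, e2⟩, ?_, hA⟩
    show dup _ ∈ R
    rwa [show dup ⟨A, B, e1, e2⟩ = w from Units.ext (by rw [coe_dup, hA])]
  rcases hR.frame.mat_comm hy hz with h | h <;> rcases hR.frame.mat_comm hy hx with h' | h'
  · obtain ⟨a, ha, e⟩ := key y hy h h'
    exact ⟨a, ha, Or.inl e⟩
  · obtain ⟨a, ha, e⟩ := key (z * y) (R.mul_mem hz hy) (by rw [Units.val_mul, mul_assoc, h])
      (by rw [Units.val_mul, mul_assoc, h', mul_neg, ← mul_assoc, hzx, neg_mul, neg_neg, mul_assoc])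
    refine ⟨a, ha, Or.inr (Or.inl ?_)⟩
    calc (y : Matrix (κ ⊕ κ) (κ ⊕ κ) F) = z * ((z * y : GL (κ ⊕ κ) F) : Matrix (κ ⊕ κ) (κ ⊕ κ) F) := by
          rw [Units.val_mul, ← mul_assoc, hzz, Matrix.one_mul]
      _ = _ := by rw [e, hzm, bd_mul, Matrix.one_mul, neg_mul, Matrix.one_mul]
  · obtain ⟨a, ha, e⟩ := key (x * y) (R.mul_mem hx hy)
      (by rw [Units.val_mul, mul_assoc, h, mul_neg, ← mul_assoc, ← mul_assoc, hzx, neg_mul])
      (by rw [Units.val_mul, mul_assoc, h'])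
    refine ⟨a, ha, Or.inr (Or.inr (Or.inl ?_))⟩
    calc (y : Matrix (κ ⊕ κ) (κ ⊕ κ) F) = x * ((x * y : GL (κ ⊕ κ) F) : Matrix (κ ⊕ κ) (κ ⊕ κ) F) := by
          rw [Units.val_mul, ← mul_assoc, hxx, Matrix.one_mul]
      _ = _ := by rw [e, hxm, od_mul_bd, Matrix.one_mul]
  · obtain ⟨a, ha, e⟩ := key (z * x * y) (R.mul_mem (R.mul_mem hz hx) hy)
      (by
        simp only [Units.val_mul]
        calc (z : Matrix (κ ⊕ κ) (κ ⊕ κ) F) * x * y * z
            = -(z * x * z * y) := by rw [mul_assoc _ (y : Matrix (κ ⊕ κ) (κ ⊕ κ) F), h, mul_neg]; simp only [mul_assoc]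
          _ = z * (z * x * y) := by
              rw [hzx, neg_mul, neg_mul, neg_neg, mul_assoc (x : Matrix (κ ⊕ κ) (κ ⊕ κ) F) z z, hzz, mul_one,
                neg_mul, mul_neg, ← mul_assoc (z : Matrix (κ ⊕ κ) (κ ⊕ κ) F), ← mul_assoc (z : Matrix (κ ⊕ κ) (κ ⊕ κ) F) x,
                hzx, neg_mul, neg_mul, neg_neg, mul_assoc (x : Matrix (κ ⊕ κ) (κ ⊕ κ) F) z z, hzz, mul_one])
      (by
        simp only [Units.val_mul]
        calc (z : Matrix (κ ⊕ κ) (κ ⊕ κ) F) * x * y * x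
            = -(z * x * x * y) := by rw [mul_assoc _ (y : Matrix (κ ⊕ κ) (κ ⊕ κ) F), h', mul_neg]; simp only [mul_assoc]
          _ = x * (z * x * y) := by
              rw [mul_assoc (z : Matrix (κ ⊕ κ) (κ ⊕ κ) F) x x, hxx, mul_one,
                ← mul_assoc (x : Matrix (κ ⊕ κ) (κ ⊕ κ) F) _ (y : Matrix (κ ⊕ κ) (κ ⊕ κ) F), hzx, mul_neg,
                ← mul_assoc (x : Matrix (κ ⊕ κ) (κ ⊕ κ) F) x z, hxx, one_mul, neg_mul])
    refine ⟨-a, ?_, Or.inr (Or.inr (Or.inr ?_))⟩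
    · show dup (-a) ∈ R
      rw [show dup (-a) = -dup a from Units.ext (by rw [coe_dup, Units.val_neg, Units.val_neg, coe_dup, bd_neg])]
      exact hR.frame.neg_mem ha
    calc (y : Matrix (κ ⊕ κ) (κ ⊕ κ) F) = x * (z * ((z * x * y : GL (κ ⊕ κ) F) : Matrix (κ ⊕ κ) (κ ⊕ κ) F)) := by
          rw [Units.val_mul, Units.val_mul, ← mul_assoc (z : Matrix (κ ⊕ κ) (κ ⊕ κ) F), ← mul_assoc _ _ (x : Matrix (κ ⊕ κ) (κ ⊕ κ) F),
            hzz, Matrix.one_mul, ← mul_assoc, hxx, Matrix.one_mul]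
      _ = _ := by rw [e, hxm, hzm, bd_mul, od_mul_bd, Matrix.one_mul, Matrix.one_mul, neg_mul, Matrix.one_mul,
          Units.val_neg, neg_neg]

theorem dup_mem_normalizer [Finite F] {a : GL κ F} (ha : a ∈ subgroupNormalizer (half R)) :
    dup a ∈ subgroupNormalizer R := by
  refine mem_normalizer_of_conj fun y hy => ?_
  obtain ⟨z, hz, hzm⟩ := hR.memZ
  obtain ⟨x, hx, hxm⟩ := hR.memX
  obtain ⟨b, hb, e⟩ := hR.decomp hy
  have hb' : dup (a * b * a⁻¹) ∈ R := conj_mem ha hb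
  have hd : (dup a * y * (dup a)⁻¹ : GL (κ ⊕ κ) F) ∈ ({dup (a * b * a⁻¹), z * dup (a * b * a⁻¹),
      x * dup (a * b * a⁻¹), z * x * dup (a * b * a⁻¹)} : Set (GL (κ ⊕ κ) F)) := by
    simp only [Set.mem_insert_iff, Set.mem_singleton_iff, Units.ext_iff, Units.val_mul, ← map_inv,
      coe_dup, hzm, hxm]
    rcases e with e | e | e | e <;> rw [e]
    · exact Or.inl (by simp [bd_mul])
    · exact Or.inr (Or.inl (by simp [bd_mul]))
    · exact Or.inr (Or.inr (Or.inl (by simp [bd_mul, od_mul_bd, bd_mul_od])))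
    · exact Or.inr (Or.inr (Or.inr (by simp [bd_mul, od_mul_bd, bd_mul_od])))
  simp only [Set.mem_insert_iff, Set.mem_singleton_iff] at hd
  rcases hd with h | h | h | h <;> rw [h]
  · exact hb'
  · exact R.mul_mem hz hb'
  · exact R.mul_mem hx hb'
  · exact R.mul_mem (R.mul_mem hz hx) hb'

theorem half_frame : RFrame (half R) := by
  classical
  haveI := hR.frame.nonempty
  have hcard : (Fintype.card (κ ⊕ κ) : F) ≠ 0 := hR.frame.dim_ne
  refine ⟨hR.frame.two, fun h => hcard (by rw [Fintype.card_sum, Nat.cast_add, h, add_zero]), ?_, ?_, ?_, ?_, ?_⟩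
  · show dup (-1 : GL κ F) ∈ R
    rw [dup_neg, map_one]; exact hR.frame.neg_one
  · intro a ha c hc
    rcases hR.frame.scal _ ha c (by rw [coe_dup, hc, ← bd_smul, bd_one]) with h | h
    · exact Or.inl (dup_injective (h.trans (map_one _).symm))
    · exact Or.inr (dup_injective (by rw [h, dup_neg, map_one]))
  · intro a ha
    rcases hR.frame.sq _ ha with h | h
    · left; exact dup_injective (by rw [map_mul, h, map_one])
    · right; exact dup_injective (by rw [map_mul, h, dup_neg, map_one])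
  · intro a ha b hb
    rcases hR.frame.comm _ ha _ hb with h | h
    · exact Or.inl (dup_injective (by rw [map_mul, map_mul, h.eq]))
    · refine Or.inr (dup_injective ?_)
      rw [map_mul, h, dup_neg, map_mul]
  · rw [eq_top_iff]
    intro A _
    obtain ⟨L, hL⟩ : ∃ L : Submodule F (Matrix (κ ⊕ κ) (κ ⊕ κ) F),
        ∀ X, X ∈ L ↔ X.toBlocks₁₁ ∈ CfsgLib.Aschbacher.alg (half R) :=
      ⟨(CfsgLib.Aschbacher.alg (half R)).toSubmodule.comap
        ({ toFun := Matrix.toBlocks₁₁, map_add' := fun X Y => rfl, map_smul' := fun c X => rfl } :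
          Matrix (κ ⊕ κ) (κ ⊕ κ) F →ₗ[F] Mκ),
        fun X => Iff.rfl⟩
    have hgen : ∀ y ∈ R, (y : Matrix (κ ⊕ κ) (κ ⊕ κ) F) ∈ L := fun y hy => by
      obtain ⟨a, ha, e⟩ := hR.decomp hy
      have hmem : (a : Mκ) ∈ CfsgLib.Aschbacher.alg (half R) := Algebra.subset_adjoin ⟨a, ha, rfl⟩
      rw [hL]
      rcases e with e | e | e | e <;> rw [e] <;> simp [bd, od, hmem, Subalgebra.zero_mem]
    have hle := CfsgLib.Aschbacher.span_reps (R := R) hR.frame.alg (Submodule.mem_top (x := bd A A))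
    have : bd A A ∈ L := (Submodule.span_le.2 (fun X hX => by
      obtain ⟨Q, rfl⟩ := hX; exact hgen _ (Q.out).2)) hle
    rw [hL] at this
    simpa [bd] using this

end BlockR

namespace RFrame

variable {R : Subgroup (GL ι F)} (hR : RFrame R)
include hR

/-- Adapted coordinates for a pair of anticommuting involutions. -/
theorem exists_blockR {r x : GL ι F} (hr : r ∈ R) (hx : x ∈ R) (hrr : r * r = 1) (hxx : x * x = 1)
    (hrx : Anti r x) :
    ∃ (d : ℕ) (Φ : (ι → F) ≃ₗ[F] (Fin d ⊕ Fin d → F)), Fintype.card ι = 2 * d ∧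
      cA Φ (r : Mι) = bd 1 (-1) ∧ cA Φ (x : Mι) = od 1 1 ∧
      BlockR (R.map (coordGL Φ).toMonoidHom) := by
  obtain ⟨d, Φ, hd, h1, h2⟩ := exists_coord (r := (r : Mι)) (x := (x : Mι)) hR.two
    (by rw [← Units.val_mul, hrr, Units.val_one]) (by rw [← Units.val_mul, hxx, Units.val_one])
    ((congrArg Units.val hrx).trans (by rw [Units.val_neg, Units.val_mul]))
  exact ⟨d, Φ, hd, h1, h2, hR.map Φ, ⟨_, ⟨r, hr, rfl⟩, h1⟩, ⟨_, ⟨x, hx, rfl⟩, h2⟩⟩

/-- The elements commuting with two anticommuting involutions form a frame of half the degree. -/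
theorem exists_sub {r x : GL ι F} (hr : r ∈ R) (hx : x ∈ R) (hrr : r * r = 1) (hxx : x * x = 1)
    (hrx : Anti r x) :
    ∃ (d : ℕ) (R' : Subgroup (GL (Fin d) F)) (ψ : GL (Fin d) F →* GL ι F), Fintype.card ι = 2 * d ∧
      RFrame R' ∧ Function.Injective ψ ∧ (∀ a, ψ (-a) = -ψ a) ∧
      (∀ a ∈ R', ψ a ∈ R ∧ Commute (ψ a) r ∧ Commute (ψ a) x) ∧
      (∀ w ∈ R, Commute w r → Commute w x → ∃ a ∈ R', ψ a = w) := by
  obtain ⟨d, Φ, hd, h1, h2, hB⟩ := hR.exists_blockR hr hx hrr hxx hrx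
  refine ⟨d, _, (coordGL Φ).symm.toMonoidHom.comp dup, hd, hB.half_frame,
    (coordGL Φ).symm.injective.comp dup_injective, fun a => ?_, fun a ha => ?_, fun w hw hwr hwx => ?_⟩
  · apply (coordGL Φ).injective
    simp only [MonoidHom.coe_comp, Function.comp_apply, MulEquiv.coe_toMonoidHom, coordGL_neg,
      MulEquiv.apply_symm_apply, dup_neg]
  · obtain ⟨u, hu, hue⟩ : ∃ u ∈ R, coordGL Φ u = dup a := ha
    have he : ((coordGL Φ).symm.toMonoidHom.comp dup) a = u := by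
      rw [MonoidHom.comp_apply, ← hue]; exact (coordGL Φ).symm_apply_apply u
    rw [he]
    refine ⟨hu, ?_, ?_⟩ <;>
      refine (coordGL Φ).injective (Units.ext ?_) <;>
      simp only [map_mul, Units.val_mul, hue, coe_coordGL Φ r, coe_coordGL Φ x, h1, h2, coe_dup,
        bd_mul, bd_mul_od, od_mul_bd, Matrix.one_mul, Matrix.mul_one, Matrix.neg_mul, Matrix.mul_neg]
  · obtain ⟨a, ha, e⟩ := hB.decomp (Subgroup.mem_map_of_mem (coordGL Φ).toMonoidHom hw)
    have c1 := congrArg Units.val (hwr.map (coordGL Φ).toMonoidHom).eq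
    have c2 := congrArg Units.val (hwx.map (coordGL Φ).toMonoidHom).eq
    simp only [MulEquiv.coe_toMonoidHom, Units.val_mul, coe_coordGL Φ r, coe_coordGL Φ x, h1, h2] at c1 c2 e
    have hz : ∀ X : Matrix (Fin d) (Fin d) F, X = -X → X = 0 := fun X h => by
      have : (2 : F) • X = 0 := by rw [two_smul]; nth_rewrite 1 [h]; exact neg_add_cancel _
      exact (smul_eq_zero.1 this).resolve_left hR.two
    haveI := hB.half_frame.nonempty
    rcases e with e | e | e | e <;> rw [e] at c1 c2 <;>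
      simp only [bd_mul, bd_mul_od, od_mul_bd, Matrix.one_mul, Matrix.mul_one, Matrix.neg_mul,
        Matrix.mul_neg] at c1 c2
    · refine ⟨a, ha, (coordGL Φ).injective (Units.ext ?_)⟩
      show ((coordGL Φ ((coordGL Φ).symm (dup a)) : GL (Fin d ⊕ Fin d) F) : Matrix (Fin d ⊕ Fin d) (Fin d ⊕ Fin d) F) = _
      rw [MulEquiv.apply_symm_apply, coe_dup, e]
    · exact absurd (hz _ (od_inj c2).1) a.ne_zero
    · exact absurd (hz _ (od_inj c1).1.symm) a.ne_zero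
    · exact absurd (hz _ (od_inj c1).1.symm) a.ne_zero

end RFrame

end CfsgLib.MaxSub.SymReal
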