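import Cfsg.Agent.Lib.MaxSub.SymReal.Half

/-!
The axioms on an overgroup of the normaliser of a real frame, and the centraliser of a non-central involution
of the frame in such an overgroup.
-/

set_option autoImplicit false
set_option linter.unusedSectionVars false
set_option linter.unusedSimpArgs false
set_option linter.style.haveILetI false

namespace CfsgLib.MaxSub.SymReal

open scoped MatrixGroups
open Cfsg.Geo Matrix CfsgLib.MaxSub.DecompMax
open CfsgLib.MaxSub.SymEight (Ns bd od cA coe_coordGL cA_mulVec cA_ext bd_mul bd_mul_od od_mul_bd od_mul bd_one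
  bd_neg bd_smul od_smul bd_inj od_inj pairGL coe_pairGL dup coe_dup dup_injective half eq_bd_of_comm
  exists_pairGL_of_comm mem_normalizer_of_conj conj_mem)

variable {ι κ : Type} [Fintype ι] [DecidableEq ι] [Fintype κ] [DecidableEq κ] {F : Type*} [Field F]

local notation "Mι" => Matrix ι ι F
local notation "Mκ" => Matrix κ κ F

/-- An overgroup containing the elementary elements, closed under doubling, whose scalars are controlled and
whose involution centralisers act purely on the first eigenspace. -/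
structure Over (R M : Subgroup (GL ι F)) : Prop where
  frame : RFrame R
  deg : ∃ k, 4 ≤ k ∧ Fintype.card ι = 2 ^ k
  R_le : R ≤ M
  ctrl_mem : ∀ {x q : GL ι F}, Sing R x → q ∈ R → Commute x q → ctrl x q ∈ M
  dup_mem : ∀ {x X g h : GL ι F}, Sing R x → Sing R X → Anti x X → g ∈ M → Commute g x →
    h ∈ subgroupNormalizer R →
    (h : Mι) = (2 : F)⁻¹ • ((g : Mι) * (1 + (x : Mι)) + (X : Mι) * (g : Mι) * (X : Mι) * (1 - (x : Mι))) → h ∈ M
  scal : ∀ {x q h : GL ι F}, Sing R x → q ∈ R → Commute x q → h ∈ M →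
    ∀ l : F, (h : Mι) = ctrlM (x : Mι) (l • (q : Mι)) → l = 1 ∨ l = -1
  pure : ∀ {x g q : GL ι F}, Sing R x → g ∈ M → Commute g x → q ∈ R → Commute q x →
    ∃ p ∈ R, ((g * q * g⁻¹ : GL ι F) : Mι) * (1 + (x : Mι)) = (p : Mι) * (1 + (x : Mι))

theorem sing_map {R : Subgroup (GL ι F)} (Φ : (ι → F) ≃ₗ[F] (κ → F)) {x : GL ι F} :
    Sing (R.map (coordGL Φ).toMonoidHom) (coordGL Φ x) ↔ Sing R x := by
  constructor
  · intro h
    obtain ⟨y, hy, hyx⟩ := h.mem
    exact ⟨(coordGL Φ).injective hyx ▸ hy, (coordGL Φ).injective (by rw [map_mul, map_one]; exact h.sq),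
      fun e => h.ne_one (by rw [e, map_one]), fun e => h.ne_neg (by rw [e, coordGL_neg, map_one])⟩
  · intro h
    exact ⟨Subgroup.mem_map_of_mem _ h.mem, by rw [← map_mul, h.sq, map_one],
      fun e => h.ne_one ((coordGL Φ).injective (by rw [e, map_one])),
      fun e => h.ne_neg ((coordGL Φ).injective (by rw [e, coordGL_neg, map_one]))⟩

theorem commute_coordGL (Φ : (ι → F) ≃ₗ[F] (κ → F)) {a b : GL ι F} :
    Commute (coordGL Φ a) (coordGL Φ b) ↔ Commute a b :=
  ⟨fun h => (coordGL Φ).injective (by rw [map_mul, map_mul]; exact h.eq), fun h => h.map (coordGL Φ).toMonoidHom⟩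

theorem mem_normalizer_map [Finite F] {R : Subgroup (GL ι F)} (Φ : (ι → F) ≃ₗ[F] (κ → F)) {g : GL ι F} :
    coordGL Φ g ∈ subgroupNormalizer (R.map (coordGL Φ).toMonoidHom) ↔ g ∈ subgroupNormalizer R := by
  constructor
  · intro h
    refine mem_normalizer_of_conj fun y hy => ?_
    obtain ⟨u, hu, e⟩ := conj_mem h (Subgroup.mem_map_of_mem (coordGL Φ).toMonoidHom hy)
    have e' : u = g * y * g⁻¹ := (coordGL Φ).injective (by
      rw [map_mul, map_mul, map_inv]; exact e)
    exact e' ▸ hu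
  · intro h
    refine mem_normalizer_of_conj ?_
    rintro _ ⟨y, hy, rfl⟩
    exact ⟨_, conj_mem h hy, by simp only [MulEquiv.coe_toMonoidHom, map_mul, map_inv]⟩

theorem Over.map [Finite F] {R M : Subgroup (GL ι F)} (h : Over R M) (Φ : (ι → F) ≃ₗ[F] (κ → F)) :
    Over (R.map (coordGL Φ).toMonoidHom) (M.map (coordGL Φ).toMonoidHom) := by
  refine ⟨h.frame.map Φ, ?_, Subgroup.map_mono h.R_le, ?_, ?_, ?_, ?_⟩
  · obtain ⟨k, hk, hc⟩ := h.deg
    exact ⟨k, hk, (card_of_equiv Φ).trans hc⟩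
  · intro x q hx hq hc
    obtain ⟨x, rfl⟩ := (coordGL Φ).surjective x
    obtain ⟨q', hq', rfl⟩ := hq
    refine ⟨ctrl x q', h.ctrl_mem ((sing_map Φ).1 hx) hq' ((commute_coordGL Φ).1 hc), ?_⟩
    exact coordGL_ctrl h.frame.two ((sing_map Φ).1 hx).sq ((commute_coordGL Φ).1 hc) Φ
  · intro x X g n hx hX hxX hg hgx hn he
    obtain ⟨x, rfl⟩ := (coordGL Φ).surjective x
    obtain ⟨X, rfl⟩ := (coordGL Φ).surjective X
    obtain ⟨n, rfl⟩ := (coordGL Φ).surjective n
    obtain ⟨g', hg', rfl⟩ := hg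
    refine ⟨n, h.dup_mem ((sing_map Φ).1 hx) ((sing_map Φ).1 hX) ((coordGL_anti_iff Φ).1 hxX) hg'
      ((commute_coordGL Φ).1 hgx) ((mem_normalizer_map Φ).1 hn) ((cA Φ).injective ?_), rfl⟩
    simp only [map_smul, map_add, map_mul, map_sub, map_one, ← coe_coordGL]
    exact he
  · intro x q n hx hq hc hn l he
    obtain ⟨x, rfl⟩ := (coordGL Φ).surjective x
    obtain ⟨q', hq', rfl⟩ := hq
    obtain ⟨n', hn', rfl⟩ := hn
    refine h.scal ((sing_map Φ).1 hx) hq' ((commute_coordGL Φ).1 hc) hn' l ((cA Φ).injective ?_)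
    simp only [ctrlM, map_smul, map_add, map_mul, map_sub, map_one, ← coe_coordGL]
    exact he
  · intro x g q hx hg hgx hq hqx
    obtain ⟨x, rfl⟩ := (coordGL Φ).surjective x
    obtain ⟨g', hg', rfl⟩ := hg
    obtain ⟨q', hq', rfl⟩ := hq
    obtain ⟨p, hp, e⟩ := h.pure ((sing_map Φ).1 hx) hg' ((commute_coordGL Φ).1 hgx) hq' ((commute_coordGL Φ).1 hqx)
    refine ⟨coordGL Φ p, Subgroup.mem_map_of_mem _ hp, ?_⟩
    have e' := congrArg (cA Φ) e
    simp only [map_mul, map_add, map_one, ← coe_coordGL, map_inv, Units.val_mul] at e'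
    simp only [MulEquiv.coe_toMonoidHom, Units.val_mul, map_inv] at e' ⊢
    exact e'

theorem RFrame.eq_of_mul_proj {R : Subgroup (GL ι F)} (hR : RFrame R) {e r : GL ι F} (he : e ∈ R)
    (hr : Sing R r) (h : (e : Mι) * (1 + (r : Mι)) = 1 + (r : Mι)) : e = 1 ∨ e = r := by
  have ht := congrArg Matrix.trace h
  rw [mul_add, mul_one, Matrix.trace_add, Matrix.trace_add, hR.trace_zero hr.mem hr.ne_one hr.ne_neg, add_zero] at ht
  have hne : (1 : Mι) + (r : Mι) ≠ -(1 + (r : Mι)) := fun h' => by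
    have h2 : (2 : F) • ((1 : Mι) + (r : Mι)) = 0 := by rw [two_smul]; nth_rewrite 1 [h']; exact neg_add_cancel _
    exact hr.ne_neg (Units.ext (by
      rw [eq_neg_of_add_eq_zero_right ((smul_eq_zero.1 h2).resolve_left hR.two), Units.val_neg, Units.val_one]))
  by_cases he0 : (e : Mι).trace = 0
  · rw [he0, zero_add, ← Units.val_mul] at ht
    rcases hR.eq_one_of_trace (R.mul_mem he hr.mem) (by rw [ht]; exact hR.trace_one) with e1 | e1
    · exact Or.inr (by rw [eq_inv_of_mul_eq_one_left e1, inv_eq_of_mul_eq_one_left hr.sq])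
    · exfalso
      have e2 : e = -r := by
        rw [← mul_one e, ← hr.sq, ← mul_assoc, e1, neg_mul, one_mul]
      refine hne ?_
      calc 1 + (r : Mι) = (e : Mι) * (1 + (r : Mι)) := h.symm
        _ = -(1 + (r : Mι)) := by
            rw [e2, Units.val_neg, neg_mul, mul_add, mul_one, ← Units.val_mul, hr.sq, Units.val_one, add_comm]
  · rcases hR.eq_one_of_trace he he0 with e1 | e1
    · exact Or.inl e1
    · exfalso
      refine hne ?_
      calc 1 + (r : Mι) = (e : Mι) * (1 + (r : Mι)) := h.symm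
        _ = -(1 + (r : Mι)) := by rw [e1, Units.val_neg, Units.val_one, neg_mul, one_mul]

section block

variable [Finite F] {R M : Subgroup (GL (κ ⊕ κ) F)}

local notation "Mκκ" => Matrix (κ ⊕ κ) (κ ⊕ κ) F

theorem BlockR.first_block (hB : BlockR R) (h : Over R M) {a b : GL κ F} (hg : pairGL (a, b) ∈ M) :
    a ∈ subgroupNormalizer (half R) := by
  haveI := hB.half_frame.nonempty
  obtain ⟨z, hz, hzm⟩ := hB.memZ
  have hzz : z * z = 1 := (pairGL_one_eq hB.frame.two hzm 1).1
  have hzS : Sing R z := ⟨hz, hzz, fun e => by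
      have := hzm; rw [e, Units.val_one, ← bd_one] at this
      have := (bd_inj this).2
      exact hB.half_frame.one_ne_neg_one (Units.ext (by rw [Units.val_one, Units.val_neg, Units.val_one]; exact this)),
    fun e => by
      have := hzm; rw [e, Units.val_neg, Units.val_one, ← bd_one, bd_neg] at this
      have := (bd_inj this).1
      exact hB.half_frame.one_ne_neg_one (Units.ext (by rw [Units.val_one, Units.val_neg, Units.val_one]; exact this.symm))⟩
  refine mem_normalizer_of_conj fun q hq => ?_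
  have hgz : Commute (pairGL (a, b)) z := Units.ext (by
    rw [Units.val_mul, Units.val_mul, hzm, coe_pairGL, bd_mul, bd_mul]; simp)
  obtain ⟨p, hp, e⟩ := h.pure hzS hg hgz (q := dup q) hq (pairGL_one_eq hB.frame.two hzm q).2.1.symm
  obtain ⟨w, hw, ew⟩ := hB.decomp hp
  have h1z : (1 : Mκκ) + (z : Mκκ) = bd ((2 : F) • 1) 0 := by
    simp [hzm, bd, ← Matrix.fromBlocks_one, Matrix.fromBlocks_add, two_smul]
  rw [h1z, ← map_inv, Units.val_mul, Units.val_mul, coe_dup, Prod.inv_mk, coe_pairGL, coe_pairGL, bd_mul, bd_mul, bd_mul,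
    Matrix.mul_zero] at e
  have hA : (a : Mκ) * (q : Mκ) * ((a⁻¹ : GL κ F) : Mκ) * ((2 : F) • 1) ≠ 0 := by
    rw [Matrix.mul_smul, Matrix.mul_one, ← Units.val_mul, ← Units.val_mul]
    exact fun h0 => (a * q * a⁻¹).ne_zero ((smul_eq_zero.1 h0).resolve_left hB.frame.two)
  rcases ew with ew | ew | ew | ew <;> rw [ew] at e <;> simp only [bd_mul, od_mul_bd] at e
  iterate 2
    have h1 := (bd_inj e).1
    rw [Matrix.mul_smul, Matrix.mul_one, Matrix.mul_smul, Matrix.mul_one] at h1
    have h2 : a * q * a⁻¹ = w := Units.ext (by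
      rw [Units.val_mul, Units.val_mul]; exact smul_right_injective Mκ hB.frame.two h1)
    rwa [h2]
  all_goals
    rw [bd, od] at e
    exact absurd ((Matrix.fromBlocks_inj).1 e).1 hA

/-- The centraliser of the first coordinate involution normalises. -/
theorem BlockR.centre (hB : BlockR R) (h : Over R M) {g : GL (κ ⊕ κ) F} (hg : g ∈ M)
    (hc : (g : Mκκ) * bd 1 (-1) = bd 1 (-1) * (g : Mκκ)) : g ∈ subgroupNormalizer R := by
  have h2 := hB.frame.two
  have hF := hB.half_frame
  haveI := hF.nonempty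
  obtain ⟨k, hk4, hk⟩ := h.deg
  have hk' : Fintype.card κ = 2 ^ (k - 1) := by
    have e : Fintype.card κ + Fintype.card κ = 2 ^ k := by rw [← Fintype.card_sum]; exact hk
    have e2 : 2 ^ k = 2 ^ (k - 1) + 2 ^ (k - 1) := by
      rw [← two_mul, ← pow_succ']; congr 1; omega
    omega
  obtain ⟨a, b, rfl⟩ := exists_pairGL_of_comm h2 hc
  obtain ⟨z, hz, hzm⟩ := hB.memZ
  obtain ⟨x, hx, hxm⟩ := hB.memX
  have hzz : z * z = 1 := (pairGL_one_eq h2 hzm 1).1
  have hxx : x * x = 1 := Units.ext (by rw [Units.val_mul, hxm, od_mul, Matrix.mul_one, bd_one, Units.val_one])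
  have hzx : Anti z x := by
    refine Units.ext ?_
    rw [Units.val_mul, Units.val_neg, Units.val_mul, hzm, hxm, bd_mul_od, od_mul_bd]
    simp [od, Matrix.fromBlocks_neg]
  have hzS : Sing R z := ⟨hz, hzz, (hB.frame.anti_ne hzx.symm).1, (hB.frame.anti_ne hzx.symm).2⟩
  have hxS : Sing R x := ⟨hx, hxx, (hB.frame.anti_ne hzx).1, (hB.frame.anti_ne hzx).2⟩
  have hswap : pairGL (b, a) ∈ M := by
    have e : x * pairGL (a, b) * x = pairGL (b, a) := Units.ext (by
      rw [Units.val_mul, Units.val_mul, hxm, coe_pairGL, coe_pairGL, od_mul_bd, od_mul]; simp)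
    exact e ▸ M.mul_mem (M.mul_mem (h.R_le hx) hg) (h.R_le hx)
  have ha := hB.first_block h hg
  have hb := hB.first_block h hswap
  have hda : dup a ∈ subgroupNormalizer R := hB.dup_mem_normalizer ha
  have hgz : Commute (pairGL (a, b)) z := Units.ext (by
    rw [Units.val_mul, Units.val_mul, hzm, coe_pairGL, bd_mul, bd_mul]; simp)
  have hdaM : dup a ∈ M := h.dup_mem hzS hxS hzx hg hgz hda (by
    have ht : ∀ B : Mκ, (2 : F)⁻¹ • (B + B) = B := fun B => by
      rw [← two_smul F B, smul_smul, inv_mul_cancel₀ h2, one_smul]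
    simp only [coe_dup, coe_pairGL, hzm, hxm, od_mul_bd, od_mul, bd, od, ← Matrix.fromBlocks_one,
      Matrix.fromBlocks_add, sub_eq_add_neg, Matrix.fromBlocks_neg, Matrix.fromBlocks_multiply,
      Matrix.fromBlocks_smul, Matrix.mul_zero, Matrix.zero_mul, add_zero, zero_add, neg_zero, smul_zero,
      neg_neg, add_neg_cancel, Matrix.one_mul, Matrix.mul_one, Matrix.mul_add, ht])
  obtain ⟨c, hcdef⟩ : ∃ c, c = a⁻¹ * b := ⟨_, rfl⟩
  have hgc : pairGL (a, b) = dup a * pairGL (1, c) := by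
    show pairGL (a, b) = pairGL (a, a) * pairGL (1, c)
    rw [← map_mul, hcdef, Prod.mk_mul_mk, mul_one, mul_inv_cancel_left]
  have hcM : pairGL (1, c) ∈ M := (M.mul_mem_cancel_left hdaM).1 (hgc ▸ hg)
  rw [hgc]
  refine mul_mem hda ?_
  obtain ⟨K, hKdef⟩ : ∃ K : Subgroup (GL κ F), K = subgroupNormalizer (half R) ⊓
      M.comap ((pairGL (κ := κ) (F := F)).comp (MonoidHom.inr _ _)) := ⟨_, rfl⟩
  have hKm : ∀ {u}, u ∈ K ↔ u ∈ subgroupNormalizer (half R) ∧ pairGL (1, u) ∈ M := by
    intro u; rw [hKdef]; exact Iff.rfl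
  have hdupS : ∀ {v}, Sing (half R) v → Sing R (dup v) := fun {v} hv =>
    ⟨hv.mem, by rw [← map_mul, hv.sq, map_one], fun e => hv.ne_one (dup_injective (by rw [e, map_one])),
      fun e => hv.ne_neg (dup_injective (by rw [e, dup_neg, map_one]))⟩
  have hone : ∀ y ∈ half R, pairGL (1, y) ∈ M ∧ pairGL (1, y) ∈ subgroupNormalizer R := fun y hy => by
    obtain ⟨-, hzc, e⟩ := pairGL_one_eq h2 hzm y
    exact e ▸ ⟨h.ctrl_mem hzS hy hzc, hB.frame.ctrl_mem_normalizer hz hy hzz hzc⟩
  have hRK : half R ≤ K := fun y hy => hKm.2 ⟨hF.le_normalizer hy, (hone y hy).1⟩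
  have hcK : c ∈ K := hKm.2 ⟨hcdef ▸ mul_mem (inv_mem ha) hb, hcM⟩
  have htriv : Triv (half R) c := by
    refine hF.triv (fun u hu => (hKm.1 hu).1) hRK ?_ ?_ hk' (by omega) hcK
    · intro v q hv hq hvq u hu
      obtain ⟨hu1, hu2⟩ := hKm.1 hu
      have hn := hF.ctrl_mem_normalizer hv.mem hq hv.sq hvq
      have hdn : dup (ctrl v q) ∈ M := by
        rw [dup_ctrl h2 hv.sq hvq]; exact h.ctrl_mem (hdupS hv) hq (hvq.map dup)
      refine hKm.2 ⟨mul_mem (mul_mem hn hu1) (inv_mem hn), ?_⟩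
      have e : dup (ctrl v q) * pairGL (1, u) * (dup (ctrl v q))⁻¹ = pairGL (1, ctrl v q * u * (ctrl v q)⁻¹) := by
        show pairGL (ctrl v q, ctrl v q) * pairGL (1, u) * (pairGL (ctrl v q, ctrl v q))⁻¹ = _
        rw [← map_inv, ← map_mul, ← map_mul, Prod.inv_mk, Prod.mk_mul_mk, Prod.mk_mul_mk, mul_one, mul_inv_cancel]
      exact e ▸ M.mul_mem (M.mul_mem hdn hu2) (M.inv_mem hdn)
    · intro u hu r hr hur q hq hqr
      obtain ⟨hu1, hu2⟩ := hKm.1 hu
      have hcomm : Commute (pairGL (1, u)) (dup r) := by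
        show _ * _ = _ * _
        show pairGL (1, u) * pairGL (r, r) = pairGL (r, r) * pairGL (1, u)
        rw [← map_mul, ← map_mul, Prod.mk_mul_mk, Prod.mk_mul_mk, one_mul, mul_one, hur.eq]
      have hxr : Commute x (dup r) := Units.ext (by
        rw [Units.val_mul, Units.val_mul, hxm, coe_dup, od_mul_bd, bd_mul_od]; simp)
      obtain ⟨p, hp, e⟩ := h.pure (hdupS hr) hu2 hcomm hx hxr
      obtain ⟨w, hw, ew⟩ := hB.decomp hp
      obtain ⟨P, hP⟩ : ∃ P, P = (1 : Mκ) + (r : Mκ) := ⟨_, rfl⟩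
      have hPne : P ≠ 0 := fun h0 => hr.ne_neg (Units.ext (by
        rw [hP] at h0; rw [eq_neg_of_add_eq_zero_right h0, Units.val_neg, Units.val_one]))
      have h1r : (1 : Mκκ) + (dup r : Mκκ) = bd P P := by
        simp [hP, coe_dup, bd, ← Matrix.fromBlocks_one, Matrix.fromBlocks_add]
      rw [h1r, ← map_inv, Units.val_mul, Units.val_mul, hxm, Prod.inv_mk, inv_one, coe_pairGL, coe_pairGL,
        Units.val_one, bd_mul_od, od_mul_bd, od_mul_bd, Matrix.one_mul, Matrix.mul_one, Matrix.one_mul,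
        Matrix.mul_one] at e
      have hu0 : (u : Mκ) * P ≠ 0 := fun h0 => hPne (by
        rw [← Matrix.one_mul P, ← Units.inv_mul u, mul_assoc, h0, mul_zero])
      obtain ⟨s, hs, h1, hs'⟩ : ∃ s : GL κ F, Sgn s w ∧ ((u⁻¹ : GL κ F) : Mκ) * P = (w : Mκ) * P ∧
          (u : Mκ) * P = (s : Mκ) * P := by
        rcases ew with ew | ew | ew | ew <;> rw [ew] at e <;> simp only [bd_mul, od_mul_bd] at e
        · rw [bd, od] at e; exact absurd ((Matrix.fromBlocks_inj).1 e).2.2.1 hu0
        · rw [bd, od] at e; exact absurd ((Matrix.fromBlocks_inj).1 e).2.2.1 hu0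
        · exact ⟨w, Or.inl rfl, (od_inj e).1, (od_inj e).2⟩
        · exact ⟨-w, Or.inr rfl, (od_inj e).1, by rw [Units.val_neg]; exact (od_inj e).2⟩
      have hP2 : P * P = (2 : F) • P := by
        rw [hP, mul_add, add_mul, add_mul, ← Units.val_mul r r, hr.sq, Units.val_one, one_mul, mul_one, two_smul]
        simp only [Matrix.one_mul]; abel
      have hPc : ∀ {t : GL κ F}, Commute t r → (t : Mκ) * P = P * (t : Mκ) := fun {t} ht => by
        rw [hP, mul_add, add_mul, mul_one, one_mul, ← Units.val_mul t r, ht.eq, Units.val_mul]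
      have hwr : Commute w r := by
        refine (hF.comm w hw r hr.mem).resolve_right fun ha' => ?_
        have hu3 : P * ((u⁻¹ : GL κ F) : Mκ) * P = (2 : F) • (((u⁻¹ : GL κ F) : Mκ) * P) := by
          rw [← hPc hur.inv_left, mul_assoc, hP2, Matrix.mul_smul]
        have hu4 : P * (w : Mκ) * P = 0 := by
          have e' : (w : Mκ) * P = (1 - (r : Mκ)) * (w : Mκ) := by
            rw [hP, mul_add, sub_mul, mul_one, one_mul, ← Units.val_mul w r, ha', Units.val_neg, Units.val_mul,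
              sub_eq_add_neg]
          have hz' : P * (1 - (r : Mκ)) = 0 := by
            rw [hP, mul_sub, add_mul, add_mul, ← Units.val_mul r r, hr.sq, Units.val_one]
            simp only [Matrix.one_mul, Matrix.mul_one]; abel
          rw [mul_assoc, e', ← mul_assoc, hz', zero_mul]
        rw [mul_assoc, h1, ← mul_assoc, hu4] at hu3
        have h3 : (w : Mκ) * P = 0 := (smul_eq_zero.1 hu3.symm).resolve_left h2
        exact hPne (by rw [← Matrix.one_mul P, ← Units.inv_mul w, mul_assoc, h3, mul_zero])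
      have hs2 : s ∈ half R := hF.mem_of_sgn hw hs
      have hkey : ((u * q * u⁻¹ : GL κ F) : Mκ) * P = ((s * (q * w) : GL κ F) : Mκ) * P := by
        rw [Units.val_mul, Units.val_mul, Units.val_mul, Units.val_mul, mul_assoc ((u : Mκ) * (q : Mκ)), h1,
          mul_assoc (u : Mκ), ← mul_assoc (q : Mκ), ← Units.val_mul q w, hPc (hqr.mul_left hwr),
          ← mul_assoc (u : Mκ), hs', mul_assoc (s : Mκ), ← hPc (hqr.mul_left hwr), ← mul_assoc]
      have huq : u * q * u⁻¹ ∈ half R := conj_mem hu1 hq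
      have hsq' : s * (q * w) ∈ half R := (half R).mul_mem hs2 ((half R).mul_mem hq hw)
      rcases hF.eq_of_mul_proj ((half R).mul_mem ((half R).inv_mem hsq') huq) hr (by
        rw [← hP, Units.val_mul, mul_assoc, hkey, ← mul_assoc, Units.inv_mul, Matrix.one_mul]) with e1 | e1
      all_goals rw [inv_mul_eq_iff_eq_mul] at e1
      · left
        rw [e1, mul_one]
        refine (hs.mul (Sgn.refl (q * w))).trans ?_
        rw [← mul_assoc]
        have hww : Sgn (w * q * w) (w * q * w⁻¹) := (Sgn.refl (w * q)).mul (hF.inv_sgn hw).symm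
        exact hww.trans (hF.conj_sgn hw hq)
      · right
        rw [e1]
        refine Sgn.mul ((hs.mul (Sgn.refl (q * w))).trans ?_) (Sgn.refl r)
        rw [← mul_assoc]
        have hww : Sgn (w * q * w) (w * q * w⁻¹) := (Sgn.refl (w * q)).mul (hF.inv_sgn hw).symm
        exact hww.trans (hF.conj_sgn hw hq)
  obtain ⟨p, hp, l, hl, hcp⟩ := hF.eq_smul_of_sign (A := c) fun y hy => by
    rcases htriv y hy with e | e
    · exact Or.inl (commute_of_conj_eq e)
    · exact Or.inr (anti_of_conj_eq e)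
  obtain ⟨-, hzc, -⟩ := pairGL_one_eq h2 hzm p
  have hl1 := h.scal hzS (show dup p ∈ R from hp) hzc hcM l (by
    have ht : ∀ B : Mκ, (2 : F)⁻¹ • (B + B) = B := fun B => by
      rw [← two_smul F B, smul_smul, inv_mul_cancel₀ h2, one_smul]
    simp only [ctrlM, coe_pairGL, coe_dup, hzm, hcp, bd, ← Matrix.fromBlocks_one,
      Matrix.fromBlocks_add, sub_eq_add_neg, Matrix.fromBlocks_neg, Matrix.fromBlocks_multiply,
      Matrix.fromBlocks_smul, Matrix.mul_zero, Matrix.zero_mul, add_zero, zero_add, neg_zero, smul_zero,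
      neg_neg, add_neg_cancel, Units.val_one, Matrix.one_mul, Matrix.add_mul, ht])
  refine (hone c (hF.mem_of_sgn hp ?_)).2
  rcases hl1 with rfl | rfl
  · exact Or.inl (Units.ext (by rw [hcp, one_smul]))
  · exact Or.inr (Units.ext (by rw [hcp, neg_one_smul, Units.val_neg]))

end block

/-- The centraliser of a non-central involution normalises. -/
theorem Over.centre [Finite F] {R M : Subgroup (GL ι F)} (h : Over R M) {x g : GL ι F} (hx : Sing R x)
    (hg : g ∈ M) (hgx : Sgn (g * x * g⁻¹) x) : g ∈ subgroupNormalizer R := by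
  obtain ⟨X, hX, hxX⟩ := h.frame.exists_pair hx
  suffices H : ∀ g ∈ M, Commute g x → g ∈ subgroupNormalizer R by
    rcases hgx with e | e
    · exact H g hg (commute_of_conj_eq e)
    · have := H (g * X) (M.mul_mem hg (h.R_le hX.mem)) ((anti_of_conj_eq e).mul_anti_left hxX.symm)
      exact (Subgroup.mul_mem_cancel_right _ (h.frame.le_normalizer hX.mem)).1 this
  intro g hg hc
  obtain ⟨d, Φ, -, h1, -, hB⟩ := h.frame.exists_blockR hx.mem hX.mem hx.sq hX.sq hxX
  refine (mem_normalizer_map Φ).1 (hB.centre (h.map Φ) (Subgroup.mem_map_of_mem _ hg) ?_)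
  show (coordGL Φ g : Matrix (Fin d ⊕ Fin d) (Fin d ⊕ Fin d) F) * _ = _ * (coordGL Φ g : Matrix (Fin d ⊕ Fin d) (Fin d ⊕ Fin d) F)
  rw [coe_coordGL, ← h1, ← map_mul, ← map_mul, ← Units.val_mul, hc.eq, Units.val_mul]

end CfsgLib.MaxSub.SymReal
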