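import Cfsg.Agent.Lib.MaxSub.SymReal.Ctrl

/-!
The action of an element of the normaliser on the classes of a real frame: kernel and image counts.
-/

set_option autoImplicit false
set_option linter.unusedSectionVars false
set_option linter.style.haveILetI false

namespace CfsgLib.MaxSub.SymReal

open scoped MatrixGroups
open Cfsg.Geo Matrix
open CfsgLib.MaxSub.SymEight (conj_mem)

variable {ι : Type} [Fintype ι] [DecidableEq ι] {F : Type*} [Field F]

local notation "Mι" => Matrix ι ι F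

/-- The elements of `R` commuting or anticommuting with `y`. -/
def sc (R : Subgroup (GL ι F)) (y : GL ι F) : Subgroup (GL ι F) where
  carrier := {r | r ∈ R ∧ (Commute r y ∨ Anti r y)}
  one_mem' := ⟨R.one_mem, Or.inl (Commute.one_left y)⟩
  mul_mem' := by
    rintro a b ⟨ha, ha'⟩ ⟨hb, hb'⟩
    refine ⟨R.mul_mem ha hb, ?_⟩
    rcases ha' with h | h <;> rcases hb' with h' | h'
    · exact Or.inl (h.mul_left h')
    · exact Or.inr (Anti.comm_mul_left h h')
    · exact Or.inr (h.mul_comm_left h')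
    · exact Or.inl (h.mul_anti_left h')
  inv_mem' := by
    rintro a ⟨ha, h | h⟩
    · exact ⟨R.inv_mem ha, Or.inl h.inv_left⟩
    · exact ⟨R.inv_mem ha, Or.inr h.inv_left⟩

/-- The elements of `S` commuting with `y`. -/
def ec (S : Subgroup (GL ι F)) (y : GL ι F) : Subgroup (GL ι F) := S ⊓ Subgroup.centralizer {y}

theorem mem_sc {R : Subgroup (GL ι F)} {r y : GL ι F} : r ∈ sc R y ↔ r ∈ R ∧ (Commute r y ∨ Anti r y) := Iff.rfl

theorem mem_ec {S : Subgroup (GL ι F)} {r y : GL ι F} : r ∈ ec S y ↔ r ∈ S ∧ Commute r y := by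
  rw [ec, Subgroup.mem_inf, Subgroup.mem_centralizer_iff]
  exact and_congr_right fun _ => ⟨fun h => (h y rfl).symm,
    fun h z hz => by rw [Set.mem_singleton_iff.1 hz]; exact h.eq.symm⟩

theorem card_ec {S : Subgroup (GL ι F)} [Finite F] {y : GL ι F}
    (h : ∀ r ∈ S, Commute r y ∨ Anti r y) : Nat.card S ≤ 2 * Nat.card (ec S y) := by
  haveI : Finite (GL ι F) := Finite.of_injective (fun g => (g : Mι)) fun _ _ => Units.ext
  refine card_le_two_mul inf_le_left fun a ha b hb ha' hb' => mem_ec.2 ⟨S.mul_mem ha hb, ?_⟩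
  exact ((h a ha).resolve_left fun c => ha' (mem_ec.2 ⟨ha, c⟩)).mul_anti_left
    ((h b hb).resolve_left fun c => hb' (mem_ec.2 ⟨hb, c⟩))

namespace RFrame

variable {R : Subgroup (GL ι F)} (hR : RFrame R)
include hR

theorem card_pow [Finite F] {k : ℕ} (hk : Fintype.card ι = 2 ^ k) : Nat.card R = 2 ^ (2 * k + 1) := by
  rw [hR.card_eq, hk, ← pow_add, ← two_mul, ← pow_succ']

theorem exists_card_pow [Finite F] {k : ℕ} (hk : Fintype.card ι = 2 ^ k) {S : Subgroup (GL ι F)} (hS : S ≤ R) :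
    ∃ j, j ≤ 2 * k + 1 ∧ Nat.card S = 2 ^ j := by
  haveI : Finite (GL ι F) := Finite.of_injective (fun g => (g : Mι)) fun _ _ => Units.ext
  have h := Subgroup.card_dvd_of_le hS
  rw [hR.card_pow hk] at h
  exact (Nat.dvd_prime_pow Nat.prime_two).1 h

theorem mk_eq_iff (u v : R) :
    (u : R ⧸ Subgroup.center R) = v ↔ Sgn (u : GL ι F) v := by
  rw [QuotientGroup.eq]
  constructor
  · intro h
    rcases hR.eq_one_of_comm (u⁻¹ * v : R).2
        (fun w hw => congrArg Subtype.val (Subgroup.mem_center_iff.1 h ⟨w, hw⟩)) with e | e <;>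
      simp only [Subgroup.coe_mul, Subgroup.coe_inv, inv_mul_eq_iff_eq_mul, mul_one, mul_neg] at e
    · exact Or.inl e.symm
    · exact Or.inr (by rw [e, neg_neg])
  · intro h
    refine Subgroup.mem_center_iff.2 fun w => Subtype.ext ?_
    simp only [Subgroup.coe_mul, Subgroup.coe_inv]
    rcases h with e | e <;> rw [e]
    · rw [inv_mul_cancel, mul_one, one_mul]
    · rw [inv_eq_of_mul_eq_one_left (a := -((v : GL ι F)⁻¹)) (by rw [neg_mul_neg, inv_mul_cancel]), neg_mul,
        inv_mul_cancel, mul_neg, neg_mul, mul_one, one_mul]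

variable {y : GL ι F} (hy : y ∈ subgroupNormalizer R)
include hy

theorem bracket_mem {r : GL ι F} (hr : r ∈ R) : r * y * r⁻¹ * y⁻¹ ∈ R := by
  rw [mul_assoc r, mul_assoc r]; exact R.mul_mem hr (conj_mem hy (R.inv_mem hr))

theorem bracket_mul {r s : GL ι F} (hr : r ∈ R) (hs : s ∈ R) :
    Sgn (r * s * y * (r * s)⁻¹ * y⁻¹) (r * y * r⁻¹ * y⁻¹ * (s * y * s⁻¹ * y⁻¹)) := by
  have h1 := hR.bracket_mem hy hr
  have h2 := hR.bracket_mem hy hs
  have e : r * s * y * (r * s)⁻¹ * y⁻¹ = r * (s * y * s⁻¹ * y⁻¹) * r⁻¹ * (r * y * r⁻¹ * y⁻¹) := by group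
  rw [e]
  refine Sgn.trans (Sgn.mul (hR.conj_sgn hr h2) (Or.inl rfl)) ?_
  rcases hR.comm _ h2 _ h1 with h | h
  · exact Or.inl h.eq
  · exact Or.inr h

/-- The commutators with `y` modulo signs. -/
def bracket : R →* R ⧸ Subgroup.center R where
  toFun r := (⟨_, hR.bracket_mem hy r.2⟩ : R)
  map_one' := by
    have : (⟨_, hR.bracket_mem hy (1 : R).2⟩ : R) = 1 := Subtype.ext (by simp)
    rw [this]; rfl
  map_mul' r s := by
    rw [← QuotientGroup.mk_mul, hR.mk_eq_iff]
    exact hR.bracket_mul hy r.2 s.2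

theorem bracket_apply (r : R) : hR.bracket hy r = ((⟨_, hR.bracket_mem hy r.2⟩ : R) : R ⧸ Subgroup.center R) := rfl

theorem bracket_ker : (hR.bracket hy).ker = (sc R y).subgroupOf R := by
  ext r
  rw [MonoidHom.mem_ker, bracket_apply, Subgroup.mem_subgroupOf, mem_sc]
  show ((_ : R) : R ⧸ Subgroup.center R) = ((1 : R) : R ⧸ Subgroup.center R) ↔ _
  rw [hR.mk_eq_iff]
  simp only [r.2, true_and, Subgroup.coe_one]
  refine or_congr ⟨fun h => ?_, fun h => ?_⟩ ⟨fun h => ?_, fun h => ?_⟩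
  · rw [mul_inv_eq_one, mul_inv_eq_iff_eq_mul] at h; exact h
  · show _ * _ * _ * _ = _; rw [h.eq, mul_inv_cancel_right, mul_inv_cancel]
  · change _ = _ at h
    rw [mul_inv_eq_iff_eq_mul, mul_inv_eq_iff_eq_mul, neg_one_mul, neg_mul] at h; exact h
  · show _ * _ * _ * _ = _; rw [h, neg_mul, mul_inv_cancel_right, neg_mul, mul_inv_cancel]

theorem card_range [Finite F] :
    Nat.card R = Nat.card (sc R y) * Nat.card (hR.bracket hy).range := by
  have hle : sc R y ≤ R := fun r h => h.1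
  rw [Subgroup.card_eq_card_quotient_mul_card_subgroup (hR.bracket hy).ker,
    Nat.card_congr (QuotientGroup.quotientKerEquivRange (hR.bracket hy)).toEquiv, hR.bracket_ker hy,
    Nat.card_congr (Subgroup.subgroupOfEquivOfLe hle).toEquiv, mul_comm]

/-- An involution centralises at least the square root of the classes. -/
theorem card_sc [Finite F] {k : ℕ} (hk : Fintype.card ι = 2 ^ k) (hyy : ∀ r ∈ R, Sgn (y * y * r * (y * y)⁻¹) r) :
    2 ^ (k + 1) ≤ Nat.card (sc R y) := by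
  haveI : Finite (GL ι F) := Finite.of_injective (fun g => (g : Mι)) fun _ _ => Units.ext
  have hle : sc R y ≤ R := fun r h => h.1
  have hrange : (hR.bracket hy).range ≤ ((sc R y).subgroupOf R).map (QuotientGroup.mk' (Subgroup.center R)) := by
    rintro _ ⟨r, rfl⟩
    refine ⟨⟨_, hR.bracket_mem hy r.2⟩, ?_, rfl⟩
    show _ ∈ sc R y
    refine ⟨hR.bracket_mem hy r.2, ?_⟩
    obtain ⟨v, hv⟩ : ∃ v, v = (r : GL ι F) * y * (r : GL ι F)⁻¹ * y⁻¹ := ⟨_, rfl⟩
    show Commute ((r : GL ι F) * y * (r : GL ι F)⁻¹ * y⁻¹) y ∨ Anti ((r : GL ι F) * y * (r : GL ι F)⁻¹ * y⁻¹) y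
    rw [← hv]
    have e : Sgn (y * v * y⁻¹) v⁻¹ := by
      have h2 := hyy _ (R.inv_mem r.2)
      have h3 := (Sgn.refl (y * (r : GL ι F) * y⁻¹)).mul h2
      rw [show y * (r : GL ι F) * y⁻¹ * (y * y * (r : GL ι F)⁻¹ * (y * y)⁻¹) = y * v * y⁻¹ by rw [hv]; group,
        show y * (r : GL ι F) * y⁻¹ * (r : GL ι F)⁻¹ = v⁻¹ by rw [hv]; group] at h3
      exact h3
    rcases e.trans (hR.inv_sgn (hv ▸ hR.bracket_mem hy r.2)) with h | h
    · exact Or.inl (commute_of_conj_eq h).symm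
    · exact Or.inr (anti_of_conj_eq h).symm
  have h1 : Nat.card (hR.bracket hy).range ≤ Nat.card (sc R y) := by
    refine (Nat.le_of_dvd Nat.card_pos ((Subgroup.card_dvd_of_le hrange).trans (Subgroup.card_map_dvd _ _))).trans
      (le_of_eq ?_)
    exact Nat.card_congr (Subgroup.subgroupOfEquivOfLe hle).toEquiv
  have h2 := hR.card_range hy
  obtain ⟨j, -, hj⟩ := hR.exists_card_pow hk hle
  rw [hR.card_pow hk, hj] at h2
  rw [hj] at h1 ⊢
  refine Nat.pow_le_pow_right (by norm_num) ?_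
  have h3 : 2 ^ (2 * k + 1) ≤ 2 ^ (j + j) := by rw [h2, pow_add]; exact Nat.mul_le_mul_left _ h1
  have := (Nat.pow_le_pow_iff_right (by norm_num : 1 < 2)).1 h3
  omega

end RFrame

end CfsgLib.MaxSub.SymReal
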