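import Cfsg.Agent.Lib.MaxSub.SymReal.Block

/-!
The element acting as one on one eigenspace of an involution and as a given commuting element on the other,
and its conjugation action on a real frame.
-/

set_option autoImplicit false
set_option linter.unusedSectionVars false
set_option linter.style.haveILetI false
set_option linter.unusedSimpArgs false

namespace CfsgLib.MaxSub.SymReal

open scoped MatrixGroups
open Cfsg.Geo Matrix CfsgLib.MaxSub.DecompMax
open CfsgLib.MaxSub.SymEight (bd od cA coe_coordGL bd_mul bd_one bd_smul pairGL coe_pairGL dup coe_dup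
  mem_normalizer_of_conj)

variable {ι κ : Type} [Fintype ι] [DecidableEq ι] [Fintype κ] [DecidableEq κ] {F : Type*} [Field F]

local notation "Mι" => Matrix ι ι F
local notation "Mκ" => Matrix κ κ F

/-- One where `x` is one, `q` where `x` is minus one. -/
def ctrlM (x q : Mι) : Mι := (2 : F)⁻¹ • ((1 + x) + (1 - x) * q)

theorem ctrlM_mul (h2 : (2 : F) ≠ 0) {x q q' : Mι} (hx : x * x = 1) (hq : x * q = q * x) :
    ctrlM x q * ctrlM x q' = ctrlM x (q * q') := by
  have hpp : (1 + x) * (1 + x) = (2 : F) • (1 + x) := by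
    rw [mul_add, add_mul, add_mul, hx, one_mul, mul_one, one_mul, two_smul]; abel
  have hmm : (1 - x) * (1 - x) = (2 : F) • (1 - x) := by
    rw [mul_sub, sub_mul, sub_mul, hx, one_mul, mul_one, one_mul, two_smul]; abel
  have hpm : (1 + x) * (1 - x) = 0 := by
    rw [mul_sub, add_mul, add_mul, hx, one_mul, mul_one, one_mul]; abel
  have hmp : (1 - x) * (1 + x) = 0 := by
    rw [mul_add, sub_mul, sub_mul, hx, one_mul, mul_one, one_mul]; abel
  have hqp : q * (1 + x) = (1 + x) * q := by rw [mul_add, add_mul, hq, one_mul, mul_one]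
  have hqm : q * (1 - x) = (1 - x) * q := by rw [mul_sub, sub_mul, hq, one_mul, mul_one]
  have e : ((1 + x) + (1 - x) * q) * ((1 + x) + (1 - x) * q') =
      (2 : F) • ((1 + x) + (1 - x) * (q * q')) := by
    generalize 1 + x = A at hpp hpm hmp hqp ⊢
    generalize 1 - x = B at hmm hpm hmp hqm ⊢
    simp only [add_mul, mul_add, hpp, ← mul_assoc, hpm, zero_mul]
    simp only [mul_assoc B q A, hqp, ← mul_assoc, hmp, zero_mul, mul_assoc B q B, hqm, hmm, Matrix.smul_mul,
      add_zero, zero_add, smul_add]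
  rw [ctrlM, ctrlM, ctrlM, Matrix.smul_mul, Matrix.mul_smul, e, smul_smul, smul_smul, mul_assoc,
    inv_mul_cancel₀ h2, mul_one]

theorem ctrlM_one (h2 : (2 : F) ≠ 0) (x : Mι) : ctrlM x 1 = 1 := by
  rw [ctrlM, mul_one, add_add_sub_cancel, ← two_smul F (1 : Mι), smul_smul, inv_mul_cancel₀ h2, one_smul]

/-- The element `ctrlM x q` when this is invertible. -/
noncomputable def ctrl (x q : GL ι F) : GL ι F := by
  classical
  exact if h : (2 : F) ≠ 0 ∧ x * x = 1 ∧ Commute x q then
    { val := ctrlM (x : Mι) (q : Mι)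
      inv := ctrlM (x : Mι) ((q⁻¹ : GL ι F) : Mι)
      val_inv := by
        rw [ctrlM_mul h.1 (by rw [← Units.val_mul, h.2.1, Units.val_one]) (congrArg Units.val h.2.2.eq),
          Units.mul_inv, ctrlM_one h.1]
      inv_val := by
        rw [ctrlM_mul h.1 (by rw [← Units.val_mul, h.2.1, Units.val_one])
          (congrArg Units.val h.2.2.inv_right.eq), Units.inv_mul, ctrlM_one h.1] }
  else 1

variable {x q : GL ι F}

theorem ctrl_val (h2 : (2 : F) ≠ 0) (hx : x * x = 1) (hc : Commute x q) :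
    (ctrl x q : Mι) = ctrlM (x : Mι) (q : Mι) := by rw [ctrl, dif_pos ⟨h2, hx, hc⟩]

theorem ctrl_conj (h2 : (2 : F) ≠ 0) (hx : x * x = 1) (hc : Commute x q) (g : GL ι F) :
    g * ctrl x q * g⁻¹ = ctrl (g * x * g⁻¹) (g * q * g⁻¹) := by
  have hx' : g * x * g⁻¹ * (g * x * g⁻¹) = 1 := by
    rw [show g * x * g⁻¹ * (g * x * g⁻¹) = g * (x * x) * g⁻¹ by group, hx, mul_one, mul_inv_cancel]
  refine Units.ext ?_
  rw [ctrl_val h2 hx' (commute_conj hc g), Units.val_mul, Units.val_mul, ctrl_val h2 hx hc]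
  simp only [ctrlM, Units.val_mul, Matrix.mul_smul, Matrix.smul_mul, mul_add, add_mul, sub_mul, mul_sub,
    Matrix.mul_one, Matrix.one_mul, mul_assoc, Units.inv_mul_cancel_left, Units.mul_inv]

theorem commute_ctrl (h2 : (2 : F) ≠ 0) (hx : x * x = 1) (hc : Commute x q) {g : GL ι F}
    (hgx : Commute g x) (hgq : Commute g q) : Commute g (ctrl x q) := by
  refine commute_of_conj_eq ?_
  rw [ctrl_conj h2 hx hc, hgx.eq, mul_inv_cancel_right, hgq.eq, mul_inv_cancel_right]

theorem ctrl_self_commute (h2 : (2 : F) ≠ 0) (hx : x * x = 1) (hc : Commute x q) : Commute x (ctrl x q) :=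
  commute_ctrl h2 hx hc (Commute.refl x) hc

theorem ctrl_mul_add (h2 : (2 : F) ≠ 0) (hx : x * x = 1) (hc : Commute x q) :
    (ctrl x q : Mι) * (1 + (x : Mι)) = 1 + (x : Mι) := by
  have e : (x : Mι) * (x : Mι) = 1 := by rw [← Units.val_mul, hx, Units.val_one]
  have hq : (x : Mι) * (q : Mι) = (q : Mι) * (x : Mι) := congrArg Units.val hc.eq
  rw [ctrl_val h2 hx hc, ctrlM, Matrix.smul_mul]
  simp only [add_mul, sub_mul, mul_add, Matrix.one_mul, Matrix.mul_one, mul_assoc, ← hq]
  rw [← mul_assoc (x : Mι) (x : Mι), e, Matrix.one_mul]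
  match_scalars <;> field_simp <;> ring

section conj

variable (h2 : (2 : F) ≠ 0) (hx : x * x = 1) (hc : Commute x q) {e : GL ι F}
include h2 hx hc

theorem ctrl_conj_fix (hex : Commute e x) (heq : Commute e q) : ctrl x q * e * (ctrl x q)⁻¹ = e := by
  rw [(commute_ctrl h2 hx hc hex heq).symm.eq, mul_inv_cancel_right]

theorem ctrl_conj_B (hex : Commute e x) (heq : Anti e q) : ctrl x q * e * (ctrl x q)⁻¹ = e * x := by
  have h1 : (x : Mι) * (e : Mι) = (e : Mι) * (x : Mι) := (congrArg Units.val hex.eq).symm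
  have h2' : (q : Mι) * (e : Mι) = -((e : Mι) * (q : Mι)) :=
    (congrArg Units.val heq.symm).trans (by rw [Units.val_neg, Units.val_mul])
  have hxx : (x : Mι) * (x : Mι) = 1 := by rw [← Units.val_mul, hx, Units.val_one]
  have hxx' : ∀ A : Mι, (x : Mι) * ((x : Mι) * A) = A := fun A => by rw [← mul_assoc, hxx, Matrix.one_mul]
  have h1' : ∀ A : Mι, (x : Mι) * ((e : Mι) * A) = (e : Mι) * ((x : Mι) * A) := fun A => by
    rw [← mul_assoc, h1, mul_assoc]
  rw [mul_inv_eq_iff_eq_mul]
  refine Units.ext ?_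
  simp only [Units.val_mul, ctrl_val h2 hx hc, ctrlM]
  simp only [Matrix.smul_mul, Matrix.mul_smul, mul_add, add_mul, sub_mul, mul_sub, Matrix.one_mul,
    Matrix.mul_one, mul_assoc, h1, h2', h1', mul_neg, hxx, hxx']
  congr 1; abel

theorem ctrl_conj_C (hex : Anti e x) (heq : Commute e q) :
    (q * q = 1 → ctrl x q * e * (ctrl x q)⁻¹ = e * q) ∧
    (q * q = -1 → ctrl x q * e * (ctrl x q)⁻¹ = e * q * x) := by
  have h1 : (x : Mι) * (e : Mι) = -((e : Mι) * (x : Mι)) :=
    (congrArg Units.val hex.symm).trans (by rw [Units.val_neg, Units.val_mul])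
  have h2' : (q : Mι) * (e : Mι) = (e : Mι) * (q : Mι) := (congrArg Units.val heq.eq).symm
  have hxq : (q : Mι) * (x : Mι) = (x : Mι) * (q : Mι) := (congrArg Units.val hc.eq).symm
  have hxx : (x : Mι) * (x : Mι) = 1 := by rw [← Units.val_mul, hx, Units.val_one]
  have hxx' : ∀ A : Mι, (x : Mι) * ((x : Mι) * A) = A := fun A => by rw [← mul_assoc, hxx, Matrix.one_mul]
  have hxq' : ∀ A : Mι, (q : Mι) * ((x : Mι) * A) = (x : Mι) * ((q : Mι) * A) := fun A => by
    rw [← mul_assoc, hxq, mul_assoc]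
  have h1' : ∀ A : Mι, (x : Mι) * ((e : Mι) * A) = -((e : Mι) * ((x : Mι) * A)) := fun A => by
    rw [← mul_assoc, h1, Matrix.neg_mul, mul_assoc]
  constructor <;> intro hqq <;> rw [mul_inv_eq_iff_eq_mul] <;> refine Units.ext ?_ <;>
    have hqq' := congrArg Units.val hqq <;>
    simp only [Units.val_mul, Units.val_neg, Units.val_one] at hqq' <;>
    simp only [Units.val_mul, ctrl_val h2 hx hc, ctrlM] <;>
    simp only [Matrix.smul_mul, Matrix.mul_smul, mul_add, add_mul, sub_mul, mul_sub, Matrix.one_mul,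
      Matrix.mul_one, mul_assoc, h1, h2', h1', mul_neg, Matrix.neg_mul, hxq, hxq', hxx, hxx', hqq'] <;>
    congr 1 <;> abel

theorem ctrl_conj_D (hex : Anti e x) (heq : Anti e q) :
    (q * q = 1 → ctrl x q * e * (ctrl x q)⁻¹ = -(e * q * x)) ∧
    (q * q = -1 → ctrl x q * e * (ctrl x q)⁻¹ = -(e * q)) := by
  have h1 : (x : Mι) * (e : Mι) = -((e : Mι) * (x : Mι)) :=
    (congrArg Units.val hex.symm).trans (by rw [Units.val_neg, Units.val_mul])
  have h2' : (q : Mι) * (e : Mι) = -((e : Mι) * (q : Mι)) :=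
    (congrArg Units.val heq.symm).trans (by rw [Units.val_neg, Units.val_mul])
  have hxq : (q : Mι) * (x : Mι) = (x : Mι) * (q : Mι) := (congrArg Units.val hc.eq).symm
  have hxx : (x : Mι) * (x : Mι) = 1 := by rw [← Units.val_mul, hx, Units.val_one]
  have hxx' : ∀ A : Mι, (x : Mι) * ((x : Mι) * A) = A := fun A => by rw [← mul_assoc, hxx, Matrix.one_mul]
  have hxq' : ∀ A : Mι, (q : Mι) * ((x : Mι) * A) = (x : Mι) * ((q : Mι) * A) := fun A => by
    rw [← mul_assoc, hxq, mul_assoc]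
  have h1' : ∀ A : Mι, (x : Mι) * ((e : Mι) * A) = -((e : Mι) * ((x : Mι) * A)) := fun A => by
    rw [← mul_assoc, h1, Matrix.neg_mul, mul_assoc]
  constructor <;> intro hqq <;> rw [mul_inv_eq_iff_eq_mul] <;> refine Units.ext ?_ <;>
    have hqq' := congrArg Units.val hqq <;>
    simp only [Units.val_mul, Units.val_neg, Units.val_one] at hqq' <;>
    simp only [Units.val_mul, Units.val_neg, ctrl_val h2 hx hc, ctrlM] <;>
    simp only [Matrix.smul_mul, Matrix.mul_smul, mul_add, add_mul, sub_mul, mul_sub, Matrix.one_mul,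
      Matrix.mul_one, mul_assoc, h1, h2', h1', mul_neg, Matrix.neg_mul, hxq, hxq', hxx, hxx', hqq',
      ← smul_neg] <;>
    congr 1 <;> abel

end conj

namespace RFrame

variable {R : Subgroup (GL ι F)} (hR : RFrame R)
include hR

/-- The image of an element anticommuting with `x`. -/
theorem ctrl_conj_anti (hq : q ∈ R) (hx : x * x = 1) (hc : Commute x q) {e : GL ι F} (he : e ∈ R)
    (hex : Anti e x) : Sgn (ctrl x q * e * (ctrl x q)⁻¹) (e * q) ∨ Sgn (ctrl x q * e * (ctrl x q)⁻¹) (e * q * x) := by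
  rcases hR.comm e he q hq with heq | heq <;> rcases hR.sq q hq with hqq | hqq
  · exact Or.inl (Or.inl ((ctrl_conj_C hR.two hx hc hex heq).1 hqq))
  · exact Or.inr (Or.inl ((ctrl_conj_C hR.two hx hc hex heq).2 hqq))
  · exact Or.inr (Or.inr ((ctrl_conj_D hR.two hx hc hex heq).1 hqq))
  · exact Or.inl (Or.inr ((ctrl_conj_D hR.two hx hc hex heq).2 hqq))

theorem ctrl_mem_normalizer [Finite F] (hxR : x ∈ R) (hq : q ∈ R) (hx : x * x = 1) (hc : Commute x q) :
    ctrl x q ∈ subgroupNormalizer R := by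
  refine mem_normalizer_of_conj fun e he => ?_
  rcases hR.comm e he x hxR with hex | hex
  · rcases hR.comm e he q hq with heq | heq
    · rwa [ctrl_conj_fix hR.two hx hc hex heq]
    · rw [ctrl_conj_B hR.two hx hc hex heq]; exact R.mul_mem he hxR
  · rcases hR.ctrl_conj_anti hq hx hc he hex with h | h
    · exact hR.mem_of_sgn (R.mul_mem he hq) h
    · exact hR.mem_of_sgn (R.mul_mem (R.mul_mem he hq) hxR) h

end RFrame

theorem coordGL_ctrl (h2 : (2 : F) ≠ 0) (hx : x * x = 1) (hc : Commute x q) (Φ : (ι → F) ≃ₗ[F] (κ → F)) :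
    coordGL Φ (ctrl x q) = ctrl (coordGL Φ x) (coordGL Φ q) := by
  refine Units.ext ?_
  rw [coe_coordGL, ctrl_val h2 hx hc,
    ctrl_val h2 (show coordGL Φ x * coordGL Φ x = 1 by rw [← map_mul, hx, map_one])
      (show Commute (coordGL Φ x) (coordGL Φ q) from hc.map (coordGL Φ).toMonoidHom)]
  simp only [ctrlM, map_smul, map_add, map_sub, map_mul, map_one, coe_coordGL]

theorem dup_ctrl (h2 : (2 : F) ≠ 0) {x q : GL κ F} (hx : x * x = 1) (hc : Commute x q) :
    dup (ctrl x q) = ctrl (dup x) (dup q) := by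
  refine Units.ext ?_
  rw [coe_dup, ctrl_val h2 hx hc, ctrl_val h2 (by rw [← map_mul, hx, map_one]) (hc.map dup)]
  simp only [ctrlM, coe_dup, bd, ← Matrix.fromBlocks_one, Matrix.fromBlocks_add, sub_eq_add_neg,
    Matrix.fromBlocks_neg, Matrix.fromBlocks_multiply, Matrix.fromBlocks_smul, Matrix.mul_zero, Matrix.zero_mul,
    add_zero, zero_add, neg_zero, smul_zero]

/-- One in the first block, the given element in the second. -/
theorem pairGL_one_eq (h2 : (2 : F) ≠ 0) {z : GL (κ ⊕ κ) F} (hz : (z : Matrix (κ ⊕ κ) (κ ⊕ κ) F) = bd 1 (-1))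
    (a : GL κ F) : z * z = 1 ∧ Commute z (dup a) ∧ pairGL (1, a) = ctrl z (dup a) := by
  have hzz : z * z = 1 := Units.ext (by rw [Units.val_mul, hz, bd_mul, neg_mul_neg, Matrix.one_mul, bd_one,
    Units.val_one])
  have hzc : Commute z (dup a) := Units.ext (by
    rw [Units.val_mul, Units.val_mul, hz, coe_dup, bd_mul, bd_mul]; simp)
  refine ⟨hzz, hzc, Units.ext ?_⟩
  rw [ctrl_val h2 hzz hzc, coe_pairGL, hz, coe_dup, ctrlM, Units.val_one]
  have ht : ∀ B : Mκ, (2 : F)⁻¹ • (B + B) = B := fun B => by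
    rw [← two_smul F B, smul_smul, inv_mul_cancel₀ h2, one_smul]
  simp only [bd, ← Matrix.fromBlocks_one, Matrix.fromBlocks_add, sub_eq_add_neg,
    Matrix.fromBlocks_neg, Matrix.fromBlocks_multiply, Matrix.fromBlocks_smul, Matrix.mul_zero, Matrix.zero_mul,
    add_zero, zero_add, neg_zero, smul_zero, neg_neg, add_neg_cancel, Matrix.add_mul, Matrix.one_mul, ht]

end CfsgLib.MaxSub.SymReal
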