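import Cfsg.Agent.Lib.MaxSub.SymReal.Count
import Mathlib.GroupTheory.FixedPointFree

/-!
A group normalising a real frame, containing it, normalised by its elementary elements and moving the elements
centralised by a fixed involution only along that involution, acts trivially on the classes of the frame.
-/

set_option autoImplicit false
set_option linter.unusedSectionVars false
set_option linter.style.haveILetI false

namespace CfsgLib.MaxSub.SymReal

open scoped MatrixGroups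
open Cfsg.Geo Matrix
open CfsgLib.MaxSub.SymEight (conj_mem)

variable {ι : Type} [Fintype ι] [DecidableEq ι] {F : Type*} [Field F]

local notation "Mι" => Matrix ι ι F

/-- Trivial action on the classes of `R`. -/
def Triv (R : Subgroup (GL ι F)) (c : GL ι F) : Prop := ∀ q ∈ R, Sgn (c * q * c⁻¹) q

theorem conj_conj (a b q : GL ι F) : a * b * q * (a * b)⁻¹ = a * (b * q * b⁻¹) * a⁻¹ := by group

theorem conj_mul (a p q : GL ι F) : a * (p * q) * a⁻¹ = a * p * a⁻¹ * (a * q * a⁻¹) := by group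

theorem sq_mul_comm {a b : GL ι F} (h : Commute a b) : a * b * (a * b) = a * a * (b * b) :=
  Commute.mul_mul_mul_comm h.symm a b

theorem sq_mul_anti {a b : GL ι F} (h : Anti a b) : a * b * (a * b) = -(a * a * (b * b)) := by
  rw [mul_assoc a b, ← mul_assoc b a b, h.symm, neg_mul, mul_assoc a b b, mul_neg, ← mul_assoc]

theorem Triv.mul {R : Subgroup (GL ι F)} {a b : GL ι F} (ha : Triv R a) (hb : Triv R b) : Triv R (a * b) :=
  fun q hq => by rw [conj_conj]; exact ((hb q hq).conj a).trans (ha q hq)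

theorem Triv.conj' {R : Subgroup (GL ι F)} {a g : GL ι F} (ha : Triv R a) (hg : g ∈ subgroupNormalizer R) :
    Triv R (g * a * g⁻¹) := fun q hq => by
  have h0 : g⁻¹ * q * g ∈ R := by simpa using conj_mem (inv_mem hg) hq
  simpa [mul_assoc] using (ha _ h0).conj g

theorem Triv.inv' {R : Subgroup (GL ι F)} {a : GL ι F} (ha : Triv R a) (h : a ∈ subgroupNormalizer R) :
    Triv R a⁻¹ := fun q hq => by
  have h0 : a⁻¹ * q * a ∈ R := by simpa using conj_mem (inv_mem h) hq
  simpa [mul_assoc] using (ha _ h0).symm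

/-- The action of an elementary element: `q ↦ q v^[q,e]` on the elements commuting with `v`. -/
structure Eich (R : Subgroup (GL ι F)) (n v e : GL ι F) : Prop where
  fix : Sgn (n * v * n⁻¹) v
  same : ∀ q ∈ R, Commute q v → Commute q e → Sgn (n * q * n⁻¹) q
  move : ∀ q ∈ R, Commute q v → Anti q e → Sgn (n * q * n⁻¹) (q * v)
  out : ∀ u ∈ R, Anti u v → Sgn (n * u * n⁻¹) (u * e) ∨ Sgn (n * u * n⁻¹) (u * e * v)

namespace RFrame

variable {R : Subgroup (GL ι F)} (hR : RFrame R)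
include hR

theorem triv_of_mem {y : GL ι F} (hy : y ∈ R) : Triv R y := fun _ hq => hR.conj_sgn hy hq

theorem sq_neg_ne {a : GL ι F} (h : a * a = -1) : a ≠ 1 ∧ a ≠ -1 := by
  constructor <;> rintro rfl
  · exact hR.one_ne_neg_one (by rwa [mul_one] at h)
  · exact hR.one_ne_neg_one (by rwa [neg_mul_neg, mul_one] at h)

theorem sq_one_ne {a : GL ι F} (h : a * a = 1) {b : GL ι F} (hb : b * b = -1) : ¬ Sgn a b := fun hs =>
  hR.one_ne_neg_one (h.symm.trans ((hR.sq_of_sgn hs).trans hb))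

theorem not_sgn_mul {v w : GL ι F} (hw1 : w ≠ 1) (hw2 : w ≠ -1) : ¬ Sgn (v * w) v := by
  rintro (h | h)
  · exact hw1 (mul_eq_left.1 h)
  · exact hw2 (mul_left_cancel (h.trans (mul_neg_one v).symm))

theorem eich_ctrl {v e : GL ι F} (hv : v * v = 1) (he : e ∈ R) (hve : Commute v e) : Eich R (ctrl v e) v e where
  fix := Or.inl (ctrl_conj_fix hR.two hv hve (Commute.refl v) hve)
  same q _ h1 h2 := Or.inl (ctrl_conj_fix hR.two hv hve h1 h2)
  move q _ h1 h2 := Or.inl (ctrl_conj_B hR.two hv hve h1 h2)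
  out u hu h := hR.ctrl_conj_anti he hv hve hu h

theorem exists_move {v e : GL ι F} (hv : Sing R v) (he : e ∈ R) (hve : Commute v e) (hee : e * e = -1) :
    ∃ q ∈ R, Commute q v ∧ Anti q e := by
  have h2 : v * e * (v * e) = -1 := by rw [sq_mul_comm hve, hv.sq, hee, one_mul]
  exact hR.exists_sign hv.mem he (hR.sq_neg_ne hee).1 (hR.sq_neg_ne hee).2 (hR.sq_neg_ne h2).1
    (hR.sq_neg_ne h2).2

/-- A non-central involution commuting with `v` and `e` and inequivalent to `v`. -/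
theorem exists_comm_ve [Finite F] {k : ℕ} (hk : Fintype.card ι = 2 ^ k) (hk3 : 3 ≤ k) {v e : GL ι F}
    (hv : v ∈ R) (he : e ∈ R) (hve : Commute v e) (hee : e * e = -1) :
    ∃ w, Sing R w ∧ Commute w v ∧ Commute w e ∧ ¬ Sgn w v := by
  classical
  haveI : Finite (GL ι F) := Finite.of_injective (fun g => (g : Mι)) fun _ _ => Units.ext
  have h1 := card_ec (S := R) (y := v) fun r hr => hR.comm r hr v hv
  have h2 := card_ec (S := ec R v) (y := e) fun r hr => hR.comm r (mem_ec.1 hr).1 e he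
  rw [hR.card_pow hk] at h1
  have h3 : 2 ^ 7 ≤ 2 ^ (2 * k + 1) := Nat.pow_le_pow_right (by norm_num) (by omega)
  obtain ⟨f, hf, hne⟩ := exists_not_mem (S := ec (ec R v) e)
    ({1, -1, v, -v, e, -e, v * e, -(v * e)} : Finset (GL ι F)) (by
      have hc : ({1, -1, v, -v, e, -e, v * e, -(v * e)} : Finset (GL ι F)).card ≤ 8 := by
        iterate 7 refine (Finset.card_insert_le _ _).trans (Nat.succ_le_succ ?_)
        exact (Finset.card_singleton _).le
      omega)
  simp only [Finset.mem_insert, Finset.mem_singleton, not_or] at hne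
  obtain ⟨n1, n2, n3, n4, n5, n6, n7, n8⟩ := hne
  obtain ⟨hf', hfe⟩ := mem_ec.1 hf
  obtain ⟨hfR, hfv⟩ := mem_ec.1 hf'
  rcases hR.sq f hfR with hff | hff
  · exact ⟨f, ⟨hfR, hff, n1, n2⟩, hfv, hfe, fun h => h.elim n3 n4⟩
  have hei : e⁻¹ = -e := inv_eq_of_mul_eq_one_left (by rw [neg_mul, hee, neg_neg])
  refine ⟨f * e, ⟨R.mul_mem hfR he, by rw [sq_mul_comm hfe, hff, hee, neg_mul_neg, one_mul], fun h => ?_,
    fun h => ?_⟩, hfv.mul_left hve.symm, hfe.mul_left (Commute.refl e), ?_⟩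
  · exact n6 ((eq_inv_of_mul_eq_one_left h).trans hei)
  · refine n5 ?_
    rw [← eq_mul_inv_iff_mul_eq.2 h |>.symm, hei, neg_mul_neg, one_mul] at *
  · rintro (h | h)
    · refine n8 ?_
      rw [eq_mul_inv_iff_mul_eq.2 h, hei, mul_neg]
    · refine n7 ?_
      rw [eq_mul_inv_iff_mul_eq.2 h, hei, neg_mul_neg]

/-- Commuting involutions with an element of square `-1` commuting with both and a further involution. -/
theorem exists_triple [Finite F] {k : ℕ} (hk : Fintype.card ι = 2 ^ k) (hk3 : 3 ≤ k) {v u d : GL ι F}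
    (hv : Sing R v) (hu : Sing R u) (hvu : Anti v u) (hd : Sing R d) (hdv : Commute d v) (hdu : Commute d u) :
    ∃ A e, Sing R A ∧ e ∈ R ∧ e * e = -1 ∧ Commute A v ∧ Anti d A ∧ Commute e v ∧ Commute e d ∧ Commute e A := by
  obtain ⟨n, R1, ψ, hn, hR1, hψ, hψn, hmem, hsurj⟩ := hR.exists_sub hv.mem hu.mem hv.sq hu.sq hvu
  obtain ⟨d1, hd1, rfl⟩ := hsurj d hd.mem hdv hdu
  have hcard : 8 ≤ Fintype.card ι := by
    rw [hk]; exact (show (8 : ℕ) = 2 ^ 3 by norm_num) ▸ Nat.pow_le_pow_right (by norm_num) hk3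
  have hd1' : Sing R1 d1 := ⟨hd1, hψ (by rw [map_mul, hd.sq, map_one]),
    fun h => hd.ne_one (by rw [h, map_one]), fun h => hd.ne_neg (by rw [h, hψn, map_one])⟩
  obtain ⟨A1, hA1, hdA⟩ := hR1.exists_pair hd1'
  obtain ⟨n2, R2, ψ2, hn2, hR2, hψ2, hψ2n, hmem2, -⟩ := hR1.exists_sub hd1 hA1.mem hd1'.sq hA1.sq hdA
  obtain ⟨e2, he2, hee⟩ := hR2.exists_sq_neg (by
    rw [Fintype.card_fin] at hn2 ⊢; omega)
  obtain ⟨he1, he1d, he1A⟩ := hmem2 e2 he2
  have hA : Sing R (ψ A1) := ⟨(hmem A1 hA1.mem).1, by rw [← map_mul, hA1.sq, map_one],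
    fun h => hA1.ne_one (hψ (by rw [h, map_one])), fun h => hA1.ne_neg (hψ (by rw [h, hψn, map_one]))⟩
  refine ⟨ψ A1, ψ (ψ2 e2), hA, (hmem _ he1).1, ?_, (hmem A1 hA1.mem).2.1, ?_, (hmem _ he1).2.1,
    he1d.map ψ, he1A.map ψ⟩
  · rw [← map_mul, ← map_mul, hee, hψ2n, map_one, hψn, map_one]
  · show _ = _
    rw [← map_mul, hdA, hψn, map_mul]

/-- Two anticommuting elements of square `-1` commuting with an involution. -/
theorem exists_quat [Finite F] {k : ℕ} (hk : Fintype.card ι = 2 ^ k) (hk3 : 3 ≤ k) {v : GL ι F} (hv : Sing R v) :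
    ∃ e₁ e₂, e₁ ∈ R ∧ e₂ ∈ R ∧ e₁ * e₁ = -1 ∧ e₂ * e₂ = -1 ∧ Anti e₁ e₂ ∧ Commute v e₁ ∧ Commute v e₂ := by
  obtain ⟨X, hX, hvX⟩ := hR.exists_pair hv
  have hcard : 8 ≤ Fintype.card ι := by
    rw [hk]; exact (show (8 : ℕ) = 2 ^ 3 by norm_num) ▸ Nat.pow_le_pow_right (by norm_num) hk3
  obtain ⟨n, R1, ψ, hn, hR1, hψ, hψn, hmem, -⟩ := hR.exists_sub hv.mem hX.mem hv.sq hX.sq hvX
  obtain ⟨a, ha⟩ := hR1.exists_sing (by rw [Fintype.card_fin]; omega)
  obtain ⟨x, hx, hax⟩ := hR1.exists_pair ha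
  obtain ⟨n2, R2, ψ2, hn2, hR2, hψ2, hψ2n, hmem2, -⟩ := hR1.exists_sub ha.mem hx.mem ha.sq hx.sq hax
  obtain ⟨e2, he2, hee⟩ := hR2.exists_sq_neg (by rw [Fintype.card_fin] at hn2 ⊢; omega)
  obtain ⟨hf, hfa, hfx⟩ := hmem2 e2 he2
  have hff : ψ2 e2 * ψ2 e2 = -1 := by rw [← map_mul, hee, hψ2n, map_one]
  have hneg : ψ (-1) = -1 := by rw [hψn, map_one]
  have hxax : Anti (a * x) a := Anti.comm_mul_left (Commute.refl a) hax.symm
  refine ⟨ψ (a * x), ψ (a * ψ2 e2), (hmem _ (R1.mul_mem ha.mem hx.mem)).1,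
    (hmem _ (R1.mul_mem ha.mem hf)).1, ?_, ?_, ?_, (hmem _ (R1.mul_mem ha.mem hx.mem)).2.1.symm,
    (hmem _ (R1.mul_mem ha.mem hf)).2.1.symm⟩
  · rw [← map_mul, sq_mul_anti hax, ha.sq, hx.sq, one_mul, hneg]
  · rw [← map_mul, sq_mul_comm hfa.symm, ha.sq, hff, one_mul, hneg]
  · have h := hxax.mul_comm_right (c := ψ2 e2) (hfa.symm.mul_left hfx.symm)
    unfold Anti at h ⊢
    rw [← map_mul, h, hψn, map_mul]

variable [Finite F] {K : Subgroup (GL ι F)} (hKN : K ≤ subgroupNormalizer R) (hRK : R ≤ K)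
  (hctrl : ∀ v q, Sing R v → q ∈ R → Commute v q → ∀ c ∈ K, ctrl v q * c * (ctrl v q)⁻¹ ∈ K)
  (hP : ∀ c ∈ K, ∀ r, Sing R r → Commute c r → ∀ q ∈ R, Commute q r →
    Sgn (c * q * c⁻¹) q ∨ Sgn (c * q * c⁻¹) (q * r))
  {k : ℕ} (hk : Fintype.card ι = 2 ^ k) (hk3 : 3 ≤ k)
include hKN hRK hP

theorem exists_adj {c r : GL ι F} (hc : c ∈ K) (hr : Sing R r) (h : Sgn (c * r * c⁻¹) r) :
    ∃ c' ∈ K, Commute c' r ∧ ∀ q ∈ R, Sgn (c' * q * c'⁻¹) (c * q * c⁻¹) := by
  rcases h with h | h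
  · exact ⟨c, hc, commute_of_conj_eq h, fun q _ => Or.inl rfl⟩
  · obtain ⟨y, hy, hry⟩ := hR.exists_pair hr
    refine ⟨c * y, K.mul_mem hc (hRK hy.mem), (anti_of_conj_eq h).mul_anti_left hry.symm, fun q hq => ?_⟩
    rw [conj_conj]
    exact (hR.conj_sgn hy.mem hq).conj c

theorem moves_along {c r : GL ι F} (hc : c ∈ K) (hr : Sing R r) (h : Sgn (c * r * c⁻¹) r) {q : GL ι F}
    (hq : q ∈ R) (hqr : Commute q r) : Sgn (c * q * c⁻¹) q ∨ Sgn (c * q * c⁻¹) (q * r) := by
  obtain ⟨c', hc', hc'r, heq⟩ := hR.exists_adj hKN hRK hP hc hr h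
  exact (hP c' hc' r hr hc'r q hq hqr).imp ((heq q hq).symm.trans) ((heq q hq).symm.trans)

include hk hk3

/-- No element of `K` acts as `q ↦ q v^[q,e]` with `e² = -1`. -/
theorem no_eich {c v e : GL ι F} (hc : c ∈ K) (hv : Sing R v) (he : e ∈ R) (hve : Commute v e)
    (hee : e * e = -1) (hsame : ∀ q ∈ R, Commute q v → Commute q e → Sgn (c * q * c⁻¹) q)
    (hmove : ∀ q ∈ R, Commute q v → Anti q e → Sgn (c * q * c⁻¹) (q * v)) : False := by
  obtain ⟨w, hw, hwv, hwe, hwne⟩ := hR.exists_comm_ve hk hk3 hv.mem he hve hee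
  have hsve : v * e * (v * e) = -1 := by rw [sq_mul_comm hve, hv.sq, hee, one_mul]
  have hswe : w * e * (w * e) = -1 := by rw [sq_mul_comm hwe, hw.sq, hee, one_mul]
  have hsvwe : v * (w * e) * (v * (w * e)) = -1 := by
    rw [sq_mul_comm (hwv.symm.mul_right hve), hv.sq, hswe, one_mul]
  obtain ⟨q, hq, hqv, hqw, hqe⟩ := hR.exists_sign₃ hv.mem hw.mem he (hR.sq_neg_ne hee).1 (hR.sq_neg_ne hee).2
    (hR.sq_neg_ne hsve).1 (hR.sq_neg_ne hsve).2 (hR.sq_neg_ne hswe).1 (hR.sq_neg_ne hswe).2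
    (hR.sq_neg_ne hsvwe).1 (hR.sq_neg_ne hsvwe).2
  rcases hR.moves_along hKN hRK hP hc hw (hsame w hw.mem hwv hwe) hq hqw with h | h
  · exact hR.not_sgn_mul hv.ne_one hv.ne_neg ((hmove q hq hqv hqe).symm.trans h)
  · have h' := (hmove q hq hqv hqe).symm.trans h
    rcases h' with h' | h'
    · exact hwne (Or.inl (mul_left_cancel h').symm)
    · rw [← mul_neg] at h'
      exact hwne (Or.inr (by rw [mul_left_cancel h', neg_neg]))

omit hk hk3 in
/-- The image of an element anticommuting with a fixed involution determines the action. -/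
theorem exists_dir {c v u : GL ι F} (hc : c ∈ K) (hv : Sing R v) (hu : u ∈ R) (hvu : Anti v u)
    (hcv : Sgn (c * v * c⁻¹) v) : ∃ d ∈ R, Commute d v ∧ c * u * c⁻¹ = u * d ∧
      ∀ q ∈ R, Commute q v → (Commute q d → Sgn (c * q * c⁻¹) q) ∧ (Anti q d → Sgn (c * q * c⁻¹) (q * v)) := by
  obtain ⟨d, hd⟩ : ∃ d, d = u⁻¹ * (c * u * c⁻¹) := ⟨_, rfl⟩
  have hdR : d ∈ R := hd ▸ R.mul_mem (R.inv_mem hu) (conj_mem (hKN hc) hu)
  have hcu : c * u * c⁻¹ = u * d := by rw [hd, mul_inv_cancel_left]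
  have hwv : Anti (c * u * c⁻¹) v := by
    have h1 := hvu.symm.conj c
    rcases hcv with h | h <;> rw [h] at h1
    · exact h1
    · simpa using h1.neg_right
  have hdv : Commute d v := hd ▸ (hvu.symm.inv_left.mul_anti_left hwv)
  refine ⟨d, hdR, hdv, hcu, fun q hq hqv => ⟨fun hqd => ?_, fun hqd => ?_⟩⟩
  · refine (hR.moves_along hKN hRK hP hc hv hcv hq hqv).resolve_right fun h => ?_
    rcases hR.comm q hq u hu with hqu | hqu
    · have h1 : Anti (q * v) u := Anti.comm_mul_left hqu hvu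
      have h2 : Commute (q * v) d := hqd.mul_left hdv.symm
      have h3 := h1.mul_comm_right h2
      rw [← hcu] at h3
      rcases h with h | h
      · rw [← h] at h3; exact hR.not_anti (commute_conj hqu c) h3
      · have := h3.neg_left; rw [← h] at this; exact hR.not_anti (commute_conj hqu c) this
    · have h1 : Commute (q * v) u := hqu.mul_anti_left hvu
      have h3 := h1.mul_right (hqd.mul_left hdv.symm)
      rw [← hcu] at h3
      rcases h with h | h
      · rw [← h] at h3; exact hR.not_anti h3 (hqu.conj c)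
      · have e : q * v = -(c * q * c⁻¹) := by rw [h, neg_neg]
        rw [e] at h3
        exact hR.not_anti ((Commute.neg_left_iff).1 h3) (hqu.conj c)
  · refine (hR.moves_along hKN hRK hP hc hv hcv hq hqv).resolve_left fun h => ?_
    have h' : Commute (c * q * c⁻¹) (c * u * c⁻¹) ↔ Commute q u :=
      ⟨fun h4 => (hR.comm q hq u hu).resolve_right fun h5 => hR.not_anti h4 (h5.conj c), fun h4 => commute_conj h4 c⟩
    rcases hR.comm q hq u hu with hqu | hqu
    · have h3 := Anti.comm_mul_right hqu hqd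
      rw [← hcu] at h3
      have h4 := h'.2 hqu
      rcases h with h | h <;> rw [h] at h4
      · exact hR.not_anti h4 h3
      · exact hR.not_anti ((Commute.neg_left_iff).1 h4) h3
    · have h3 := hqu.mul_anti_right hqd
      rw [← hcu] at h3
      have h4 := hqu.conj c
      rcases h with h | h <;> rw [h] at h4
      · exact hR.not_anti h3 h4
      · exact hR.not_anti h3 (by simpa using h4.neg_left)

omit hk hk3 in
theorem triv_of_gen {c v u : GL ι F} (hu : u ∈ R) (hvu : Anti v u)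
    (h1 : ∀ q ∈ R, Commute q v → Sgn (c * q * c⁻¹) q) (h2 : Sgn (c * u * c⁻¹) u) (hv : v ∈ R) : Triv R c := by
  intro q hq
  rcases hR.comm q hq v hv with h | h
  · exact h1 q hq h
  · have hq' := h1 (q * u) (R.mul_mem hq hu) (h.mul_anti_left hvu.symm)
    rw [conj_mul] at hq'
    have := hq'.mul h2.inv
    rwa [mul_inv_cancel_right, mul_inv_cancel_right] at this

omit hk hk3 in
/-- Fixing an involution makes the action of order two. -/
theorem triv_sq {c v : GL ι F} (hc : c ∈ K) (hv : Sing R v) (hcv : Sgn (c * v * c⁻¹) v) : Triv R (c * c) := by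
  obtain ⟨u, hu, hvu⟩ := hR.exists_pair hv
  obtain ⟨d, hd, hdv, hcu, hq⟩ := hR.exists_dir hKN hRK hP hc hv hu.mem hvu hcv
  refine hR.triv_of_gen hKN hRK hP (v := v) hu.mem hvu (fun q hqR hqv => ?_) ?_ hv.mem
  · rw [conj_conj]
    rcases hR.comm q hqR d hd with h | h
    · exact (((hq q hqR hqv).1 h).conj c).trans ((hq q hqR hqv).1 h)
    · refine (((hq q hqR hqv).2 h).conj c).trans ?_
      rw [conj_mul]
      refine (((hq q hqR hqv).2 h).mul hcv).trans ?_
      rw [mul_assoc, hv.sq, mul_one]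
      exact Or.inl rfl
  · rw [conj_conj, hcu, conj_mul, hcu]
    refine ((Sgn.refl (u * d)).mul ((hq d hd hdv).1 (Commute.refl d))).trans ?_
    rcases hR.sq d hd with h | h <;> rw [mul_assoc, h]
    · exact Or.inl (mul_one u)
    · exact Or.inr (mul_neg_one u)

include hctrl

/-- An element of order two acts trivially. -/
theorem triv_of_sq {c : GL ι F} (hc : c ∈ K) (hcc : Triv R (c * c)) : Triv R c := by
  obtain ⟨v, hvS, hv⟩ := hR.exists_sing_of_card (S := sc R c) (fun r h => h.1) (by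
    have := hR.card_sc (hKN hc) hk hcc
    have h16 : 2 ^ 4 ≤ 2 ^ (k + 1) := Nat.pow_le_pow_right (by norm_num) (by omega)
    omega)
  have hcv : Sgn (c * v * c⁻¹) v := by
    rcases hvS.2 with h | h
    · exact Or.inl (by rw [← h.eq, mul_inv_cancel_right])
    · exact Or.inr h.symm.conj_eq
  obtain ⟨u, hu, hvu⟩ := hR.exists_pair hv
  obtain ⟨d, hd, hdv, hcu, hq⟩ := hR.exists_dir hKN hRK hP hc hv hu.mem hvu hcv
  have hsq : u * d * (u * d) = 1 := by
    rw [← hcu, show c * u * c⁻¹ * (c * u * c⁻¹) = c * (u * u) * c⁻¹ by group, hu.sq, mul_one, mul_inv_cancel]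
  rcases hR.sq d hd with hdd | hdd
  swap
  · exact (hR.no_eich hKN hRK hP hk hk3 hc hv hd hdv.symm hdd (fun q hqR hqv => (hq q hqR hqv).1)
      fun q hqR hqv => (hq q hqR hqv).2).elim
  have hdu : Commute d u := ((hR.comm u hu.mem d hd).resolve_right fun h => hR.one_ne_neg_one
    (hsq.symm.trans (by rw [sq_mul_anti h, hu.sq, hdd, one_mul]))).symm
  by_cases hd1 : Sgn d 1
  · refine hR.triv_of_gen hKN hRK hP (v := v) hu.mem hvu (fun q hqR hqv => (hq q hqR hqv).1 ?_) ?_ hv.mem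
    · rcases hd1 with rfl | rfl
      · exact Commute.one_right q
      · exact (Commute.neg_one_right q)
    · rw [hcu]
      simpa using (Sgn.refl u).mul hd1
  exfalso
  have hds : Sing R d := ⟨hd, hdd, fun h => hd1 (Or.inl h), fun h => hd1 (Or.inr h)⟩
  obtain ⟨A, e, hA, he, hee, hAv, hdA, hev, hed, heA⟩ := hR.exists_triple hk hk3 hv hu hvu hds hdv hdu
  obtain ⟨n, hn⟩ : ∃ n, n = ctrl A e := ⟨_, rfl⟩
  have hnv : n * v * n⁻¹ = v := hn ▸ ctrl_conj_fix hR.two hA.sq heA.symm hAv.symm hev.symm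
  have hnd : n * d * n⁻¹ = d * e * A :=
    hn ▸ (ctrl_conj_C hR.two hA.sq heA.symm hdA hed.symm).2 hee
  have hnN : n ∈ subgroupNormalizer R := hn ▸ hR.ctrl_mem_normalizer hA.mem he hA.sq heA.symm
  obtain ⟨c', hc'⟩ : ∃ c', c' = n * c * n⁻¹ := ⟨_, rfl⟩
  have hc'K : c' ∈ K := hc' ▸ hn ▸ hctrl A e hA he heA.symm c hc
  have key : ∀ q ∈ R, Commute q v → (Commute q (d * e * A) → Sgn (c' * q * c'⁻¹) q) ∧
      (Anti q (d * e * A) → Sgn (c' * q * c'⁻¹) (q * v)) := by
    intro q hqR hqv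
    have h0 : n⁻¹ * q * n ∈ R := by simpa using conj_mem (inv_mem hnN) hqR
    have hn' : q = n * (n⁻¹ * q * n) * n⁻¹ := by group
    have he' : c' * q * c'⁻¹ = n * (c * (n⁻¹ * q * n) * c⁻¹) * n⁻¹ := by rw [hc']; group
    have h0v : Commute (n⁻¹ * q * n) v := by
      have := commute_conj hqv n⁻¹
      rwa [inv_inv, show n⁻¹ * v * n = v by nth_rewrite 1 [← hnv]; group] at this
    have hd0 : n⁻¹ * (d * e * A) * n = d := by rw [← hnd]; group
    constructor <;> intro hqd <;> rw [he']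
    · have := commute_conj hqd n⁻¹
      rw [inv_inv, hd0] at this
      exact (((hq _ h0 h0v).1 this).conj n).trans (Or.inl hn'.symm)
    · have := hqd.conj n⁻¹
      rw [inv_inv, hd0] at this
      refine (((hq _ h0 h0v).2 this).conj n).trans (Or.inl ?_)
      rw [conj_mul, hnv, ← hn']
  have hdeA : d * (d * e * A) = e * A := by rw [← mul_assoc, ← mul_assoc, hdd, one_mul]
  have hdeAv : Commute (d * e * A) v := (hdv.mul_left hev).mul_left hAv
  have hdeAR : d * e * A ∈ R := R.mul_mem (R.mul_mem hd he) hA.mem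
  refine hR.no_eich hKN hRK hP hk hk3 (K.mul_mem hc hc'K) hv (e := e * A) (R.mul_mem he hA.mem)
    (hev.mul_left hAv).symm (by rw [sq_mul_comm heA, hee, hA.sq, mul_one]) (fun q hqR hqv hqe => ?_)
    (fun q hqR hqv hqe => ?_) <;> rw [← hdeA] at hqe <;> rw [conj_conj]
  · rcases hR.comm q hqR d hd with h | h <;> rcases hR.comm q hqR _ hdeAR with h' | h'
    · exact (((key q hqR hqv).1 h').conj c).trans ((hq q hqR hqv).1 h)
    · exact absurd (Anti.comm_mul_right h h') (hR.not_anti hqe)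
    · exact absurd (h.mul_comm_right h') (hR.not_anti hqe)
    · refine (((key q hqR hqv).2 h').conj c).trans ?_
      rw [conj_mul]
      refine (((hq q hqR hqv).2 h).mul hcv).trans ?_
      rw [mul_assoc, hv.sq, mul_one]
      exact Or.inl rfl
  · rcases hR.comm q hqR d hd with h | h <;> rcases hR.comm q hqR _ hdeAR with h' | h'
    · exact absurd hqe (hR.not_anti (h.mul_right h'))
    · refine (((key q hqR hqv).2 h').conj c).trans ?_
      rw [conj_mul]
      exact ((hq q hqR hqv).1 h).mul hcv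
    · exact (((key q hqR hqv).1 h').conj c).trans ((hq q hqR hqv).2 h)
    · exact absurd hqe (hR.not_anti (h.mul_anti_right h'))

/-- An elementary element centralises only trivially. -/
theorem triv_of_fix {c n v e : GL ι F} (hc : c ∈ K) (hv : Sing R v) (he : e ∈ R) (hve : Commute v e)
    (hee : e * e = -1) (hn : Eich R n v e)
    (hfix : ∀ q ∈ R, Sgn (n * c * n⁻¹ * q * (n * c * n⁻¹)⁻¹) (c * q * c⁻¹)) (hnN : n ∈ subgroupNormalizer R) :
    Triv R c := by
  refine hR.triv_of_sq hKN hRK hctrl hP hk hk3 hc (hR.triv_sq hKN hRK hP hc hv ?_)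
  obtain ⟨q, hq, hqv, hqe⟩ := hR.exists_move hv he hve hee
  have hq' : c * q * c⁻¹ ∈ R := conj_mem (hKN hc) hq
  have h1 := hfix (n * q * n⁻¹) (conj_mem hnN hq)
  rw [show n * c * n⁻¹ * (n * q * n⁻¹) * (n * c * n⁻¹)⁻¹ = n * (c * q * c⁻¹) * n⁻¹ by group] at h1
  have h2 := h1.trans ((hn.move q hq hqv hqe).conj c)
  rw [conj_mul c] at h2
  obtain ⟨q', hq'def⟩ : ∃ q', q' = c * q * c⁻¹ := ⟨_, rfl⟩
  rw [← hq'def] at h2 hq'
  have hw : Sing R (c * v * c⁻¹) := ⟨conj_mem (hKN hc) hv.mem,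
    by rw [show c * v * c⁻¹ * (c * v * c⁻¹) = c * (v * v) * c⁻¹ by group, hv.sq, mul_one, mul_inv_cancel],
    fun h => hv.ne_one (conj_eq_one_iff.1 h), fun h => hv.ne_neg (by
      have := congrArg (fun X => c⁻¹ * X * c) h
      simpa [mul_assoc] using this)⟩
  have hvs : v * e * (v * e) = -1 := by rw [sq_mul_comm hve, hv.sq, hee, one_mul]
  have hev' : e * v * (e * v) = -1 := by rw [← hve.eq, hvs]
  have cancel : ∀ b, Sgn (n * q' * n⁻¹) (q' * b) → Sgn (c * v * c⁻¹) b := fun b h => by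
    have h' := (Sgn.refl q'⁻¹).mul (h2.symm.trans h)
    rwa [inv_mul_cancel_left, inv_mul_cancel_left] at h'
  rcases hR.comm q' hq' v hv.mem with h | h
  · rcases hR.comm q' hq' e he with h' | h'
    · have := cancel 1 (by rw [mul_one]; exact hn.same q' hq' h h')
      exact absurd this fun hs => hs.elim hw.ne_one hw.ne_neg
    · exact cancel v (hn.move q' hq' h h')
  · rcases hn.out q' hq' h with h' | h'
    · exact absurd (cancel e h') (hR.sq_one_ne hw.sq hee)
    · exact absurd (cancel (e * v) (by rwa [← mul_assoc])) (hR.sq_one_ne hw.sq hev')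

/-- An elementary element inverts the action. -/
theorem inverts {c n v e : GL ι F} (hc : c ∈ K) (hv : Sing R v) (he : e ∈ R) (hve : Commute v e)
    (hee : e * e = -1) (hn : Eich R n v e) (hnN : n ∈ subgroupNormalizer R)
    (hnK : ∀ c ∈ K, n * c * n⁻¹ ∈ K) : Triv R (n * c * n⁻¹ * c) := by
  haveI : Finite (GL ι F) := Finite.of_injective (fun g => (g : Mι)) fun _ _ => Units.ext
  let Z : Subgroup K :=
    { carrier := {a | Triv R (a : GL ι F)}
      one_mem' := fun q _ => Or.inl (by simp)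
      mul_mem' := fun ha hb => Triv.mul ha hb
      inv_mem' := fun {a} ha => Triv.inv' ha (hKN a.2) }
  haveI : Z.Normal := ⟨fun a ha b => Triv.conj' (a := (a : GL ι F)) ha (hKN b.2)⟩
  let f : K →* K :=
    { toFun := fun a => ⟨n * a * n⁻¹, hnK a a.2⟩
      map_one' := Subtype.ext (by simp)
      map_mul' := fun a b => Subtype.ext (by simp [mul_assoc]) }
  have hZf : Z ≤ Z.comap f := fun a ha => Triv.conj' (a := (a : GL ι F)) ha hnN
  let φ : K ⧸ Z →* K ⧸ Z := QuotientGroup.map Z Z f hZf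
  have hnn : Triv R (n * n) := by
    obtain ⟨u, hu, hvu⟩ := hR.exists_pair hv
    have hfe := hn.same e he hve.symm (Commute.refl e)
    refine hR.triv_of_gen hKN hRK hP (v := v) hu.mem hvu (fun q hqR hqv => ?_) ?_ hv.mem
    · rw [conj_conj]
      rcases hR.comm q hqR e he with h | h
      · exact ((hn.same q hqR hqv h).conj n).trans (hn.same q hqR hqv h)
      · refine ((hn.move q hqR hqv h).conj n).trans ?_
        rw [conj_mul]
        refine ((hn.move q hqR hqv h).mul hn.fix).trans ?_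
        rw [mul_assoc, hv.sq, mul_one]
        exact Or.inl rfl
    · rw [conj_conj]
      have hee' : Sgn (u * e * e) u := Or.inr (by rw [mul_assoc, hee, mul_neg_one])
      rcases hn.out u hu.mem hvu.symm with h | h <;> refine (h.conj n).trans ?_
      · rw [conj_mul]
        exact (h.mul hfe).trans hee'
      · rw [conj_mul, conj_mul]
        refine ((h.mul hfe).mul hn.fix).trans ?_
        rw [show u * e * v * e * v = u * e * e * (v * v) by rw [mul_assoc (u * e) v e, hve.eq]; group, hv.sq, mul_one]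
        exact hee'
  have hinv : Function.Involutive φ := by
    intro x
    obtain ⟨a, rfl⟩ := QuotientGroup.mk_surjective x
    show (QuotientGroup.mk (f (f a)) : K ⧸ Z) = QuotientGroup.mk a
    rw [QuotientGroup.eq]
    have h := (Triv.conj' (Triv.inv' hnn (mul_mem hnN hnN)) (hKN (K.inv_mem a.2)))
    have := (hnn.mul h)
    show Triv R (((n * (n * (a : GL ι F) * n⁻¹) * n⁻¹)⁻¹ * a : GL ι F))
    rw [show (n * (n * (a : GL ι F) * n⁻¹) * n⁻¹)⁻¹ * (a : GL ι F) =
      n * n * ((a : GL ι F)⁻¹ * (n * n)⁻¹ * (a : GL ι F)⁻¹⁻¹) by simp [mul_assoc]]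
    exact this
  have hfpf : MonoidHom.FixedPointFree (φ : K ⧸ Z → K ⧸ Z) := by
    intro x hx
    obtain ⟨a, rfl⟩ := QuotientGroup.mk_surjective x
    rw [QuotientGroup.eq_one_iff]
    change (QuotientGroup.mk (f a) : K ⧸ Z) = QuotientGroup.mk a at hx
    rw [QuotientGroup.eq] at hx
    refine hR.triv_of_fix hKN hRK hctrl hP hk hk3 a.2 hv he hve hee hn (fun q hq => ?_) hnN
    have := (hx q hq).conj (n * (a : GL ι F) * n⁻¹)
    simpa [f, mul_assoc] using this.symm
  have h := congrFun (hfpf.coe_eq_inv_of_involutive hinv) (QuotientGroup.mk (⟨c, hc⟩ : K))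
  change (QuotientGroup.mk (f ⟨c, hc⟩) : K ⧸ Z) = (QuotientGroup.mk (⟨c, hc⟩ : K))⁻¹ at h
  rw [← mul_eq_one_iff_eq_inv, ← QuotientGroup.mk_mul, QuotientGroup.eq_one_iff] at h
  exact h

/-- The action is trivial. -/
theorem triv {c : GL ι F} (hc : c ∈ K) : Triv R c := by
  obtain ⟨v, hv⟩ := hR.exists_sing (by
    rw [hk]; exact (show (4 : ℕ) = 2 ^ 2 by norm_num) ▸ Nat.pow_le_pow_right (by norm_num) (by omega))
  obtain ⟨e₁, e₂, h1, h2, h11, h22, h12, hv1, hv2⟩ := hR.exists_quat hk hk3 hv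
  have hn1 := hR.eich_ctrl hv.sq h1 hv1
  have hn2 := hR.eich_ctrl hv.sq h2 hv2
  have hN1 := hR.ctrl_mem_normalizer hv.mem h1 hv.sq hv1
  have hN2 := hR.ctrl_mem_normalizer hv.mem h2 hv.sq hv2
  have hK1 := hctrl v e₁ hv h1 hv1
  have hK2 := hctrl v e₂ hv h2 hv2
  obtain ⟨n₁, hn₁⟩ : ∃ n, n = ctrl v e₁ := ⟨_, rfl⟩
  obtain ⟨n₂, hn₂⟩ : ∃ n, n = ctrl v e₂ := ⟨_, rfl⟩
  rw [← hn₁] at hn1 hN1 hK1
  rw [← hn₂] at hn2 hN2 hK2
  have hcv : ∀ {q}, Commute q v → Commute (q * v) v := fun h => h.mul_left (Commute.refl v)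
  have hn3 : Eich R (n₁ * n₂) v (e₁ * e₂) := by
    refine ⟨?_, fun q hq hqv hqe => ?_, fun q hq hqv hqe => ?_, fun u hu huv => ?_⟩
    · rw [conj_conj]; exact (hn2.fix.conj n₁).trans hn1.fix
    · rw [conj_conj]
      rcases hR.comm q hq e₁ h1 with a | a <;> rcases hR.comm q hq e₂ h2 with b | b
      · exact ((hn2.same q hq hqv b).conj n₁).trans (hn1.same q hq hqv a)
      · exact absurd (Anti.comm_mul_right a b) (hR.not_anti hqe)
      · exact absurd (a.mul_comm_right b) (hR.not_anti hqe)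
      · refine ((hn2.move q hq hqv b).conj n₁).trans ?_
        rw [conj_mul]
        refine ((hn1.move q hq hqv a).mul hn1.fix).trans ?_
        rw [mul_assoc, hv.sq, mul_one]
        exact Or.inl rfl
    · rw [conj_conj]
      rcases hR.comm q hq e₁ h1 with a | a <;> rcases hR.comm q hq e₂ h2 with b | b
      · exact absurd hqe (hR.not_anti (a.mul_right b))
      · refine ((hn2.move q hq hqv b).conj n₁).trans ?_
        rw [conj_mul]
        exact (hn1.same q hq hqv a).mul hn1.fix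
      · exact ((hn2.same q hq hqv b).conj n₁).trans (hn1.move q hq hqv a)
      · exact absurd hqe (hR.not_anti (a.mul_anti_right b))
    · rw [conj_conj]
      have he2 := hn1.move e₂ h2 hv2.symm h12.symm
      rcases hn2.out u hu huv with b | b <;> rcases hn1.out u hu huv with a | a
      · refine Or.inr ((b.conj n₁).trans ?_)
        rw [conj_mul]
        exact (a.mul he2).trans (Or.inl (by simp only [mul_assoc]))
      · refine Or.inl ((b.conj n₁).trans ?_)
        rw [conj_mul]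
        refine (a.mul he2).trans (Or.inl ?_)
        rw [mul_assoc _ v, ← mul_assoc v e₂ v, hv2.eq, mul_assoc e₂ v v, hv.sq, mul_one]; simp only [mul_assoc]
      · refine Or.inl ((b.conj n₁).trans ?_)
        rw [conj_mul, conj_mul]
        refine ((a.mul he2).mul hn1.fix).trans (Or.inl ?_)
        rw [mul_assoc _ (e₂ * v) v, mul_assoc e₂ v v, hv.sq, mul_one, mul_assoc]
      · refine Or.inr ((b.conj n₁).trans ?_)
        rw [conj_mul, conj_mul]
        refine ((a.mul he2).mul hn1.fix).trans (Or.inl ?_)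
        rw [mul_assoc _ (e₂ * v) v, mul_assoc e₂ v v, hv.sq, mul_one, mul_assoc _ v e₂, hv2.eq]
        simp only [mul_assoc]
  refine hR.triv_of_sq hKN hRK hctrl hP hk hk3 hc fun q hq => ?_
  have i1 := hR.inverts hKN hRK hctrl hP hk hk3 hc hv h1 hv1 h11 hn1 hN1 hK1
  have i2 := hR.inverts hKN hRK hctrl hP hk hk3 hc hv h2 hv2 h22 hn2 hN2 hK2
  have i3 := hR.inverts hKN hRK hctrl hP hk hk3 hc hv (R.mul_mem h1 h2) (hv1.mul_right hv2)
    (by rw [sq_mul_anti h12, h11, h22, neg_mul_neg, one_mul]) hn3 (mul_mem hN1 hN2)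
    (fun a ha => by
      simpa [mul_assoc] using hK1 _ (hK2 a ha))
  have k2 := i2.conj' hN1
  have k3 : Triv R (c⁻¹ * (n₁ * c * n₁⁻¹)) := by
    have hin : n₁ * n₂ * c * (n₁ * n₂)⁻¹ * c ∈ subgroupNormalizer R :=
      mul_mem (mul_mem (mul_mem (mul_mem hN1 hN2) (hKN hc)) (inv_mem (mul_mem hN1 hN2))) (hKN hc)
    have := (i3.inv' hin).mul k2
    rwa [show (n₁ * n₂ * c * (n₁ * n₂)⁻¹ * c)⁻¹ * (n₁ * (n₂ * c * n₂⁻¹ * c) * n₁⁻¹) =
      c⁻¹ * (n₁ * c * n₁⁻¹) by group] at this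
  have k4 := ((k3.inv' (mul_mem (inv_mem (hKN hc)) (hKN (hK1 c hc)))).conj' (hKN hc)).mul i1
  rw [show c * (c⁻¹ * (n₁ * c * n₁⁻¹))⁻¹ * c⁻¹ * (n₁ * c * n₁⁻¹ * c) = c * c by group] at k4
  exact k4 q hq

end RFrame

end CfsgLib.MaxSub.SymReal
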