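import Cfsg.Agent.Lib.MaxSub.SymReal.Centre

/-!
An element of an overgroup carrying a non-central involution of the frame into the normaliser normalises.
-/

set_option autoImplicit false
set_option linter.unusedSectionVars false
set_option linter.unusedSimpArgs false
set_option linter.style.haveILetI false

namespace CfsgLib.MaxSub.SymReal

open scoped MatrixGroups
open Cfsg.Geo Matrix
open CfsgLib.MaxSub.SymEight (mem_normalizer_of_conj conj_mem)

variable {ι : Type} [Fintype ι] [DecidableEq ι] {F : Type*} [Field F]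

local notation "Mι" => Matrix ι ι F

theorem ctrl_mul {x q q' : GL ι F} (h2 : (2 : F) ≠ 0) (hx : x * x = 1) (h : Commute x q) (h' : Commute x q') :
    ctrl x q * ctrl x q' = ctrl x (q * q') := Units.ext (by
  rw [Units.val_mul, ctrl_val h2 hx h, ctrl_val h2 hx h', ctrl_val h2 hx (h.mul_right h'), Units.val_mul,
    ctrlM_mul h2 (by rw [← Units.val_mul, hx, Units.val_one]) (congrArg Units.val h.eq)])

theorem ctrl_neg_mul {x q : GL ι F} (h2 : (2 : F) ≠ 0) (hx : x * x = 1) (h : Commute x q) :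
    ctrl (-x) q * ctrl x q = q := by
  have hnx : -x * -x = 1 := by rw [neg_mul_neg, hx]
  have e : (x : Mι) * (x : Mι) = 1 := by rw [← Units.val_mul, hx, Units.val_one]
  have e' : ∀ A : Mι, (x : Mι) * ((x : Mι) * A) = A := fun A => by rw [← mul_assoc, e, Matrix.one_mul]
  have hq : (q : Mι) * (x : Mι) = (x : Mι) * (q : Mι) := (congrArg Units.val h.eq).symm
  have hq' : ∀ A : Mι, (q : Mι) * ((x : Mι) * A) = (x : Mι) * ((q : Mι) * A) := fun A => by
    rw [← mul_assoc, hq, mul_assoc]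
  refine Units.ext ?_
  rw [Units.val_mul, ctrl_val h2 hnx h.neg_left, ctrl_val h2 hx h, ctrlM, ctrlM, Units.val_neg]
  simp only [Matrix.smul_mul, Matrix.mul_smul, smul_smul, mul_add, add_mul, sub_mul, mul_sub, Matrix.one_mul,
    Matrix.mul_one, mul_assoc, neg_mul, mul_neg, hq, hq', e, e']
  match_scalars <;> field_simp <;> ring

theorem ctrl_neg_one {x : GL ι F} (h2 : (2 : F) ≠ 0) (hx : x * x = 1) : ctrl x (-1) = x := by
  refine Units.ext ?_
  rw [ctrl_val h2 hx (Commute.neg_one_right x), ctrlM, Units.val_neg, Units.val_one, mul_neg_one]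
  match_scalars <;> field_simp <;> ring

theorem neg_sing {R : Subgroup (GL ι F)} (hR : RFrame R) {x : GL ι F} (h : Sing R x) : Sing R (-x) :=
  ⟨hR.neg_mem h.mem, by rw [neg_mul_neg, h.sq], fun e => h.ne_neg (by rw [← e, neg_neg]),
    fun e => h.ne_one (neg_inj.1 e)⟩

variable [Finite F] {R M : Subgroup (GL ι F)}

theorem Over.card16 (h : Over R M) : 16 ≤ Fintype.card ι := by
  obtain ⟨k, hk4, hk⟩ := h.deg
  rw [hk, show (16 : ℕ) = 2 ^ 4 by norm_num]
  exact Nat.pow_le_pow_right (by norm_num) hk4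

/-- Elementary elements permute the non-central involutions transitively. -/
theorem Over.move (h : Over R M) {z y : GL ι F} (hz : Sing R z) (hy : Sing R y) :
    ∃ n ∈ M, n ∈ subgroupNormalizer R ∧ Sgn (n * z * n⁻¹) y := by
  have hR := h.frame
  have step : ∀ z y : GL ι F, Sing R z → Sing R y → Commute z y →
      ∃ n ∈ M, n ∈ subgroupNormalizer R ∧ Sgn (n * z * n⁻¹) y := by
    intro z y hz hy hc
    by_cases hs : Sgn z y
    · exact ⟨1, M.one_mem, one_mem _, by rw [one_mul, inv_one, mul_one]; exact hs⟩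
    have hzy : z * (z * y) = y := by rw [← mul_assoc, hz.sq, one_mul]
    have hA : Sing R (z * y) := ⟨R.mul_mem hz.mem hy.mem, by rw [sq_mul_comm hc, hz.sq, hy.sq, one_mul],
      fun e => hs (Or.inl (by rw [e, mul_one] at hzy; exact hzy)),
      fun e => hs (Or.inr (by rw [e, mul_neg, mul_one] at hzy; rw [← hzy, neg_neg]))⟩
    have hAz : z * y * z = y := by rw [hc.eq, mul_assoc, hz.sq, mul_one]
    obtain ⟨c, hc', hcA, hcz⟩ := hR.exists_sign hA.mem hz.mem hz.ne_one hz.ne_neg (by rw [hAz]; exact hy.ne_one)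
      (by rw [hAz]; exact hy.ne_neg)
    refine ⟨ctrl (z * y) c, h.ctrl_mem hA hc' hcA.symm,
      hR.ctrl_mem_normalizer hA.mem hc' hA.sq hcA.symm, Or.inl ?_⟩
    rw [ctrl_conj_B hR.two hA.sq hcA.symm ((Commute.refl z).mul_right hc) hcz.symm, hzy]
  rcases hR.comm z hz.mem y hy.mem with hc | hc
  · exact step z y hz hy hc
  obtain ⟨d, R', ψ, hd, hR', hψ, hψn, hmem, -⟩ := hR.exists_sub hz.mem hy.mem hz.sq hy.sq hc
  obtain ⟨w', hw'⟩ := hR'.exists_sing (by have := h.card16; rw [Fintype.card_fin]; omega)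
  obtain ⟨hw, hwz, hwy⟩ := hmem w' hw'.mem
  have hwS : Sing R (ψ w') := ⟨hw, by rw [← map_mul, hw'.sq, map_one],
    fun e => hw'.ne_one (hψ (by rw [e, map_one])), fun e => hw'.ne_neg (hψ (by rw [e, hψn, map_one]))⟩
  obtain ⟨n₁, h1, h1', e1⟩ := step z _ hz hwS hwz.symm
  obtain ⟨n₂, h2, h2', e2⟩ := step _ y hwS hy hwy
  exact ⟨n₂ * n₁, M.mul_mem h2 h1, mul_mem h2' h1', by rw [conj_conj]; exact (e1.conj n₂).trans e2⟩

theorem sing_conj (hR : RFrame R) {z g : GL ι F} (hz : Sing R z) (hy : g * z * g⁻¹ ∈ R) : Sing R (g * z * g⁻¹) :=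
  ⟨hy, by rw [show g * z * g⁻¹ * (g * z * g⁻¹) = g * (z * z) * g⁻¹ by group, hz.sq, mul_one, mul_inv_cancel],
    fun e => hz.ne_one (conj_eq_one_iff.1 e), fun e => hz.ne_neg (by
      have := congrArg (fun X => g⁻¹ * X * g) e
      simpa [mul_assoc] using this)⟩

/-- An element carrying a non-central involution into the frame normalises. -/
theorem Over.mem_of_maps (h : Over R M) {z g : GL ι F} (hz : Sing R z) (hg : g ∈ M) (hy : g * z * g⁻¹ ∈ R) :
    g ∈ subgroupNormalizer R := by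
  obtain ⟨n, hn, hn', e⟩ := h.move hz (sing_conj h.frame hz hy)
  have hc : n⁻¹ * g ∈ subgroupNormalizer R := h.centre hz (M.mul_mem (M.inv_mem hn) hg) (by
    rw [conj_conj]
    have := (e.symm).conj n⁻¹
    simpa [mul_assoc] using this)
  simpa using mul_mem hn' hc

/-- Two elements carried into the normaliser, the second into the frame. -/
theorem Over.mem_of_two (h : Over R M) {z g a : GL ι F} (hz : Sing R z) (hg : g ∈ M)
    (hy : g * z * g⁻¹ ∈ subgroupNormalizer R) (ha : a ∈ R) (haz : Commute a z) (ha1 : ¬ Sgn a 1)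
    (ha2 : ¬ Sgn a z) (hY : g * a * g⁻¹ ∈ R) : g ∈ subgroupNormalizer R := by
  classical
  haveI : Finite (GL ι F) := Finite.of_injective (fun g => (g : Mι)) fun _ _ => Units.ext
  have hR := h.frame
  obtain ⟨k, hk4, hk⟩ := h.deg
  rcases hR.sq a ha with haa | haa
  · exact h.mem_of_maps ⟨ha, haa, fun e => ha1 (Or.inl e), fun e => ha1 (Or.inr e)⟩ hg hY
  obtain ⟨y, hydef⟩ : ∃ y, y = g * z * g⁻¹ := ⟨_, rfl⟩
  obtain ⟨Y, hYdef⟩ : ∃ Y, Y = g * a * g⁻¹ := ⟨_, rfl⟩
  rw [← hydef] at hy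
  rw [← hYdef] at hY
  have hyy : y * y = 1 := by
    rw [hydef, show g * z * g⁻¹ * (g * z * g⁻¹) = g * (z * z) * g⁻¹ by group, hz.sq, mul_one, mul_inv_cancel]
  have hYY : Y * Y = -1 := by
    rw [hYdef, show g * a * g⁻¹ * (g * a * g⁻¹) = g * (a * a) * g⁻¹ by group, haa, mul_neg, neg_mul, mul_one,
      mul_inv_cancel]
  have hyY : Commute y Y := by rw [hydef, hYdef]; exact commute_conj haz.symm g
  have hza : (z * a : GL ι F) ≠ 1 ∧ z * a ≠ -1 := by
    constructor <;> intro e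
    · exact ha2 (Or.inl (by rw [← one_mul a, ← hz.sq, mul_assoc, e, mul_one]))
    · exact ha2 (Or.inr (by rw [← one_mul a, ← hz.sq, mul_assoc, e, mul_neg, mul_one]))
  have ht1 : (y : Mι).trace = 0 := by
    rw [hydef, Units.val_mul, Units.val_mul, Matrix.trace_units_conj, hR.trace_zero hz.mem hz.ne_one hz.ne_neg]
  have ht2 : ((y * Y : GL ι F) : Mι).trace = 0 := by
    rw [hydef, hYdef, show g * z * g⁻¹ * (g * a * g⁻¹) = g * (z * a) * g⁻¹ by group, Units.val_mul, Units.val_mul,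
      Matrix.trace_units_conj, hR.trace_zero (R.mul_mem hz.mem ha) hza.1 hza.2]
  have hYN := hR.le_normalizer hY
  obtain ⟨d, hd, hdy, hdY⟩ : ∃ d ∈ R, Anti d y ∧ Commute d Y := by
    obtain ⟨d₁, hd₁, hd₁y⟩ := hR.exists_anti_of_trace hk hy ht1
    rcases hR.comm d₁ hd₁ Y hY with hc | hc
    · exact ⟨d₁, hd₁, hd₁y, hc⟩
    obtain ⟨r, hr, hryY⟩ := hR.exists_anti_of_trace hk (mul_mem hy hYN) ht2
    rcases hR.comm r hr Y hY with hc' | hc'
    · exact ⟨r, hr, by simpa using hryY.mul_comm_right hc'.inv_right, hc'⟩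
    · exact ⟨d₁ * r, R.mul_mem hd₁ hr,
        hd₁y.mul_comm_left (by simpa using hryY.mul_anti_right hc'.inv_right), hc.mul_anti_left hc'⟩
  -- an involution commuting with both
  obtain ⟨b, hb, hby, hbY⟩ : ∃ b, Sing R b ∧ Commute b y ∧ Commute b Y := by
    have h1 := card_ec (S := sc R y) (y := y) fun r hr => hr.2
    have h2 := card_ec (S := ec (sc R y) y) (y := Y) fun r hr => hR.comm r (mem_ec.1 hr).1.1 Y hY
    have h3 := hR.card_sc hy hk fun r _ => Or.inl (by rw [hyy, one_mul, inv_one, mul_one])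
    have h4 : 2 ^ 5 ≤ 2 ^ (k + 1) := Nat.pow_le_pow_right (by norm_num) (by omega)
    obtain ⟨e, he, hne⟩ := exists_not_mem (S := ec (ec (sc R y) y) Y) ({1, -1, Y, -Y} : Finset (GL ι F))
      (Finset.card_le_four.trans_lt (by omega))
    simp only [Finset.mem_insert, Finset.mem_singleton, not_or] at hne
    obtain ⟨n1, n2, n3, n4⟩ := hne
    obtain ⟨he', heY⟩ := mem_ec.1 he
    obtain ⟨heR, hey⟩ := mem_ec.1 he'
    rcases hR.sq e heR.1 with hee | hee
    · exact ⟨e, ⟨heR.1, hee, n1, n2⟩, hey, heY⟩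
    have hYi : Y⁻¹ = -Y := inv_eq_of_mul_eq_one_left (by rw [neg_mul, hYY, neg_neg])
    refine ⟨e * Y, ⟨R.mul_mem heR.1 hY, by rw [sq_mul_comm heY, hee, hYY, neg_mul_neg, one_mul], fun e' => ?_,
      fun e' => ?_⟩, hey.mul_left hyY.symm, heY.mul_left (Commute.refl Y)⟩
    · exact n4 ((eq_inv_of_mul_eq_one_left e').trans hYi)
    · refine n3 ?_
      rw [eq_mul_inv_iff_mul_eq.2 e', hYi, neg_mul_neg, one_mul]
  have hT : ctrl y Y ∈ M := by
    have e : g * ctrl z a * g⁻¹ = ctrl y Y := by rw [ctrl_conj hR.two hz.sq haz.symm, hydef, hYdef]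
    exact e ▸ M.mul_mem (M.mul_mem hg (h.ctrl_mem hz ha haz.symm)) (M.inv_mem hg)
  have hTN : ctrl y Y ∈ subgroupNormalizer R := by
    refine h.centre hb hT (Or.inl ?_)
    rw [← (commute_ctrl hR.two hyy hyY hby hbY).eq, mul_inv_cancel_right]
  have hconj := conj_mem hTN hd
  rw [(ctrl_conj_C hR.two hyy hyY hdy hdY).2 hYY] at hconj
  exact h.mem_of_maps hz hg (hydef ▸ (R.mul_mem_cancel_left (R.mul_mem hd hY)).1 hconj)

/-- The datum attached to an element commuting with `z` and carried to an element centralising `b`. -/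
theorem Over.datum (h : Over R M) {z g a b : GL ι F} (hz : Sing R z) (hg : g ∈ M)
    (hgN : g ∉ subgroupNormalizer R) (hy : g * z * g⁻¹ ∈ subgroupNormalizer R) (ha : a ∈ R) (haz : Commute a z)
    (ha1 : ¬ Sgn a 1) (ha2 : ¬ Sgn a z) (hb : Sing R b) (hby : Commute b (g * z * g⁻¹))
    (hba : Commute b (g * a * g⁻¹)) :
    ∃ w u, Sing R w ∧ u ∈ R ∧ Commute w (g * z * g⁻¹) ∧
      ctrl (-(g * z * g⁻¹)) w ∈ subgroupNormalizer R ∧
      Sgn (g * a * g⁻¹) (u * (ctrl (-(g * z * g⁻¹)) w)⁻¹) := by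
  have hR := h.frame
  obtain ⟨k, hk4, hk⟩ := h.deg
  obtain ⟨y, hydef⟩ : ∃ y, y = g * z * g⁻¹ := ⟨_, rfl⟩
  obtain ⟨Y, hYdef⟩ : ∃ Y, Y = g * a * g⁻¹ := ⟨_, rfl⟩
  rw [← hydef] at hy hby ⊢
  rw [← hYdef] at hba ⊢
  have hyR : y ∉ R := fun hyR => hgN (h.mem_of_maps hz hg (hydef ▸ hyR))
  have hyy : y * y = 1 := by
    rw [hydef, show g * z * g⁻¹ * (g * z * g⁻¹) = g * (z * z) * g⁻¹ by group, hz.sq, mul_one, mul_inv_cancel]
  have hYY : Y * Y = 1 ∨ Y * Y = -1 := by
    rw [hYdef, show g * a * g⁻¹ * (g * a * g⁻¹) = g * (a * a) * g⁻¹ by group]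
    rcases hR.sq a ha with e | e <;> rw [e]
    · exact Or.inl (by rw [mul_one, mul_inv_cancel])
    · exact Or.inr (by rw [mul_neg, neg_mul, mul_one, mul_inv_cancel])
  have hyY : Commute y Y := by rw [hydef, hYdef]; exact commute_conj haz.symm g
  have hYM : Y ∈ M := hYdef ▸ M.mul_mem (M.mul_mem hg (h.R_le ha)) (M.inv_mem hg)
  have hYN : Y ∈ subgroupNormalizer R := h.centre hb hYM (Or.inl (by rw [hba.symm.eq, mul_inv_cancel_right]))
  have hT : ctrl y Y ∈ M := by
    have e : g * ctrl z a * g⁻¹ = ctrl y Y := by rw [ctrl_conj hR.two hz.sq haz.symm, hydef, hYdef]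
    exact e ▸ M.mul_mem (M.mul_mem hg (h.ctrl_mem hz ha haz.symm)) (M.inv_mem hg)
  have hTN : ctrl y Y ∈ subgroupNormalizer R := by
    refine h.centre hb hT (Or.inl ?_)
    rw [← (commute_ctrl hR.two hyy hyY hby hba).eq, mul_inv_cancel_right]
  obtain ⟨d, hd, hdy⟩ := hR.exists_anti_of_trace hk hy (by
    rw [hydef, Units.val_mul, Units.val_mul, Matrix.trace_units_conj, hR.trace_zero hz.mem hz.ne_one hz.ne_neg])
  obtain ⟨w, hwdef⟩ : ∃ w, w = Y⁻¹ * d⁻¹ * Y * d := ⟨_, rfl⟩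
  have hwR : w ∈ R := hwdef ▸ R.mul_mem (by simpa using conj_mem (inv_mem hYN) (R.inv_mem hd)) hd
  have hdc : d⁻¹ * Y * d = Y * w := by rw [hwdef]; group
  have hyd : Commute (d⁻¹ * Y * d) y := by
    have h1 := commute_conj hyY.symm d⁻¹
    rw [inv_inv, show d⁻¹ * y * d = -y by
      have := hdy.inv_left.conj_eq; rwa [inv_inv] at this] at h1
    exact (Commute.neg_right_iff).1 h1
  have hwy : Commute w y := by
    rw [show w = Y⁻¹ * (d⁻¹ * Y * d) by rw [hwdef]; group]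
    exact hyY.symm.inv_left.mul_left hyd
  have hW0 : Y ∈ R ∨ Y * y ∈ R → False := by
    rintro (hin | hin)
    · exact hgN (h.mem_of_two hz hg (hydef ▸ hy) ha haz ha1 ha2 (hYdef ▸ hin))
    · refine hgN (h.mem_of_two hz hg (hydef ▸ hy) (R.mul_mem ha hz.mem) (haz.mul_left (Commute.refl z))
        (fun hs => ha2 ?_) (fun hs => ha1 ?_) ?_)
      · have := hs.mul (Sgn.refl z)
        rwa [mul_assoc, hz.sq, mul_one, one_mul] at this
      · have := hs.mul (Sgn.refl z)
        rwa [mul_assoc, hz.sq, mul_one] at this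
      · rwa [show g * (a * z) * g⁻¹ = Y * y by rw [hYdef, hydef]; group]
  have hw1 : ¬ Sgn w 1 := by
    intro hs
    have hdY : Commute d Y ∨ Anti d Y := by
      rcases hs with e | e <;> rw [e] at hdc
      · refine Or.inl ?_
        rw [mul_one] at hdc
        have h1 : Y * d = d * Y := by
          calc Y * d = d * (d⁻¹ * Y * d) := by group
            _ = d * Y := by rw [hdc]
        exact h1.symm
      · refine Or.inr (Anti.symm ?_)
        rw [mul_neg_one] at hdc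
        show _ = _
        calc Y * d = d * (d⁻¹ * Y * d) := by group
          _ = -(d * Y) := by rw [hdc, mul_neg]
    have hc := conj_mem hTN hd
    apply hW0
    rcases hdY with e | e <;> rcases hYY with e' | e'
    · rw [(ctrl_conj_C hR.two hyy hyY hdy e).1 e'] at hc
      exact Or.inl ((R.mul_mem_cancel_left hd).1 hc)
    · rw [(ctrl_conj_C hR.two hyy hyY hdy e).2 e', mul_assoc] at hc
      exact Or.inr ((R.mul_mem_cancel_left hd).1 hc)
    · rw [(ctrl_conj_D hR.two hyy hyY hdy e).1 e', mul_assoc] at hc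
      have := hR.neg_mem hc
      rw [neg_neg] at this
      exact Or.inr ((R.mul_mem_cancel_left hd).1 this)
    · rw [(ctrl_conj_D hR.two hyy hyY hdy e).2 e'] at hc
      have := hR.neg_mem hc
      rw [neg_neg] at this
      exact Or.inl ((R.mul_mem_cancel_left hd).1 this)
  have hYw : Y * w * Y⁻¹ = w⁻¹ := by
    rcases hYY with e | e
    · have hi : Y⁻¹ = Y := inv_eq_of_mul_eq_one_left e
      rw [hwdef, show Y * (Y⁻¹ * d⁻¹ * Y * d) * Y⁻¹ = d⁻¹ * Y * d * Y⁻¹ by group,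
        show (Y⁻¹ * d⁻¹ * Y * d)⁻¹ = d⁻¹ * Y⁻¹ * d * Y by group, hi]
    · have hi : Y⁻¹ = -Y := inv_eq_of_mul_eq_one_left (by rw [neg_mul, e, neg_neg])
      rw [hwdef, show Y * (Y⁻¹ * d⁻¹ * Y * d) * Y⁻¹ = d⁻¹ * Y * d * Y⁻¹ by group,
        show (Y⁻¹ * d⁻¹ * Y * d)⁻¹ = d⁻¹ * Y⁻¹ * d * Y by group, hi]
      simp only [mul_neg, neg_mul, mul_assoc]
  have hww : w * w = 1 := by
    refine (hR.sq w hwR).resolve_right fun e => hyR ?_
    have hi : w⁻¹ = -w := inv_eq_of_mul_eq_one_left (by rw [neg_mul, e, neg_neg])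
    rw [hi] at hYw
    have hc := conj_mem hTN hwR
    rw [ctrl_conj_B hR.two hyy hyY hwy (anti_of_conj_eq hYw).symm] at hc
    exact (R.mul_mem_cancel_left hwR).1 hc
  have hYwc : Commute Y w := commute_of_conj_eq (hYw.trans (inv_eq_of_mul_eq_one_left hww))
  have hny : -y * -y = 1 := by rw [neg_mul_neg, hyy]
  have hu : d⁻¹ * (ctrl y Y * d * (ctrl y Y)⁻¹) ∈ R := R.mul_mem (R.inv_mem hd) (conj_mem hTN hd)
  have key : d⁻¹ * (ctrl y Y * d * (ctrl y Y)⁻¹) = Y * (ctrl (-y) w * (ctrl y (Y * Y))⁻¹) := by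
    have e1 : d⁻¹ * ctrl y Y * d = ctrl (-y) (Y * w) := by
      have := ctrl_conj hR.two hyy hyY d⁻¹
      rw [inv_inv, show d⁻¹ * y * d = -y by
        have h' := hdy.inv_left.conj_eq; rwa [inv_inv] at h', hdc] at this
      exact this
    have e2 : ctrl y Y * ctrl y Y = ctrl y (Y * Y) := ctrl_mul hR.two hyy hyY hyY
    have hcw : Commute (ctrl (-y) w) (ctrl y Y) :=
      commute_ctrl hR.two hyy hyY
        (ctrl_self_commute hR.two hny hwy.symm.neg_left |>.symm.neg_right |> fun h' => by simpa using h')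
        (commute_ctrl hR.two hny hwy.symm.neg_left hyY.symm.neg_right hYwc).symm
    rw [show d⁻¹ * (ctrl y Y * d * (ctrl y Y)⁻¹) = d⁻¹ * ctrl y Y * d * (ctrl y Y)⁻¹ by group, e1,
      ← ctrl_mul hR.two hny hyY.neg_left hwy.symm.neg_left, mul_assoc]
    calc ctrl (-y) Y * (ctrl (-y) w * (ctrl y Y)⁻¹)
        = ctrl (-y) Y * ctrl y Y * ((ctrl y Y)⁻¹ * ctrl (-y) w * (ctrl y Y)⁻¹) := by group
      _ = Y * (ctrl (-y) w * (ctrl y (Y * Y))⁻¹) := by
          rw [ctrl_neg_mul hR.two hyy hyY, ← hcw.inv_right.eq, ← e2]; group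
  obtain ⟨w₁, hw₁, hYu⟩ : ∃ w₁, Sgn w₁ w ∧
      Sgn (d⁻¹ * (ctrl y Y * d * (ctrl y Y)⁻¹)) (Y * ctrl (-y) w₁) := by
    rw [key]
    rcases hYY with e | e <;> rw [e]
    · refine ⟨w, Sgn.refl w, Or.inl ?_⟩
      have : ctrl y (1 : GL ι F) = 1 := Units.ext (by
        rw [ctrl_val hR.two hyy (Commute.one_right y), Units.val_one, ctrlM_one hR.two])
      rw [this, inv_one, mul_one]
    · refine ⟨-w, Or.inr rfl, Or.inr ?_⟩
      have hm : ctrl (-y) w * ctrl (-y) (-1) = ctrl (-y) (-w) := by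
        rw [ctrl_mul hR.two hny hwy.symm.neg_left (Commute.neg_one_right _), mul_neg, mul_one]
      rw [ctrl_neg_one hR.two hny] at hm
      rw [ctrl_neg_one hR.two hyy, inv_eq_of_mul_eq_one_left hyy, ← hm, mul_neg, mul_neg, neg_neg]
  have hw₁S : Sing R w₁ := by
    refine ⟨hR.mem_of_sgn hwR hw₁, by rw [hR.sq_of_sgn hw₁, hww], fun e => hw1 ?_, fun e => hw1 ?_⟩
    · exact hw₁.symm.trans (Or.inl e)
    · exact hw₁.symm.trans (Or.inr e)
  have hw₁y : Commute w₁ y := by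
    rcases hw₁ with rfl | rfl
    · exact hwy
    · exact hwy.neg_left
  refine ⟨w₁, _, hw₁S, hu, hw₁y, ?_, ?_⟩
  · have h1 : Sgn (Y⁻¹ * (d⁻¹ * (ctrl y Y * d * (ctrl y Y)⁻¹))) (ctrl (-y) w₁) := by
      have := (Sgn.refl Y⁻¹).mul hYu
      rwa [inv_mul_cancel_left Y (ctrl (-y) w₁)] at this
    have hin : Y⁻¹ * (d⁻¹ * (ctrl y Y * d * (ctrl y Y)⁻¹)) ∈ subgroupNormalizer R :=
      mul_mem (inv_mem hYN) (hR.le_normalizer hu)
    rcases h1 with e | e
    · exact e ▸ hin
    · rw [← neg_neg (ctrl (-y) w₁), ← e, ← neg_one_mul]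
      exact mul_mem (hR.le_normalizer hR.neg_one) hin
  · have := hYu.mul (Sgn.refl (ctrl (-y) w₁)⁻¹)
    rw [mul_inv_cancel_right] at this
    exact this.symm

/-- The kernel of an involution of the normaliser has index at most four and contains the new involution. -/
theorem RFrame.rank (hR : RFrame R) {y w : GL ι F} (hy : y ∈ subgroupNormalizer R) (hyy : y * y = 1) (hyR : y ∉ R)
    (hw : Sing R w) (hwy : Commute w y) (hK : ctrl (-y) w ∈ subgroupNormalizer R) :
    Nat.card R ≤ 4 * Nat.card (sc R y) ∧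
      ((⟨w, hw.mem⟩ : R) : R ⧸ Subgroup.center R) ∈ (hR.bracket hy).range := by
  have h2 := hR.two
  have hny : -y * -y = 1 := by rw [neg_mul_neg, hyy]
  obtain ⟨K, hKdef⟩ : ∃ K, K = ctrl (-y) w := ⟨_, rfl⟩
  rw [← hKdef] at hK
  obtain ⟨q, hq, hqw⟩ := hR.exists_anti hw.mem hw.ne_one hw.ne_neg
  obtain ⟨s, hsdef⟩ : ∃ s, s = q * K * q⁻¹ * K⁻¹ := ⟨_, rfl⟩
  have hs : s ∈ R := by
    rw [hsdef, mul_assoc q, mul_assoc q]; exact R.mul_mem hq (conj_mem hK (R.inv_mem hq))
  have ew : (w : Mι) * (w : Mι) = 1 := by rw [← Units.val_mul, hw.sq, Units.val_one]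
  have eyw : (y : Mι) * (w : Mι) = (w : Mι) * (y : Mι) := (congrArg Units.val hwy.eq).symm
  have hKm : (K : Mι) = ctrlM (-(y : Mι)) (w : Mι) := by
    rw [hKdef, ctrl_val h2 hny hwy.symm.neg_left, Units.val_neg]
  have ew' : ∀ A : Mι, (w : Mι) * ((w : Mι) * A) = A := fun A => by rw [← mul_assoc, ew, Matrix.one_mul]
  have eyw' : ∀ A : Mι, (y : Mι) * ((w : Mι) * A) = (w : Mι) * ((y : Mι) * A) := fun A => by
    rw [← mul_assoc, eyw, mul_assoc]
  have hKp : (K : Mι) * (1 + (w : Mι)) = 1 + (w : Mι) := by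
    rw [hKm, ctrlM, Matrix.smul_mul]
    simp only [add_mul, sub_mul, mul_add, mul_sub, Matrix.one_mul, Matrix.mul_one, mul_assoc, neg_mul,
      mul_neg, sub_neg_eq_add, eyw, eyw', ew, ew']
    match_scalars <;> field_simp <;> ring
  have hKmn : (K : Mι) * (1 + (-w : GL ι F)) = -((y : Mι) * (1 + (-w : GL ι F))) := by
    rw [hKm, ctrlM, Matrix.smul_mul]
    simp only [Units.val_neg, add_mul, sub_mul, mul_add, mul_sub, Matrix.one_mul, Matrix.mul_one, mul_assoc,
      neg_mul, mul_neg, sub_neg_eq_add, eyw, eyw', ew, ew']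
    match_scalars <;> field_simp <;> ring
  have hqc : (q : Mι) * (1 + (w : Mι)) = (1 + ((-w : GL ι F) : Mι)) * (q : Mι) := by
    rw [Units.val_neg, mul_add, add_mul, Matrix.mul_one, Matrix.one_mul, neg_mul, ← Units.val_mul, hqw,
      Units.val_neg, Units.val_mul]
  have hqc' : ((q⁻¹ : GL ι F) : Mι) * (1 + ((-w : GL ι F) : Mι)) = (1 + (w : Mι)) * ((q⁻¹ : GL ι F) : Mι) := by
    calc ((q⁻¹ : GL ι F) : Mι) * (1 + ((-w : GL ι F) : Mι))
        = ((q⁻¹ : GL ι F) : Mι) * ((1 + ((-w : GL ι F) : Mι)) * (q : Mι)) * ((q⁻¹ : GL ι F) : Mι) := by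
          rw [← mul_assoc, mul_assoc _ (q : Mι), Units.mul_inv, Matrix.mul_one]
      _ = _ := by rw [← hqc, ← mul_assoc, Units.inv_mul, Matrix.one_mul]
  obtain ⟨r₀, hr₀, h0⟩ : ∃ r ∈ R, (y : Mι) * (1 + ((-w : GL ι F) : Mι)) = (r : Mι) * (1 + ((-w : GL ι F) : Mι)) := by
    refine ⟨-s⁻¹, hR.neg_mem (R.inv_mem hs), ?_⟩
    have e1 : ((q * K * q⁻¹ : GL ι F) : Mι) * (1 + ((-w : GL ι F) : Mι)) = 1 + ((-w : GL ι F) : Mι) := by
      rw [Units.val_mul, Units.val_mul, mul_assoc, hqc', ← mul_assoc, mul_assoc (q : Mι), hKp, hqc, mul_assoc,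
        Units.mul_inv, Matrix.mul_one]
    have e2 : q * K * q⁻¹ = s * K := by rw [hsdef]; group
    rw [e2, Units.val_mul, mul_assoc, hKmn, mul_neg] at e1
    rw [Units.val_neg s⁻¹, neg_mul]
    have e3 : -((s : Mι) * ((y : Mι) * (1 + ((-w : GL ι F) : Mι)))) = 1 + ((-w : GL ι F) : Mι) := e1
    nth_rewrite 2 [← e3]
    rw [mul_neg, neg_neg, Units.inv_mul_cancel_left]
  obtain ⟨r₁, hr₁, h1⟩ : ∃ r ∈ R, (y : Mι) * (1 + (w : Mι)) = (r : Mι) * (1 + (w : Mι)) := by
    refine ⟨y * q * y⁻¹ * r₀ * q⁻¹, R.mul_mem (R.mul_mem (conj_mem hy hq) hr₀) (R.inv_mem hq), ?_⟩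
    have e1 : (1 : Mι) + (w : Mι) = (q : Mι) * (1 + ((-w : GL ι F) : Mι)) * ((q⁻¹ : GL ι F) : Mι) := by
      rw [mul_assoc, ← mul_one (1 + ((-w : GL ι F) : Mι))]
      rw [Matrix.mul_one]
      have hq2 : (q : Mι) * (1 + ((-w : GL ι F) : Mι)) = (1 + (w : Mι)) * (q : Mι) := by
        rw [Units.val_neg, mul_add, add_mul, Matrix.mul_one, Matrix.one_mul, mul_neg, ← Units.val_mul, hqw,
          Units.val_neg, Units.val_mul, neg_neg]
      rw [← mul_assoc, hq2, mul_assoc, Units.mul_inv, Matrix.mul_one]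
    calc (y : Mι) * (1 + (w : Mι))
        = ((y * q * y⁻¹ : GL ι F) : Mι) * ((y : Mι) * (1 + ((-w : GL ι F) : Mι))) * ((q⁻¹ : GL ι F) : Mι) := by
          rw [e1, Units.val_mul, Units.val_mul]
          simp only [mul_assoc, Units.inv_mul_cancel_left]
      _ = ((y * q * y⁻¹ * r₀ * q⁻¹ : GL ι F) : Mι) * (1 + (w : Mι)) := by
          rw [h0, e1]; simp only [Units.val_mul, mul_assoc, Units.inv_mul_cancel_left]
  have hv2 : ∀ {v : GL ι F}, Sing R v → (1 + (v : Mι)) * (1 + (v : Mι)) = (2 : F) • (1 + (v : Mι)) := fun {v} hv => by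
    rw [mul_add, add_mul, add_mul, ← Units.val_mul v v, hv.sq, Units.val_one, two_smul]
    simp only [Matrix.one_mul, Matrix.mul_one]; abel
  have hcomm : ∀ {v r : GL ι F}, Sing R v → Commute y v → r ∈ R →
      (y : Mι) * (1 + (v : Mι)) = (r : Mι) * (1 + (v : Mι)) → Commute r v := by
    intro v r hv hyv hr e
    refine (hR.comm r hr v hv.mem).resolve_right fun ha => ?_
    have e1 : (y : Mι) * (1 + (v : Mι)) = (1 - (v : Mι)) * (r : Mι) := by
      rw [e, mul_add, sub_mul, Matrix.mul_one, Matrix.one_mul, ← Units.val_mul, ha, Units.val_neg, Units.val_mul,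
        sub_eq_add_neg]
    have e2 : (1 + (v : Mι)) * (y : Mι) = (y : Mι) * (1 + (v : Mι)) := by
      rw [mul_add, add_mul, Matrix.one_mul, Matrix.mul_one, ← Units.val_mul v y, ← hyv.eq, Units.val_mul]
    have e3 : (2 : F) • ((y : Mι) * (1 + (v : Mι))) = 0 := by
      rw [← Matrix.mul_smul, ← hv2 hv, ← mul_assoc, ← e2, mul_assoc, e1, ← mul_assoc,
        show (1 + (v : Mι)) * (1 - (v : Mι)) = 0 by
          rw [mul_sub, add_mul, add_mul, ← Units.val_mul v v, hv.sq, Units.val_one]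
          simp only [Matrix.one_mul, Matrix.mul_one]; abel,
        zero_mul]
    have e4 := (smul_eq_zero.1 e3).resolve_left h2
    refine hv.ne_neg (Units.ext ?_)
    have e5 : (1 : Mι) + (v : Mι) = 0 := by
      calc (1 : Mι) + (v : Mι) = ((y⁻¹ : GL ι F) : Mι) * ((y : Mι) * (1 + (v : Mι))) := by
            rw [Units.inv_mul_cancel_left]
        _ = 0 := by rw [e4, mul_zero]
    rw [eq_neg_of_add_eq_zero_right e5, Units.val_neg, Units.val_one]
  have hr₀w : Commute r₀ (-w) := hcomm (neg_sing hR hw) hwy.symm.neg_right hr₀ h0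
  have hr₁w : Commute r₁ w := hcomm hw hwy.symm hr₁ h1
  have hr₀w' : Commute r₀ w := (Commute.neg_right_iff).1 hr₀w
  -- conjugation on each half
  have hact : ∀ {v r : GL ι F}, (y : Mι) * (1 + (v : Mι)) = (r : Mι) * (1 + (v : Mι)) → ∀ {q : GL ι F},
      Commute q v → ∀ ε : F, (r : Mι) * (q : Mι) = ε • ((q : Mι) * (r : Mι)) →
      (y : Mι) * (q : Mι) * (1 + (v : Mι)) = ε • ((q : Mι) * (y : Mι) * (1 + (v : Mι))) := by
    intro v r e q hqv ε hε
    have e1 : (q : Mι) * (1 + (v : Mι)) = (1 + (v : Mι)) * (q : Mι) := by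
      rw [mul_add, add_mul, Matrix.one_mul, Matrix.mul_one, ← Units.val_mul, hqv.eq, Units.val_mul]
    rw [mul_assoc, e1, ← mul_assoc, e, mul_assoc, ← e1, ← mul_assoc, hε, Matrix.smul_mul, mul_assoc, mul_assoc, e]
  have hboth : ∀ {q : GL ι F}, Commute q w → ∀ ε₀ ε₁ : F, (r₀ : Mι) * (q : Mι) = ε₀ • ((q : Mι) * (r₀ : Mι)) →
      (r₁ : Mι) * (q : Mι) = ε₁ • ((q : Mι) * (r₁ : Mι)) →
      (2 : F) • ((y : Mι) * (q : Mι)) = ε₀ • ((q : Mι) * (y : Mι) * (1 + ((-w : GL ι F) : Mι))) +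
        ε₁ • ((q : Mι) * (y : Mι) * (1 + (w : Mι))) := fun {q} hqw' ε₀ ε₁ a b => by
    rw [← hact h0 hqw'.neg_right ε₀ a, ← hact h1 hqw' ε₁ b, ← mul_add, Units.val_neg,
      show (1 : Mι) + -(w : Mι) + (1 + (w : Mι)) = (2 : F) • 1 by rw [two_smul]; abel, Matrix.mul_smul,
      Matrix.mul_one]
  have hsgn : ∀ {r q : GL ι F}, r ∈ R → q ∈ R → ∃ ε : F, (ε = 1 ∨ ε = -1) ∧
      (r : Mι) * (q : Mι) = ε • ((q : Mι) * (r : Mι)) ∧ (ε = 1 ↔ Commute r q) := by
    intro r q hr hq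
    rcases hR.comm r hr q hq with e | e
    · exact ⟨1, Or.inl rfl, by rw [one_smul, ← Units.val_mul, e.eq, Units.val_mul], iff_of_true rfl e⟩
    · refine ⟨-1, Or.inr rfl, by rw [neg_one_smul, ← Units.val_mul, e, Units.val_neg, Units.val_mul],
        iff_of_false (fun h' => h2 (by linear_combination -h')) fun h' => hR.not_anti h' e⟩
  obtain ⟨m, hmdef⟩ : ∃ m, m = r₀⁻¹ * r₁ := ⟨_, rfl⟩
  have hm : m ∈ R := hmdef ▸ R.mul_mem (R.inv_mem hr₀) hr₁
  have hr₁m : r₁ = r₀ * m := by rw [hmdef, mul_inv_cancel_left]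
  refine ⟨?_, ?_⟩
  · haveI : Finite (GL ι F) := Finite.of_injective (fun g => (g : Mι)) fun _ _ => Units.ext
    have c1 := card_ec (S := R) (y := w) fun r hr => hR.comm r hr w hw.mem
    have c2 := card_ec (S := ec R w) (y := m) fun r hr => hR.comm r (mem_ec.1 hr).1 m hm
    have c3 : Nat.card (ec (ec R w) m) ≤ Nat.card (sc R y) := by
      refine Subgroup.card_le_of_le fun q hq' => ?_
      obtain ⟨hq1, hqm⟩ := mem_ec.1 hq'
      obtain ⟨hqR, hqw'⟩ := mem_ec.1 hq1
      obtain ⟨ε₀, hε, a, hiff⟩ := hsgn hr₀ hqR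
      obtain ⟨ε₁, hε', b, hiff'⟩ := hsgn hr₁ hqR
      have hii : Commute r₁ q ↔ Commute r₀ q := by
        rw [hr₁m]
        exact ⟨fun h' => by simpa using h'.mul_left hqm.symm.inv_left, fun h' => h'.mul_left hqm.symm⟩
      have heq : ε₁ = ε₀ := by
        rcases hε with rfl | rfl <;> rcases hε' with rfl | rfl
        · rfl
        · exact (hiff'.2 (hii.2 (hiff.1 rfl)))
        · exact (hiff.2 (hii.1 (hiff'.1 rfl))).symm
        · rfl
      have e := hboth hqw' ε₀ ε₁ a b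
      rw [heq, ← smul_add, ← mul_add, Units.val_neg,
        show (1 : Mι) + -(w : Mι) + (1 + (w : Mι)) = (2 : F) • 1 by rw [two_smul]; abel, Matrix.mul_smul,
        Matrix.mul_one, smul_comm] at e
      have e' := smul_right_injective Mι h2 e
      refine ⟨hqR, ?_⟩
      rcases hε with rfl | rfl
      · exact Or.inl (Units.ext (by rw [Units.val_mul, Units.val_mul, e', one_smul])).symm
      · exact Or.inr (Anti.symm (Units.ext (by
          rw [Units.val_mul, Units.val_neg, Units.val_mul, e', neg_one_smul])))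
    omega
  · have hyval : (2 : F) • (y : Mι) =
        (r₀ : Mι) * (1 + ((-w : GL ι F) : Mι)) + (r₁ : Mι) * (1 + (w : Mι)) := by
      rw [← h0, ← h1, ← mul_add, Units.val_neg,
        show (1 : Mι) + -(w : Mι) + (1 + (w : Mι)) = (2 : F) • 1 by rw [two_smul]; abel, Matrix.mul_smul,
        Matrix.mul_one]
    have hmne : ¬ Sgn m 1 ∧ ¬ Sgn m w := by
      constructor <;> intro hs <;> refine hyR ?_
      · rcases hs with e | e <;> rw [hr₁m, e, Units.val_mul] at hyval
        · rw [Units.val_one, Matrix.mul_one, ← mul_add, Units.val_neg,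
            show (1 : Mι) + -(w : Mι) + (1 + (w : Mι)) = (2 : F) • 1 by rw [two_smul]; abel, Matrix.mul_smul,
            Matrix.mul_one] at hyval
          exact (show y = r₀ from Units.ext (smul_right_injective Mι h2 hyval)) ▸ hr₀
        · have : y = -(r₀ * w) := Units.ext (smul_right_injective Mι h2 (hyval.trans (by
            simp only [Units.val_neg, Units.val_one, Units.val_mul, mul_add, mul_neg, neg_mul, Matrix.mul_one,
              Matrix.one_mul]
            module)))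
          exact this ▸ hR.neg_mem (R.mul_mem hr₀ hw.mem)
      · rcases hs with e | e <;> rw [hr₁m, e, Units.val_mul] at hyval
        · have : y = r₀ := Units.ext (smul_right_injective Mι h2 (hyval.trans (by
            simp only [Units.val_neg, mul_add, mul_neg, neg_mul, Matrix.mul_one, mul_assoc, ew]
            module)))
          exact this ▸ hr₀
        · have : y = -(r₀ * w) := Units.ext (smul_right_injective Mι h2 (hyval.trans (by
            simp only [Units.val_neg, Units.val_mul, mul_add, mul_neg, neg_mul, Matrix.mul_one, mul_assoc, ew]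
            module)))
          exact this ▸ hR.neg_mem (R.mul_mem hr₀ hw.mem)
    have hwm : w * m ≠ 1 ∧ w * m ≠ -1 := by
      constructor <;> intro e
      · exact hmne.2 (Or.inl (by rw [← one_mul m, ← hw.sq, mul_assoc, e, mul_one]))
      · exact hmne.2 (Or.inr (by rw [← one_mul m, ← hw.sq, mul_assoc, e, mul_neg, mul_one]))
    obtain ⟨q₂, hq₂, hqw₂, hqm⟩ := hR.exists_sign hw.mem hm (fun e => hmne.1 (Or.inl e))
      (fun e => hmne.1 (Or.inr e)) hwm.1 hwm.2
    obtain ⟨ε₀, hε, a, hiff⟩ := hsgn hr₀ hq₂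
    obtain ⟨ε₁, hε', b, hiff'⟩ := hsgn hr₁ hq₂
    have heq : ε₁ = -ε₀ := by
      rcases hε with rfl | rfl <;> rcases hε' with rfl | rfl
      · exact absurd (show Anti r₁ q₂ from hr₁m ▸ Anti.comm_mul_left (hiff.1 rfl) hqm.symm)
          (hR.not_anti (hiff'.1 rfl))
      · rfl
      · rw [neg_neg]
      · exfalso
        have h0' : Anti r₀ q₂ := (hR.comm r₀ hr₀ q₂ hq₂).resolve_left fun h' => by
          have := hiff.2 h'; exact h2 (by linear_combination -this)
        have hc : Commute r₁ q₂ := hr₁m ▸ h0'.mul_anti_left hqm.symm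
        have := hiff'.2 hc; exact h2 (by linear_combination -this)
    have e := hboth hqw₂ ε₀ ε₁ a b
    rw [heq] at e
    obtain ⟨c, hc⟩ : ∃ c : F, c = -ε₀ := ⟨_, rfl⟩
    have e' : (y : Mι) * (q₂ : Mι) = c • ((q₂ : Mι) * ((w : Mι) * (y : Mι))) := by
      refine smul_right_injective Mι h2 (e.trans ?_)
      rw [← eyw, hc]
      simp only [Units.val_neg, mul_add, mul_neg, Matrix.mul_one, mul_assoc]
      module
    have hsg : Sgn (q₂⁻¹ * y * q₂ * y⁻¹) w := by
      rcases hε with rfl | rfl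
      · refine Or.inr ?_
        have e2 : y * q₂ = -(q₂ * (w * y)) := Units.ext (by
          rw [Units.val_mul, Units.val_neg, Units.val_mul, Units.val_mul, e', hc, neg_one_smul])
        rw [mul_assoc q₂⁻¹, e2, mul_neg, neg_mul, inv_mul_cancel_left, mul_inv_cancel_right]
      · refine Or.inl ?_
        have e2 : y * q₂ = q₂ * (w * y) := Units.ext (by
          rw [Units.val_mul, Units.val_mul, Units.val_mul, e', hc, neg_neg, one_smul])
        rw [mul_assoc q₂⁻¹, e2, inv_mul_cancel_left, mul_inv_cancel_right]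
    refine ⟨⟨q₂⁻¹, R.inv_mem hq₂⟩, ?_⟩
    rw [hR.bracket_apply hy, hR.mk_eq_iff]
    simpa using hsg

theorem Over.large (h : Over R M) {z g b : GL ι F} (hz : Sing R z) (hb : Sing R b) (hg : g ∈ M)
    (hby : Commute b (g * z * g⁻¹)) :
    let b' := g⁻¹ * b * g
    b' ∈ subgroupNormalizer R ∧ ∀ m, m ≤ Nat.card (sc R b') → m ≤ 4 * Nat.card (ec (ec (sc R b') b') z) := by
  intro b'
  haveI : Finite (GL ι F) := Finite.of_injective (fun g => (g : Mι)) fun _ _ => Units.ext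
  refine ⟨h.centre hz (M.mul_mem (M.mul_mem (M.inv_mem hg) (h.R_le hb.mem)) hg) (Or.inl ?_), fun m hm => ?_⟩
  · have := commute_conj hby g⁻¹
    rw [inv_inv, show g⁻¹ * (g * z * g⁻¹) * g = z by group] at this
    rw [this.eq, mul_inv_cancel_right]
  · have c1 := card_ec (S := sc R b') (y := b') fun r hr => hr.2
    have c2 := card_ec (S := ec (sc R b') b') (y := z) fun r hr => h.frame.comm r (mem_ec.1 hr).1.1 z hz.mem
    omega

/-- An element carrying a non-central involution into the normaliser normalises. -/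
theorem Over.weak (h : Over R M) {z g : GL ι F} (hz : Sing R z) (hg : g ∈ M)
    (hy : g * z * g⁻¹ ∈ subgroupNormalizer R) : g ∈ subgroupNormalizer R := by
  classical
  haveI : Finite (GL ι F) := Finite.of_injective (fun g => (g : Mι)) fun _ _ => Units.ext
  haveI : Finite (R ⧸ Subgroup.center R) := inferInstance
  have hR := h.frame
  obtain ⟨k, hk4, hk⟩ := h.deg
  by_contra hgN
  have hp5 : 2 ^ 5 ≤ 2 ^ (k + 1) := Nat.pow_le_pow_right (by norm_num) (by omega)
  have hp9 : 2 ^ 9 ≤ 2 ^ (2 * k + 1) := Nat.pow_le_pow_right (by norm_num) (by omega)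
  have hconj1 : ∀ {g z : GL ι F}, z * z = 1 → ∀ r ∈ R,
      Sgn (g * z * g⁻¹ * (g * z * g⁻¹) * r * (g * z * g⁻¹ * (g * z * g⁻¹))⁻¹) r := fun {g z} hzz r _ => Or.inl (by
    rw [show g * z * g⁻¹ * (g * z * g⁻¹) = g * (z * z) * g⁻¹ by group, hzz, mul_one, mul_inv_cancel, one_mul,
      inv_one, mul_one])
  obtain ⟨b, hbS, hb⟩ := hR.exists_sing_of_card (S := ec (sc R (g * z * g⁻¹)) (g * z * g⁻¹))
    (fun r hr => (mem_ec.1 hr).1.1) (by
      have c1 := card_ec (S := sc R (g * z * g⁻¹)) (y := g * z * g⁻¹) fun r hr => hr.2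
      have c3 := hR.card_sc hy hk (hconj1 hz.sq)
      omega)
  have hby : Commute b (g * z * g⁻¹) := (mem_ec.1 hbS).2
  obtain ⟨b', hb'def⟩ : ∃ b', b' = g⁻¹ * b * g := ⟨_, rfl⟩
  obtain ⟨hb'N, hlarge⟩ := h.large hz hb hg hby
  rw [← hb'def] at hb'N hlarge
  have hbb' : ∀ r ∈ R, Sgn (b' * b' * r * (b' * b')⁻¹) r := fun r _ => Or.inl (by
    rw [hb'def, show g⁻¹ * b * g * (g⁻¹ * b * g) = g⁻¹ * (b * b) * g by group, hb.sq, mul_one, inv_mul_cancel,
      one_mul, inv_one, mul_one])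
  obtain ⟨P, hPdef⟩ : ∃ P, P = ec (ec (sc R b') b') z := ⟨_, rfl⟩
  rw [← hPdef] at hlarge
  have hPmem : ∀ a ∈ P, a ∈ R ∧ Commute a z ∧ Commute b (g * a * g⁻¹) := by
    intro a ha
    rw [hPdef] at ha
    obtain ⟨ha1, haz⟩ := mem_ec.1 ha
    obtain ⟨ha2, hab⟩ := mem_ec.1 ha1
    refine ⟨ha2.1, haz, ?_⟩
    have := commute_conj hab.symm g
    rwa [show g * b' * g⁻¹ = b by rw [hb'def]; group] at this
  have hbN : g⁻¹ * b * g⁻¹⁻¹ ∈ subgroupNormalizer R := by rw [inv_inv, ← hb'def]; exact hb'N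
  have hgN' : g⁻¹ ∉ subgroupNormalizer R := fun h' => hgN (by simpa using inv_mem h')
  -- rank bound for the inverse
  have hbig : Nat.card R ≤ 4 * Nat.card (sc R b') := by
    have hzb' : Commute z (g⁻¹ * b * g⁻¹⁻¹) := by
      have := commute_conj hby g⁻¹
      rw [inv_inv, show g⁻¹ * (g * z * g⁻¹) * g = z by group] at this
      rw [inv_inv]; exact this.symm
    obtain ⟨hzN, hlarge'⟩ := h.large hb hz (M.inv_mem hg) hzb'
    rw [inv_inv] at hzN hlarge'
    have c := hlarge' _ (hR.card_sc hy hk (hconj1 hz.sq))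
    obtain ⟨a, ha, hne⟩ := exists_not_mem (S := ec (ec (sc R (g * z * g⁻¹)) (g * z * g⁻¹)) b)
      ({1, -1, b, -b} : Finset (GL ι F)) (Finset.card_le_four.trans_lt (by omega))
    simp only [Finset.mem_insert, Finset.mem_singleton, not_or] at hne
    obtain ⟨n1, n2, n3, n4⟩ := hne
    obtain ⟨ha1, hab⟩ := mem_ec.1 ha
    obtain ⟨ha2, hay⟩ := mem_ec.1 ha1
    have hza : Commute z (g⁻¹ * a * g⁻¹⁻¹) := by
      have := commute_conj hay g⁻¹
      rw [inv_inv, show g⁻¹ * (g * z * g⁻¹) * g = z by group] at this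
      rw [inv_inv]; exact this.symm
    obtain ⟨w, u, hw, -, hwy, hK, -⟩ := h.datum hb (M.inv_mem hg) hgN' hbN ha2.1 hab
      (fun hs => hs.elim n1 n2) (fun hs => hs.elim n3 n4) hz hzb' hza
    have hr := (hR.rank hbN (by
      rw [show g⁻¹ * b * g⁻¹⁻¹ * (g⁻¹ * b * g⁻¹⁻¹) = g⁻¹ * (b * b) * g⁻¹⁻¹ by group, hb.sq, mul_one, mul_inv_cancel])
      (fun hin => hgN' (h.mem_of_maps hb (M.inv_mem hg) hin)) hw hwy hK).1
    rwa [inv_inv, ← hb'def] at hr
  have hP : Nat.card R ≤ 16 * Nat.card P := by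
    have := hlarge _ le_rfl
    omega
  -- the injection
  obtain ⟨y, hydef⟩ : ∃ y, y = g * z * g⁻¹ := ⟨_, rfl⟩
  rw [← hydef] at hy hby
  have hyR : y ∉ R := fun hin => hgN (h.mem_of_maps hz hg (hydef ▸ hin))
  have hyy : y * y = 1 := by
    rw [hydef, show g * z * g⁻¹ * (g * z * g⁻¹) = g * (z * z) * g⁻¹ by group, hz.sq, mul_one, mul_inv_cancel]
  have hdat : ∀ a : P, ¬ (Sgn (a : GL ι F) 1 ∨ Sgn (a : GL ι F) z) → ∃ w u, Sing R w ∧ u ∈ R ∧ Commute w y ∧
      ctrl (-y) w ∈ subgroupNormalizer R ∧ Sgn (g * (a : GL ι F) * g⁻¹) (u * (ctrl (-y) w)⁻¹) := by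
    intro a hne
    obtain ⟨haR, haz, hba⟩ := hPmem a a.2
    have := h.datum hz hg hgN (hydef ▸ hy) haR haz (fun hs => hne (Or.inl hs)) (fun hs => hne (Or.inr hs)) hb
      (hydef ▸ hby) hba
    rwa [← hydef] at this
  choose wf uf hwf huf hwyf hKf hYf using hdat
  let f : P → R ⧸ Subgroup.center R := fun a =>
    if hne : Sgn (a : GL ι F) 1 ∨ Sgn (a : GL ι F) z then 1 else ((⟨wf a hne, (hwf a hne).mem⟩ : R) : R ⧸ Subgroup.center R)
  have hrange : ∀ a, f a ∈ (hR.bracket hy).range := by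
    intro a
    simp only [f]
    split
    · exact one_mem _
    · rename_i hne
      exact (hR.rank hy hyy hyR (hwf a hne) (hwyf a hne) (hKf a hne)).2
  have hdiff : ∀ a₁ a₂ : P, f a₁ = f a₂ → Sgn ((a₁ : GL ι F)⁻¹ * a₂) 1 ∨ Sgn ((a₁ : GL ι F)⁻¹ * a₂) z := by
    intro a₁ a₂ e
    simp only [f] at e
    have hR1 := hR.mk_eq_iff
    split at e <;> split at e
    · rename_i p q
      have hz' : ∀ {a : GL ι F}, Sgn a z → Sgn a⁻¹ z := fun h' => by
        have := h'.inv; rwa [inv_eq_of_mul_eq_one_left hz.sq] at this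
      rcases p with p | p <;> rcases q with q | q
      · exact Or.inl (by have := p.inv.mul q; rwa [inv_one, one_mul] at this)
      · exact Or.inr (by have := p.inv.mul q; rwa [inv_one, one_mul] at this)
      · exact Or.inr (by have := (hz' p).mul q; rwa [mul_one] at this)
      · exact Or.inl (by have := (hz' p).mul q; rwa [hz.sq] at this)
    · rename_i _ hne
      exact absurd ((hR1 (1 : R) _).1 e).symm (fun hs => hs.elim (hwf a₂ hne).ne_one (hwf a₂ hne).ne_neg)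
    · rename_i hne _
      exact absurd ((hR1 _ (1 : R)).1 e) (fun hs => hs.elim (hwf a₁ hne).ne_one (hwf a₁ hne).ne_neg)
    · rename_i h₁ h₂
      by_contra hcon
      push Not at hcon
      obtain ⟨hR1', haz1, hb1⟩ := hPmem _ a₁.2
      obtain ⟨hR2', haz2, hb2⟩ := hPmem _ a₂.2
      have hs : Sgn (wf a₁ h₁) (wf a₂ h₂) := (hR1 _ _).1 e
      obtain ⟨a, hadef⟩ : ∃ a, a = (a₁ : GL ι F)⁻¹ * a₂ := ⟨_, rfl⟩
      rw [← hadef] at hcon
      have haR : a ∈ R := hadef ▸ R.mul_mem (R.inv_mem hR1') hR2'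
      have haz : Commute a z := hadef ▸ haz1.inv_left.mul_left haz2
      obtain ⟨K, hKdef⟩ : ∃ K, K = ctrl (-y) (wf a₁ h₁) := ⟨_, rfl⟩
      have hKN : K ∈ subgroupNormalizer R := hKdef ▸ hKf a₁ h₁
      have h1 := (hYf a₁ h₁).inv.mul (hYf a₂ h₂)
      rw [show (g * (a₁ : GL ι F) * g⁻¹)⁻¹ * (g * (a₂ : GL ι F) * g⁻¹) = g * a * g⁻¹ by rw [hadef]; group,
        ← hKdef] at h1
      have hmem : K * ((uf a₁ h₁)⁻¹ * uf a₂ h₂) * K⁻¹ ∈ R :=
        conj_mem hKN (R.mul_mem (R.inv_mem (huf a₁ h₁)) (huf a₂ h₂))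
      rcases hs with hs | hs
      · rw [← hs, ← hKdef, show (uf a₁ h₁ * K⁻¹)⁻¹ * (uf a₂ h₂ * K⁻¹) =
          K * ((uf a₁ h₁)⁻¹ * uf a₂ h₂) * K⁻¹ by group] at h1
        exact hgN (h.mem_of_two hz hg (hydef ▸ hy) haR haz hcon.1 hcon.2 (hR.mem_of_sgn hmem h1))
      · have hny : -y * -y = 1 := by rw [neg_mul_neg, hyy]
        have hK2 : ctrl (-y) (wf a₂ h₂) = K * -y := by
          rw [hKdef, ← ctrl_neg_one hR.two hny,
            ctrl_neg_one hR.two hny]
          nth_rewrite 3 [← ctrl_neg_one hR.two hny]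
          rw [ctrl_mul hR.two hny (hwyf a₁ h₁).symm.neg_left (Commute.neg_one_right _), mul_neg, mul_one, hs,
            neg_neg]
        rw [hK2, show (uf a₁ h₁ * K⁻¹)⁻¹ * (uf a₂ h₂ * (K * -y)⁻¹) =
          K * ((uf a₁ h₁)⁻¹ * uf a₂ h₂) * (-y)⁻¹ * K⁻¹ by group, inv_eq_of_mul_eq_one_left hny] at h1
        have hKy : Commute y K := by
          rw [hKdef]
          exact commute_ctrl hR.two hny (hwyf a₁ h₁).symm.neg_left (Commute.refl y).neg_right (hwyf a₁ h₁).symm
        have h2 := h1.mul (Sgn.refl y)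
        rw [show K * ((uf a₁ h₁)⁻¹ * uf a₂ h₂) * -y * K⁻¹ * y = -(K * ((uf a₁ h₁)⁻¹ * uf a₂ h₂) * (y * K⁻¹ * y)) by
          simp only [mul_neg, neg_mul, mul_assoc], hKy.inv_right.eq, mul_assoc K⁻¹, hyy, mul_one,
          show g * a * g⁻¹ * y = g * (a * z) * g⁻¹ by rw [hydef]; group] at h2
        refine hgN (h.mem_of_two hz hg (hydef ▸ hy) (R.mul_mem haR hz.mem) (haz.mul_left (Commute.refl z))
          (fun hs' => hcon.2 ?_) (fun hs' => hcon.1 ?_) (hR.mem_of_sgn (hR.neg_mem hmem) h2))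
        · have := hs'.mul (Sgn.refl z)
          rwa [mul_assoc, hz.sq, mul_one, one_mul] at this
        · have := hs'.mul (Sgn.refl z)
          rwa [mul_assoc, hz.sq, mul_one] at this
  haveI : Fintype P := Fintype.ofFinite _
  have hcount : (Finset.univ : Finset P).card ≤ 4 * (Finset.univ.image f).card := by
    refine Finset.card_le_mul_card_image _ 4 fun v hv => ?_
    obtain ⟨a₁, -, rfl⟩ := Finset.mem_image.1 hv
    refine (Finset.card_le_card_of_injOn (fun a : P => (a₁ : GL ι F)⁻¹ * a) (t := ({1, -1, z, -z} : Finset (GL ι F)))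
      ?_ ?_).trans Finset.card_le_four
    · intro a ha
      simp only [Finset.coe_filter, Finset.mem_univ, true_and, Set.mem_setOf_eq] at ha
      simp only [Finset.coe_insert, Finset.coe_singleton, Set.mem_insert_iff, Set.mem_singleton_iff]
      rcases hdiff a₁ a ha.symm with (e | e) | (e | e)
      · exact Or.inl e
      · exact Or.inr (Or.inl e)
      · exact Or.inr (Or.inr (Or.inl e))
      · exact Or.inr (Or.inr (Or.inr e))
    · intro a _ a' _ e
      exact Subtype.ext (mul_left_cancel e)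
  have himg : (Finset.univ.image f).card ≤ Nat.card (hR.bracket hy).range := by
    haveI : Fintype (hR.bracket hy).range := Fintype.ofFinite _
    rw [Nat.card_eq_fintype_card (α := (hR.bracket hy).range), ← Fintype.card_coe]
    refine Fintype.card_le_of_injective (fun v => (⟨v.1, ?_⟩ : (hR.bracket hy).range)) fun v v' e =>
      Subtype.ext (by simpa using e)
    obtain ⟨a, -, hva⟩ := Finset.mem_image.1 v.2
    exact hva ▸ hrange a
  have hrg : Nat.card (hR.bracket hy).range ≤ 4 := by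
    obtain ⟨a, ha, hne⟩ := exists_not_mem (S := P) ({1, -1, z, -z} : Finset (GL ι F))
      (Finset.card_le_four.trans_lt (by rw [hR.card_pow hk] at hP; omega))
    simp only [Finset.mem_insert, Finset.mem_singleton, not_or] at hne
    obtain ⟨n1, n2, n3, n4⟩ := hne
    have hne' : ¬ (Sgn a 1 ∨ Sgn a z) := fun hs => hs.elim (fun e => e.elim n1 n2) (fun e => e.elim n3 n4)
    have hr := (hR.rank hy hyy hyR (hwf ⟨a, ha⟩ hne') (hwyf _ hne') (hKf _ hne')).1
    rw [hR.card_range hy, mul_comm 4] at hr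
    exact Nat.le_of_mul_le_mul_left hr Nat.card_pos
  rw [Finset.card_univ, ← Nat.card_eq_fintype_card] at hcount
  rw [hR.card_pow hk] at hP
  omega

end CfsgLib.MaxSub.SymReal
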